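import Mathlib
import Cfsg.Agent.H10.HO.Defs

/-!
# HO-CZM (S2075, helper10's project HO): an element `m` of `SL₅(2)` with `m⁸ = 1`, `m⁴ ≠ 1` has a
centraliser of order at most 16.

`N = m - 1` is nilpotent with `N⁴ ≠ 0`, `N⁵ = 0`; for `v` with `N⁴ v ≠ 0` the vectors `Nⁱ v`
(`i < 5`) form a basis, a matrix commuting with `N` is determined by the image `w` of `v`, and it is
invertible only if the coefficient of `v` in `w` is non-zero: 16 possibilities.
-/

set_option autoImplicit false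

namespace Cfsg.Agent.H44.Ho

open Cfsg.Agent.H10.HO Matrix

/-- a nilpotent `5 × 5` matrix has fifth power zero -/
theorem pow5_zero (N : Matrix (Fin 5) (Fin 5) (ZMod 2)) (h : N ^ 8 = 0) : N ^ 5 = 0 := by
  have hn : IsNilpotent N := ⟨8, h⟩
  have h1 := Matrix.isNilpotent_charpoly_sub_pow_of_isNilpotent hn
  have h2 : N.charpoly - Polynomial.X ^ (Fintype.card (Fin 5)) = 0 := h1.eq_zero
  have h3 : N.charpoly = Polynomial.X ^ 5 := by
    rw [Fintype.card_fin] at h2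
    exact sub_eq_zero.mp h2
  have h4 := Matrix.aeval_self_charpoly N
  rw [h3, map_pow, Polynomial.aeval_X] at h4
  exact h4

/-- the vector `Σ cᵢ Nⁱ v` -/
def comb5 (N : Matrix (Fin 5) (Fin 5) (ZMod 2)) (v : Fin 5 → ZMod 2) (c : Fin 5 → ZMod 2) :
    Fin 5 → ZMod 2 :=
  ∑ i : Fin 5, c i • (N ^ (i : ℕ)) *ᵥ v

theorem pow_mulVec_comb5 (N : Matrix (Fin 5) (Fin 5) (ZMod 2)) (v c : Fin 5 → ZMod 2) (k : ℕ) :
    (N ^ k) *ᵥ comb5 N v c = ∑ i : Fin 5, c i • (N ^ (k + (i : ℕ))) *ᵥ v := by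
  unfold comb5
  rw [Matrix.mulVec_sum]
  apply Finset.sum_congr rfl
  intro i _
  rw [Matrix.mulVec_smul, Matrix.mulVec_mulVec, ← pow_add]

theorem comb5_aux (N : Matrix (Fin 5) (Fin 5) (ZMod 2)) (v : Fin 5 → ZMod 2) (h5 : N ^ 5 = 0)
    (c : Fin 5 → ZMod 2) (k : ℕ) (hk : k < 5) (hlow : ∀ i : Fin 5, i.val < k → c i = 0) :
    (N ^ (4 - k)) *ᵥ comb5 N v c = c ⟨k, hk⟩ • (N ^ 4) *ᵥ v := by
  rw [pow_mulVec_comb5]
  rw [Finset.sum_eq_single (⟨k, hk⟩ : Fin 5)]
  · have e : 4 - k + ((⟨k, hk⟩ : Fin 5) : ℕ) = 4 := by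
      show 4 - k + k = 4
      omega
    rw [e]
  · intro i _ hi
    rcases lt_or_gt_of_ne (fun h => hi (Fin.ext h) : i.val ≠ k) with h | h
    · rw [hlow i h, zero_smul]
    · have e : N ^ (4 - k + (i : ℕ)) = 0 := pow_eq_zero_of_le (by omega) h5
      rw [e, Matrix.zero_mulVec, smul_zero]
  · intro h
    exact absurd (Finset.mem_univ _) h

theorem comb5_eq_zero (N : Matrix (Fin 5) (Fin 5) (ZMod 2)) (v : Fin 5 → ZMod 2) (h5 : N ^ 5 = 0)
    (h4 : (N ^ 4) *ᵥ v ≠ 0) (c : Fin 5 → ZMod 2) (hc : comb5 N v c = 0) : c = 0 := by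
  have key : ∀ k : ℕ, ∀ hk : k < 5, c ⟨k, hk⟩ = 0 := by
    intro k
    induction k using Nat.strong_induction_on with
    | _ k ih =>
      intro hk
      have e := comb5_aux N v h5 c k hk (fun i hi => ih i.val hi i.isLt)
      rw [hc, Matrix.mulVec_zero] at e
      rcases smul_eq_zero.mp e.symm with h | h
      · exact h
      · exact absurd h h4
  funext i
  exact key i.val i.isLt

theorem comb5_sub (N : Matrix (Fin 5) (Fin 5) (ZMod 2)) (v c c' : Fin 5 → ZMod 2) :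
    comb5 N v (c - c') = comb5 N v c - comb5 N v c' := by
  unfold comb5
  rw [← Finset.sum_sub_distrib]
  apply Finset.sum_congr rfl
  intro i _
  rw [Pi.sub_apply, sub_smul]

theorem comb5_injective (N : Matrix (Fin 5) (Fin 5) (ZMod 2)) (v : Fin 5 → ZMod 2) (h5 : N ^ 5 = 0)
    (h4 : (N ^ 4) *ᵥ v ≠ 0) : Function.Injective (comb5 N v) := by
  intro c c' h
  have h1 : comb5 N v (c - c') = 0 := by rw [comb5_sub, h, sub_self]
  exact sub_eq_zero.mp (comb5_eq_zero N v h5 h4 _ h1)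

theorem comb5_surjective (N : Matrix (Fin 5) (Fin 5) (ZMod 2)) (v : Fin 5 → ZMod 2) (h5 : N ^ 5 = 0)
    (h4 : (N ^ 4) *ᵥ v ≠ 0) : Function.Surjective (comb5 N v) :=
  Finite.surjective_of_injective (comb5_injective N v h5 h4)

/-- a matrix commuting with `N` maps `Σ cᵢ Nⁱ v` to `Σ cᵢ Nⁱ (B v)` -/
theorem mulVec_comb5 (N B : Matrix (Fin 5) (Fin 5) (ZMod 2)) (hB : B * N = N * B)
    (v c : Fin 5 → ZMod 2) : B *ᵥ comb5 N v c = comb5 N (B *ᵥ v) c := by
  unfold comb5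
  rw [Matrix.mulVec_sum]
  apply Finset.sum_congr rfl
  intro i _
  have hc : B * N ^ (i : ℕ) = N ^ (i : ℕ) * B := (Commute.pow_right (show Commute B N from hB) _).eq
  rw [Matrix.mulVec_smul, Matrix.mulVec_mulVec, hc, ← Matrix.mulVec_mulVec]

theorem pow4_comb5 (N : Matrix (Fin 5) (Fin 5) (ZMod 2)) (v : Fin 5 → ZMod 2) (h5 : N ^ 5 = 0)
    (c : Fin 5 → ZMod 2) : (N ^ 4) *ᵥ comb5 N v c = c 0 • (N ^ 4) *ᵥ v :=
  comb5_aux N v h5 c 0 (by norm_num) (fun i hi => absurd hi (Nat.not_lt_zero _))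

theorem card_sub : Nat.card {c : Fin 5 → ZMod 2 // c 0 ≠ 0} = 16 := by
  rw [Nat.card_eq_fintype_card]
  decide

/-- HO-CZM -/
theorem czm : StCZM := by
  intro m h8 h4
  have hA8 : (m : Matrix (Fin 5) (Fin 5) (ZMod 2)) ^ 8 = 1 := by
    rw [← Matrix.SpecialLinearGroup.coe_pow, h8, Matrix.SpecialLinearGroup.coe_one]
  have hA4 : (m : Matrix (Fin 5) (Fin 5) (ZMod 2)) ^ 4 ≠ 1 := by
    intro h
    apply h4
    apply Subtype.ext
    rw [Matrix.SpecialLinearGroup.coe_pow, h, Matrix.SpecialLinearGroup.coe_one]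
  obtain ⟨N, hN⟩ : ∃ N : Matrix (Fin 5) (Fin 5) (ZMod 2), N = (m : Matrix (Fin 5) (Fin 5) (ZMod 2)) - 1 :=
    ⟨_, rfl⟩
  have hcomm : Commute (m : Matrix (Fin 5) (Fin 5) (ZMod 2)) 1 := Commute.one_right _
  have hN8 : N ^ 8 = 0 := by
    have h := sub_pow_char_pow_of_commute (p := 2) (n := 3) hcomm
    rw [hN]
    have e : (2 : ℕ) ^ 3 = 8 := by norm_num
    rw [e] at h
    rw [h, hA8, one_pow, sub_self]
  have hN4 : N ^ 4 ≠ 0 := by
    intro h0
    have h := sub_pow_char_pow_of_commute (p := 2) (n := 2) hcomm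
    have e : (2 : ℕ) ^ 2 = 4 := by norm_num
    rw [e, ← hN, h0, one_pow] at h
    exact hA4 (sub_eq_zero.mp h.symm)
  have hN5 := pow5_zero N hN8
  obtain ⟨v, hv⟩ : ∃ v : Fin 5 → ZMod 2, (N ^ 4) *ᵥ v ≠ 0 := by
    by_contra hcon
    push Not at hcon
    apply hN4
    apply Matrix.mulVec_injective
    funext v
    rw [hcon v, Matrix.zero_mulVec]
  have hsurj := comb5_surjective N v hN5 hv
  -- the elements of the centraliser commute with `N`
  have hBN : ∀ b : ↥(Subgroup.centralizer ({m} : Set SL52)),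
      ((b : SL52) : Matrix (Fin 5) (Fin 5) (ZMod 2)) * N = N * ((b : SL52) : Matrix (Fin 5) (Fin 5) (ZMod 2)) := by
    intro b
    have h1 : m * (b : SL52) = (b : SL52) * m :=
      Subgroup.mem_centralizer_iff.mp b.2 m (Set.mem_singleton m)
    have h2 : (m : Matrix (Fin 5) (Fin 5) (ZMod 2)) * ((b : SL52) : Matrix (Fin 5) (Fin 5) (ZMod 2)) =
        ((b : SL52) : Matrix (Fin 5) (Fin 5) (ZMod 2)) * (m : Matrix (Fin 5) (Fin 5) (ZMod 2)) := by
      rw [← Matrix.SpecialLinearGroup.coe_mul, ← Matrix.SpecialLinearGroup.coe_mul, h1]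
    rw [hN, mul_sub, sub_mul, mul_one, one_mul, h2]
  -- invertibility
  have hinj : ∀ (b : SL52) (w : Fin 5 → ZMod 2),
      (b : Matrix (Fin 5) (Fin 5) (ZMod 2)) *ᵥ w = 0 → w = 0 := by
    intro b w hw
    have h1 : ((b⁻¹ : SL52) : Matrix (Fin 5) (Fin 5) (ZMod 2)) * (b : Matrix (Fin 5) (Fin 5) (ZMod 2)) = 1 := by
      rw [← Matrix.SpecialLinearGroup.coe_mul, inv_mul_cancel, Matrix.SpecialLinearGroup.coe_one]
    have h2 : ((b⁻¹ : SL52) : Matrix (Fin 5) (Fin 5) (ZMod 2)) *ᵥ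
        ((b : Matrix (Fin 5) (Fin 5) (ZMod 2)) *ᵥ w) = w := by
      rw [Matrix.mulVec_mulVec, h1, Matrix.one_mulVec]
    rw [hw, Matrix.mulVec_zero] at h2
    exact h2.symm
  -- the coefficient vector of `b v`
  have hex : ∀ b : ↥(Subgroup.centralizer ({m} : Set SL52)), ∃ c : Fin 5 → ZMod 2,
      comb5 N v c = ((b : SL52) : Matrix (Fin 5) (Fin 5) (ZMod 2)) *ᵥ v := fun b => hsurj _
  have hc0 : ∀ b : ↥(Subgroup.centralizer ({m} : Set SL52)), (Classical.choose (hex b)) 0 ≠ 0 := by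
    intro b h0
    have h1 := Classical.choose_spec (hex b)
    have h2 := pow4_comb5 N v hN5 (Classical.choose (hex b))
    rw [h0, zero_smul, h1, Matrix.mulVec_mulVec] at h2
    have h3 : N ^ 4 * ((b : SL52) : Matrix (Fin 5) (Fin 5) (ZMod 2)) =
        ((b : SL52) : Matrix (Fin 5) (Fin 5) (ZMod 2)) * N ^ 4 :=
      ((Commute.pow_right (show Commute ((b : SL52) : Matrix (Fin 5) (Fin 5) (ZMod 2)) N from hBN b) 4).eq).symm
    rw [h3, ← Matrix.mulVec_mulVec] at h2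
    exact hv (hinj (b : SL52) _ h2)
  have hfinj : Function.Injective
      (fun b : ↥(Subgroup.centralizer ({m} : Set SL52)) =>
        (⟨Classical.choose (hex b), hc0 b⟩ : {c : Fin 5 → ZMod 2 // c 0 ≠ 0})) := by
    intro b b' h
    have h1 : Classical.choose (hex b) = Classical.choose (hex b') := congrArg Subtype.val h
    have h2 : ((b : SL52) : Matrix (Fin 5) (Fin 5) (ZMod 2)) *ᵥ v =
        ((b' : SL52) : Matrix (Fin 5) (Fin 5) (ZMod 2)) *ᵥ v := by
      rw [← Classical.choose_spec (hex b), ← Classical.choose_spec (hex b'), h1]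
    apply Subtype.ext
    apply Subtype.ext
    apply Matrix.mulVec_injective
    funext u
    obtain ⟨c, rfl⟩ := hsurj u
    rw [mulVec_comb5 N _ (hBN b), mulVec_comb5 N _ (hBN b'), h2]
  have hle := Nat.card_le_card_of_injective _ hfinj
  rw [card_sub] at hle
  exact hle

example : Cfsg.Agent.H10.HO.StCZM := czm

end Cfsg.Agent.H44.Ho
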