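import Cfsg.Agent.H44.SL2Torus

/-!
# The split and the non-split torus of SL₂(F), `F` finite of odd order (helper44)
-/

set_option autoImplicit false

namespace Cfsg.Agent.H44

open Matrix
open Cfsg.Agent.H65.SL2 (ext4 mul00 mul01 mul10 mul11 inv00 inv01 inv10 inv11 one00 one01 one10 one11
  neg00 neg01 neg10 neg11)

variable {F : Type*} [Field F]

/-! ### The split torus -/

theorem sl2_trace_sq_diag (d : Matrix.SpecialLinearGroup (Fin 2) F) (h01 : d.1 0 1 = 0)
    (hsq : d.1 0 0 ^ 2 ≠ 1) : (d.1 0 0 + d.1 1 1) ^ 2 ≠ 4 := by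
  have hd := Cfsg.Agent.H65.SL2.det_eq d
  rw [h01, zero_mul, sub_zero] at hd
  intro h
  have h1 : (d.1 0 0 - d.1 1 1) ^ 2 = 0 := by linear_combination h - 4 * hd
  have h2 : d.1 0 0 = d.1 1 1 := by
    have := pow_eq_zero_iff (two_ne_zero) |>.mp h1
    linear_combination this
  apply hsq
  rw [pow_two]
  nth_rewrite 2 [h2]
  exact hd

theorem sl2_card_centralizer_diag [Fintype F] (d : Matrix.SpecialLinearGroup (Fin 2) F)
    (h01 : d.1 0 1 = 0) (h10 : d.1 1 0 = 0) (hsq : d.1 0 0 ^ 2 ≠ 1) :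
    Nat.card (Subgroup.centralizer ({d} : Set (Matrix.SpecialLinearGroup (Fin 2) F))) =
      Fintype.card F - 1 := by
  classical
  have e : Subgroup.centralizer ({d} : Set (Matrix.SpecialLinearGroup (Fin 2) F)) ≃
      {g : Matrix.SpecialLinearGroup (Fin 2) F // g.1 0 1 = 0 ∧ g.1 1 0 = 0} :=
    Equiv.subtypeEquivRight (sl2_mem_centralizer_diag d h01 h10 hsq)
  rw [Nat.card_congr e, Nat.card_congr diagEquiv, Nat.card_eq_fintype_card, Fintype.card_units]

theorem sl2_isCyclic_centralizer_diag [Finite F] (d : Matrix.SpecialLinearGroup (Fin 2) F)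
    (h01 : d.1 0 1 = 0) (h10 : d.1 1 0 = 0) (hsq : d.1 0 0 ^ 2 ≠ 1) :
    IsCyclic (Subgroup.centralizer ({d} : Set (Matrix.SpecialLinearGroup (Fin 2) F))) := by
  have hmem := sl2_mem_centralizer_diag d h01 h10 hsq
  let f : Subgroup.centralizer ({d} : Set (Matrix.SpecialLinearGroup (Fin 2) F)) →* F :=
    { toFun := fun g => g.1.1 0 0
      map_one' := by simp
      map_mul' := by
        intro x y
        obtain ⟨x01, -⟩ := (hmem x.1).mp x.2
        simp only [Subgroup.coe_mul, mul00, x01, zero_mul, add_zero] }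
  apply isCyclic_of_injective_ringHom f
  intro x y hxy
  have hxy' : x.1.1 0 0 = y.1.1 0 0 := hxy
  obtain ⟨x01, x10⟩ := (hmem x.1).mp x.2
  obtain ⟨y01, y10⟩ := (hmem y.1).mp y.2
  have hdx := Cfsg.Agent.H65.SL2.det_eq x.1
  have hdy := Cfsg.Agent.H65.SL2.det_eq y.1
  rw [x01, zero_mul, sub_zero] at hdx
  rw [y01, zero_mul, sub_zero] at hdy
  apply Subtype.ext
  apply ext4
  · exact hxy'
  · rw [x01, y01]
  · rw [x10, y10]
  · have h0 : x.1.1 0 0 ≠ 0 := left_ne_zero_of_mul_eq_one hdx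
    apply mul_left_cancel₀ h0
    rw [hdx, hxy', hdy]

/-! ### The non-split torus -/

theorem sl2_mem_centralizer_ns {ν : F} (_hν : ν ≠ 0) (g : Matrix.SpecialLinearGroup (Fin 2) F)
    (h00 : g.1 0 0 = g.1 1 1) (h01 : g.1 0 1 = ν * g.1 1 0) (h10 : g.1 1 0 ≠ 0)
    (h : Matrix.SpecialLinearGroup (Fin 2) F) :
    h ∈ Subgroup.centralizer ({g} : Set (Matrix.SpecialLinearGroup (Fin 2) F)) ↔
      (h.1 0 0 = h.1 1 1 ∧ h.1 0 1 = ν * h.1 1 0) := by
  rw [mem_centralizer_singleton_iff]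
  constructor
  · intro e
    obtain ⟨e00, e01, e10, e11⟩ := sl2_entries_of_eq e
    simp only [mul00, mul01, mul10, mul11, ← h00, h01] at e00 e01 e10 e11
    constructor
    · apply mul_left_cancel₀ h10; linear_combination e10
    · apply mul_left_cancel₀ h10; linear_combination -e00
  · rintro ⟨k00, k01⟩
    apply ext4 <;> simp only [mul00, mul01, mul10, mul11, ← h00, h01, ← k00, k01] <;> ring

theorem elliptic_of_ns {ν : F} (hν : ¬ IsSquare ν) (g : Matrix.SpecialLinearGroup (Fin 2) F)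
    (h00 : g.1 0 0 = g.1 1 1) (h01 : g.1 0 1 = ν * g.1 1 0) (h10 : g.1 1 0 ≠ 0) :
    Elliptic (g : Matrix (Fin 2) (Fin 2) F) := by
  apply elliptic_of_no_root g.2
  intro a ha
  apply hν
  have hd := Cfsg.Agent.H65.SL2.det_eq g
  rw [← h00] at ha
  rw [← h00, h01] at hd
  refine ⟨(a - g.1 0 0) / g.1 1 0, ?_⟩
  field_simp
  linear_combination -ha - hd

/-- The element `[[t/2, ν s/2], [s/2, t/2]]`. -/
def nsElt (ν t s : F) (h2 : (2 : F) ≠ 0) (h : t ^ 2 - 4 = ν * s ^ 2) :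
    Matrix.SpecialLinearGroup (Fin 2) F :=
  ⟨!![t / 2, ν * (s / 2); s / 2, t / 2], by
    rw [Matrix.det_fin_two_of]; field_simp; linear_combination h⟩

theorem coe_nsElt (ν t s : F) (h2 : (2 : F) ≠ 0) (h : t ^ 2 - 4 = ν * s ^ 2) :
    (nsElt ν t s h2 h : Matrix (Fin 2) (Fin 2) F) = !![t / 2, ν * (s / 2); s / 2, t / 2] := rfl

section Finite

variable [Fintype F]

/-- A non-square `ν` and an element of the torus attached to it. -/
theorem exists_ns_elt (hodd : Odd (Fintype.card F)) :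
    ∃ (ν : F) (g : Matrix.SpecialLinearGroup (Fin 2) F), ¬ IsSquare ν ∧ g.1 0 0 = g.1 1 1 ∧
      g.1 0 1 = ν * g.1 1 0 ∧ g.1 1 0 ≠ 0 := by
  have h2 : (2 : F) ≠ 0 := two_ne_zero_of_odd hodd
  obtain ⟨ν, hν⟩ := FiniteField.exists_nonsquare (ringChar_ne_two_of_odd hodd)
  have hν1 : 1 - ν ≠ 0 := by
    intro h
    apply hν
    have : ν = 1 := by linear_combination -h
    rw [this]; exact IsSquare.one
  have key : (2 * (1 + ν) / (1 - ν)) ^ 2 - 4 = ν * (4 / (1 - ν)) ^ 2 := by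
    field_simp; ring
  refine ⟨ν, nsElt ν (2 * (1 + ν) / (1 - ν)) (4 / (1 - ν)) h2 key, hν, ?_, ?_, ?_⟩
  · simp [coe_nsElt]
  · simp [coe_nsElt]
  · simp only [coe_nsElt, Matrix.of_apply, Matrix.cons_val', Matrix.cons_val_one, Matrix.cons_val_zero,
      Matrix.cons_val_fin_one]
    have h4 : (4 : F) ≠ 0 := by
      have : (4 : F) = 2 * 2 := by norm_num
      rw [this]; exact mul_ne_zero h2 h2
    exact div_ne_zero (div_ne_zero h4 hν1) h2

/-- Every elliptic element is conjugate into the non-split torus. -/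
theorem exists_conj_mem_ns (hodd : Odd (Fintype.card F)) {ν : F} (hν : ¬ IsSquare ν)
    (g₁ : Matrix.SpecialLinearGroup (Fin 2) F)
    (h00 : g₁.1 0 0 = g₁.1 1 1) (h01 : g₁.1 0 1 = ν * g₁.1 1 0) (h10 : g₁.1 1 0 ≠ 0)
    (g : Matrix.SpecialLinearGroup (Fin 2) F) (hg : Elliptic (g : Matrix (Fin 2) (Fin 2) F)) :
    ∃ x : Matrix.SpecialLinearGroup (Fin 2) F,
      x * g * x⁻¹ ∈ Subgroup.centralizer ({g₁} : Set (Matrix.SpecialLinearGroup (Fin 2) F)) := by
  have h2 : (2 : F) ≠ 0 := two_ne_zero_of_odd hodd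
  have hν0 : ν ≠ 0 := by rintro rfl; exact hν IsSquare.zero
  have hD : ¬ IsSquare ((g.1 0 0 + g.1 1 1) ^ 2 - 4) := by
    rintro ⟨r, hr⟩
    refine not_elliptic_of_root g.2 ((g.1 0 0 + g.1 1 1 + r) / 2) ?_ hg
    field_simp
    linear_combination -hr
  obtain ⟨r, hr⟩ := isSquare_mul_of_not_isSquare hν hD
  have key : (g.1 0 0 + g.1 1 1) ^ 2 - 4 = ν * (r / ν) ^ 2 := by
    field_simp
    linear_combination hr
  have hmem : nsElt ν (g.1 0 0 + g.1 1 1) (r / ν) h2 key ∈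
      Subgroup.centralizer ({g₁} : Set (Matrix.SpecialLinearGroup (Fin 2) F)) := by
    rw [sl2_mem_centralizer_ns hν0 g₁ h00 h01 h10]
    simp [coe_nsElt]
  have hc : IsConj g (nsElt ν (g.1 0 0 + g.1 1 1) (r / ν) h2 key) := by
    refine SL2_isConj_of_trace_odd hodd _ _ ?_ ?_
    · rw [Matrix.trace_fin_two, Matrix.trace_fin_two, coe_nsElt]
      simp only [Matrix.of_apply, Matrix.cons_val', Matrix.cons_val_one, Matrix.cons_val_zero,
        Matrix.cons_val_fin_one]
      field_simp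
      ring
    · rw [Matrix.trace_fin_two]; exact elliptic_trace_sq hodd g hg
  obtain ⟨x, hx⟩ := isConj_iff.mp hc
  exact ⟨x, hx ▸ hmem⟩

theorem sl2_isCyclic_centralizer_ns {ν : F} (hν : ¬ IsSquare ν)
    (g : Matrix.SpecialLinearGroup (Fin 2) F)
    (h00 : g.1 0 0 = g.1 1 1) (h01 : g.1 0 1 = ν * g.1 1 0) (h10 : g.1 1 0 ≠ 0) :
    IsCyclic (Subgroup.centralizer ({g} : Set (Matrix.SpecialLinearGroup (Fin 2) F))) := by
  have hν0 : ν ≠ 0 := by rintro rfl; exact hν IsSquare.zero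
  obtain ⟨lam, hlam⟩ := IsAlgClosed.exists_pow_nat_eq (algebraMap F (AlgebraicClosure F) ν) (n := 2)
    (by norm_num)
  have hmem := sl2_mem_centralizer_ns hν0 g h00 h01 h10
  have hinj : Function.Injective (algebraMap F (AlgebraicClosure F)) :=
    (algebraMap F (AlgebraicClosure F)).injective
  let f : Subgroup.centralizer ({g} : Set (Matrix.SpecialLinearGroup (Fin 2) F)) →* AlgebraicClosure F :=
    { toFun := fun h => algebraMap F _ (h.1.1 0 0) + algebraMap F _ (h.1.1 1 0) * lam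
      map_one' := by simp
      map_mul' := by
        intro x y
        obtain ⟨x00, x01⟩ := (hmem x.1).mp x.2
        obtain ⟨y00, y01⟩ := (hmem y.1).mp y.2
        simp only [Subgroup.coe_mul, mul00, mul10, map_add, map_mul, x01, ← x00]
        linear_combination -(algebraMap F (AlgebraicClosure F) (x.1.1 1 0) *
          algebraMap F (AlgebraicClosure F) (y.1.1 1 0)) * hlam }
  apply isCyclic_of_injective_ringHom f
  intro x y hxy
  have hxy' : algebraMap F (AlgebraicClosure F) (x.1.1 0 0) + algebraMap F _ (x.1.1 1 0) * lam =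
      algebraMap F _ (y.1.1 0 0) + algebraMap F _ (y.1.1 1 0) * lam := hxy
  obtain ⟨x00, x01⟩ := (hmem x.1).mp x.2
  obtain ⟨y00, y01⟩ := (hmem y.1).mp y.2
  have h10' : x.1.1 1 0 = y.1.1 1 0 := by
    by_contra hne
    apply hν
    have hne' : x.1.1 1 0 - y.1.1 1 0 ≠ 0 := sub_ne_zero.mpr hne
    refine ⟨(y.1.1 0 0 - x.1.1 0 0) / (x.1.1 1 0 - y.1.1 1 0), ?_⟩
    apply hinj
    have hl : lam = algebraMap F (AlgebraicClosure F) ((y.1.1 0 0 - x.1.1 0 0) / (x.1.1 1 0 - y.1.1 1 0)) := by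
      rw [map_div₀, eq_div_iff (by rwa [Ne, map_eq_zero_iff _ hinj]), map_sub, map_sub]
      linear_combination hxy'
    rw [map_mul, ← hl, ← hlam, pow_two]
  have h00' : x.1.1 0 0 = y.1.1 0 0 := by
    apply hinj
    rw [h10'] at hxy'
    exact add_right_cancel hxy'
  apply Subtype.ext
  apply ext4
  · exact h00'
  · rw [x01, y01, h10']
  · exact h10'
  · rw [← x00, ← y00, h00']

end Finite

end Cfsg.Agent.H44
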