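import Cfsg.Agent.H44.SL2TorusB

/-!
# Sylow subgroups of SL₂(F) for odd primes not dividing `q` (helper44)
-/

set_option autoImplicit false

namespace Cfsg.Agent.H44

open Matrix
open Cfsg.Agent.H65.SL2 (ext4 mul00 mul01 mul10 mul11 inv00 inv01 inv10 inv11 one00 one01 one10 one11
  neg00 neg01 neg10 neg11)

section General

variable {G : Type*} [Group G]

/-- Conjugation identifies centralisers. -/
def centralizerConjEquiv (x g : G) :
    Subgroup.centralizer ({g} : Set G) ≃* Subgroup.centralizer ({x * g * x⁻¹} : Set G) where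
  toFun h := ⟨x * h.1 * x⁻¹, by
    have := (mem_centralizer_singleton_iff g h.1).mp h.2
    rw [mem_centralizer_singleton_iff]
    calc x * g * x⁻¹ * (x * h.1 * x⁻¹) = x * (g * h.1) * x⁻¹ := by group
      _ = x * (h.1 * g) * x⁻¹ := by rw [this]
      _ = x * h.1 * x⁻¹ * (x * g * x⁻¹) := by group⟩
  invFun k := ⟨x⁻¹ * k.1 * x, by
    have := (mem_centralizer_singleton_iff _ k.1).mp k.2
    rw [mem_centralizer_singleton_iff]
    calc g * (x⁻¹ * k.1 * x) = x⁻¹ * (x * g * x⁻¹ * k.1) * x := by group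
      _ = x⁻¹ * (k.1 * (x * g * x⁻¹)) * x := by rw [this]
      _ = x⁻¹ * k.1 * x * g := by group⟩
  left_inv h := by
    apply Subtype.ext
    show x⁻¹ * (x * h.1 * x⁻¹) * x = h.1
    group
  right_inv k := by
    apply Subtype.ext
    show x * (x⁻¹ * k.1 * x) * x⁻¹ = k.1
    group
  map_mul' a b := by
    apply Subtype.ext
    show x * (a.1 * b.1) * x⁻¹ = (x * a.1 * x⁻¹) * (x * b.1 * x⁻¹)
    group

/-- A Sylow subgroup with a central element whose centraliser is abelian. -/
theorem sylow_centralizer_normalizer [Finite G] {p : ℕ} [Fact p.Prime] (P : Sylow p G) (z : G)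
    (hzP : z ∈ (P : Subgroup G)) (hzc : ∀ y ∈ (P : Subgroup G), z * y = y * z)
    (hab : ∀ a ∈ Subgroup.centralizer ({z} : Set G), ∀ b ∈ Subgroup.centralizer ({z} : Set G),
      a * b = b * a) :
    Subgroup.centralizer ((P : Subgroup G) : Set G) = Subgroup.centralizer ({z} : Set G) ∧
    Subgroup.normalizer ((P : Subgroup G) : Set G) =
      Subgroup.normalizer (Subgroup.centralizer ({z} : Set G) : Set G) := by
  have hPT : (P : Subgroup G) ≤ Subgroup.centralizer ({z} : Set G) := by
    intro y hy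
    rw [mem_centralizer_singleton_iff]
    exact hzc y hy
  have hC : Subgroup.centralizer ((P : Subgroup G) : Set G) = Subgroup.centralizer ({z} : Set G) := by
    apply le_antisymm
    · intro x hx
      rw [mem_centralizer_singleton_iff]
      exact Subgroup.mem_centralizer_iff.mp hx z hzP
    · intro x hx
      rw [Subgroup.mem_centralizer_iff]
      intro y hy
      exact hab y (hPT hy) x hx
  refine ⟨hC, ?_⟩
  have hP : ∀ y ∈ Subgroup.centralizer ({z} : Set G), (∃ k : ℕ, y ^ p ^ k = 1) →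
      y ∈ (P : Subgroup G) := by
    rintro y hy ⟨k, hk⟩
    have hpz : IsPGroup p (Subgroup.zpowers y) := by
      rintro ⟨g, hg⟩
      obtain ⟨m, rfl⟩ := Subgroup.mem_zpowers_iff.mp hg
      refine ⟨k, Subtype.ext ?_⟩
      show (y ^ m) ^ p ^ k = 1
      rw [← zpow_natCast, ← _root_.zpow_mul, mul_comm, _root_.zpow_mul, zpow_natCast, hk, _root_.one_zpow]
    have hnorm : (P : Subgroup G) ≤ Subgroup.normalizer (Subgroup.zpowers y : Set G) := by
      intro x hx
      rw [Subgroup.mem_normalizer_iff]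
      intro h
      have hxy : x * y = y * x := hab x (hPT hx) y hy
      have hcomm : ∀ m : ℤ, x * y ^ m * x⁻¹ = y ^ m := by
        intro m
        have : Commute x (y ^ m) := (show Commute x y from hxy).zpow_right m
        rw [this.eq]; group
      constructor
      · intro hh
        obtain ⟨m, rfl⟩ := Subgroup.mem_zpowers_iff.mp hh
        rw [hcomm]
        exact Subgroup.mem_zpowers_iff.mpr ⟨m, rfl⟩
      · intro hh
        obtain ⟨m, hm⟩ := Subgroup.mem_zpowers_iff.mp hh
        have : h = y ^ m := by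
          have h1 : h = x⁻¹ * (x * h * x⁻¹) * x := by group
          rw [h1, ← hm]
          have := hcomm m
          calc x⁻¹ * y ^ m * x = x⁻¹ * (x * y ^ m * x⁻¹) * x := by rw [this]
            _ = y ^ m := by group
        rw [this]
        exact Subgroup.mem_zpowers_iff.mpr ⟨m, rfl⟩
    have := P.is_maximal' (P.isPGroup'.to_sup_of_normal_right' hpz hnorm) le_sup_left
    rw [← this]
    exact (le_sup_right : Subgroup.zpowers y ≤ _) (Subgroup.mem_zpowers y)
  ext n
  rw [Subgroup.mem_normalizer_iff, Subgroup.mem_normalizer_iff]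
  constructor
  · intro hn h
    rw [← hC]
    simp only [Subgroup.mem_centralizer_iff, SetLike.mem_coe]
    constructor
    · intro hh y hy
      have hy' : n⁻¹ * y * n ∈ (P : Subgroup G) := by
        rw [hn (n⁻¹ * y * n)]
        convert hy using 1
        group
      have := hh _ hy'
      calc y * (n * h * n⁻¹) = n * ((n⁻¹ * y * n) * h) * n⁻¹ := by group
        _ = n * (h * (n⁻¹ * y * n)) * n⁻¹ := by rw [this]
        _ = n * h * n⁻¹ * y := by group
    · intro hh y hy
      have hy' : n * y * n⁻¹ ∈ (P : Subgroup G) := (hn y).mp hy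
      have := hh _ hy'
      calc y * h = n⁻¹ * ((n * y * n⁻¹) * (n * h * n⁻¹)) * n := by group
        _ = n⁻¹ * ((n * h * n⁻¹) * (n * y * n⁻¹)) * n := by rw [this]
        _ = h * y := by group
  · intro hn y
    constructor
    · intro hy
      apply hP _ ((hn y).mp (hPT hy))
      obtain ⟨k, hk⟩ := P.isPGroup' ⟨y, hy⟩
      refine ⟨k, ?_⟩
      have hk' : y ^ p ^ k = 1 := congrArg Subtype.val hk
      rw [conj_pow, hk']
      group
    · intro hy
      have hT : y ∈ Subgroup.centralizer ({z} : Set G) := (hn y).mpr (hPT hy)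
      apply hP _ hT
      obtain ⟨k, hk⟩ := P.isPGroup' ⟨_, hy⟩
      refine ⟨k, ?_⟩
      have hk' : (n * y * n⁻¹) ^ p ^ k = 1 := congrArg Subtype.val hk
      rw [conj_pow] at hk'
      calc y ^ p ^ k = n⁻¹ * (n * y ^ p ^ k * n⁻¹) * n := by group
        _ = 1 := by rw [hk']; group

end General

variable {F : Type*} [Field F] [Fintype F]

/-- A non-elliptic regular semisimple element is conjugate to a diagonal matrix. -/
theorem sl2_exists_diag_conj (hodd : Odd (Fintype.card F)) (z : Matrix.SpecialLinearGroup (Fin 2) F)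
    (ht : (z.1 0 0 + z.1 1 1) ^ 2 ≠ 4) (hne : ¬ Elliptic (z : Matrix (Fin 2) (Fin 2) F)) :
    ∃ d : Matrix.SpecialLinearGroup (Fin 2) F, d.1 0 1 = 0 ∧ d.1 1 0 = 0 ∧ d.1 0 0 ^ 2 ≠ 1 ∧
      IsConj d z := by
  obtain ⟨a, ha⟩ : ∃ a : F, a ^ 2 - (z.1 0 0 + z.1 1 1) * a + 1 = 0 := by
    by_contra hcon
    push Not at hcon
    exact hne (elliptic_of_no_root z.2 hcon)
  have ha0 : a ≠ 0 := by
    rintro rfl
    simp at ha
  refine ⟨triSL' (Units.mk0 a ha0) 0, by simp [coe_triSL'], by simp [coe_triSL'], ?_, ?_⟩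
  · simp only [coe_triSL', Matrix.of_apply, Matrix.cons_val', Matrix.cons_val_zero,
      Matrix.cons_val_fin_one, Units.val_mk0]
    intro h1
    apply ht
    have h3 : (z.1 0 0 + z.1 1 1) * a = 2 := by linear_combination h1 - ha
    calc (z.1 0 0 + z.1 1 1) ^ 2 = ((z.1 0 0 + z.1 1 1) * a) ^ 2 := by rw [mul_pow, h1, mul_one]
      _ = 4 := by rw [h3]; norm_num
  · refine (SL2_isConj_of_trace_odd hodd z _ ?_ ?_).symm
    · rw [Matrix.trace_fin_two, Matrix.trace_fin_two, coe_triSL']
      simp only [Matrix.of_apply, Matrix.cons_val', Matrix.cons_val_zero, Matrix.cons_val_one,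
        Matrix.cons_val_fin_one, Units.val_inv_eq_inv_val, Units.val_mk0]
      field_simp
      linear_combination -ha
    · rw [Matrix.trace_fin_two]; exact ht

theorem sl2_card_centralizer_split (hodd : Odd (Fintype.card F))
    (z : Matrix.SpecialLinearGroup (Fin 2) F)
    (ht : (z.1 0 0 + z.1 1 1) ^ 2 ≠ 4) (hne : ¬ Elliptic (z : Matrix (Fin 2) (Fin 2) F)) :
    Nat.card (Subgroup.centralizer ({z} : Set (Matrix.SpecialLinearGroup (Fin 2) F))) =
      Fintype.card F - 1 := by
  obtain ⟨d, d01, d10, dsq, hc⟩ := sl2_exists_diag_conj hodd z ht hne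
  have h1 := card_carrier_mul_card_centralizer z
  have h2 := card_carrier_mul_card_centralizer d
  rw [ConjClasses.mk_eq_mk_iff_isConj.mpr hc, sl2_card_centralizer_diag d d01 d10 dsq] at h2
  have hpos : 0 < Nat.card (ConjClasses.mk z).carrier := by
    have : Nonempty (ConjClasses.mk z).carrier := ⟨⟨z, ConjClasses.mem_carrier_mk⟩⟩
    exact Nat.card_pos
  exact Nat.eq_of_mul_eq_mul_left hpos (h1.trans h2.symm)

theorem sl2_isCyclic_centralizer (hodd : Odd (Fintype.card F))
    (z : Matrix.SpecialLinearGroup (Fin 2) F) (ht : (z.1 0 0 + z.1 1 1) ^ 2 ≠ 4) :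
    IsCyclic (Subgroup.centralizer ({z} : Set (Matrix.SpecialLinearGroup (Fin 2) F))) := by
  by_cases hell : Elliptic (z : Matrix (Fin 2) (Fin 2) F)
  · obtain ⟨ν, g₁, hν, h00, h01, h10⟩ := exists_ns_elt hodd
    obtain ⟨x, hx⟩ := exists_conj_mem_ns hodd hν g₁ h00 h01 h10 z hell
    have hns1 : NonScalar (g₁ : Matrix (Fin 2) (Fin 2) F) :=
      sl2_nonScalar_of_trace_sq g₁ (elliptic_trace_sq hodd g₁ (elliptic_of_ns hν g₁ h00 h01 h10))
    have hns2 : NonScalar ((x * z * x⁻¹ : Matrix.SpecialLinearGroup (Fin 2) F) : Matrix (Fin 2) (Fin 2) F) := by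
      apply sl2_nonScalar_of_trace_sq
      have := Cfsg.Agent.H65.SL2.tr_conj x z
      unfold Cfsg.Agent.H65.SL2.tr at this
      rw [this]
      exact ht
    rw [mem_centralizer_singleton_iff] at hx
    have heq := sl2_centralizer_eq hns1 hns2 hx.symm
    have hcyc : IsCyclic (Subgroup.centralizer
        ({x * z * x⁻¹} : Set (Matrix.SpecialLinearGroup (Fin 2) F))) := by
      rw [heq]
      exact sl2_isCyclic_centralizer_ns hν g₁ h00 h01 h10
    exact (centralizerConjEquiv x z).isCyclic.mpr hcyc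
  · obtain ⟨d, d01, d10, dsq, hc⟩ := sl2_exists_diag_conj hodd z ht hell
    obtain ⟨x, hx⟩ := isConj_iff.mp hc
    have := (centralizerConjEquiv x d).isCyclic.mp (sl2_isCyclic_centralizer_diag d d01 d10 dsq)
    rwa [hx] at this

/-- The Sylow `ℓ`-subgroups for odd `ℓ ∣ q ± 1` are governed by a torus. -/
theorem sylow_SL2_odd (hodd : Odd (Fintype.card F)) (ℓ : ℕ) [Fact ℓ.Prime] (hℓ : ℓ ≠ 2)
    (P : Sylow ℓ (Matrix.SpecialLinearGroup (Fin 2) F))
    (hdvd : ℓ ∣ Fintype.card F - 1 ∨ ℓ ∣ Fintype.card F + 1) :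
    ∃ z : Matrix.SpecialLinearGroup (Fin 2) F, (z.1 0 0 + z.1 1 1) ^ 2 ≠ 4 ∧
      ℓ ∣ Nat.card (Subgroup.centralizer ({z} : Set (Matrix.SpecialLinearGroup (Fin 2) F))) ∧
      Subgroup.centralizer ((P : Subgroup (Matrix.SpecialLinearGroup (Fin 2) F)) :
        Set (Matrix.SpecialLinearGroup (Fin 2) F)) =
        Subgroup.centralizer ({z} : Set (Matrix.SpecialLinearGroup (Fin 2) F)) ∧
      Subgroup.normalizer ((P : Subgroup (Matrix.SpecialLinearGroup (Fin 2) F)) :
        Set (Matrix.SpecialLinearGroup (Fin 2) F)) =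
        Subgroup.normalizer (Subgroup.centralizer ({z} : Set (Matrix.SpecialLinearGroup (Fin 2) F)) :
          Set (Matrix.SpecialLinearGroup (Fin 2) F)) := by
  have hℓp : ℓ.Prime := Fact.out
  obtain ⟨p, hp⟩ := CharP.exists F
  have hpp : Fact p.Prime := ⟨CharP.char_is_prime F p⟩
  obtain ⟨n, -, hqn⟩ := FiniteField.card F p
  have hq1 : 1 < Fintype.card F := Fintype.one_lt_card
  have hℓne : ℓ ≠ p := by
    rintro rfl
    have h1 : ℓ ∣ Fintype.card F := by
      rw [hqn]; exact dvd_pow_self ℓ n.ne_zero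
    have : ℓ ∣ 1 := by
      rcases hdvd with h | h
      · have := Nat.dvd_sub h1 h
        rwa [Nat.sub_sub_self (by omega)] at this
      · have := Nat.dvd_sub h h1
        rwa [Nat.add_sub_cancel_left] at this
    exact hℓp.one_lt.ne' (Nat.dvd_one.mp this)
  have hG : ℓ ∣ Nat.card (Matrix.SpecialLinearGroup (Fin 2) F) := by
    rw [card_SL2]
    have e : Fintype.card F ^ 2 - 1 = (Fintype.card F + 1) * (Fintype.card F - 1) := by
      obtain ⟨m, hm⟩ : ∃ m, Fintype.card F = m + 1 := ⟨Fintype.card F - 1, by omega⟩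
      rw [hm, Nat.add_sub_cancel]
      have : (m + 1) ^ 2 = (m + 1 + 1) * m + 1 := by ring
      omega
    rw [e]
    rcases hdvd with h | h
    · exact dvd_mul_of_dvd_right (dvd_mul_of_dvd_right h _) _
    · exact dvd_mul_of_dvd_right (dvd_mul_of_dvd_left h _) _
  have hne := P.ne_bot_of_dvd_card hG
  have hnt : Nontrivial (P : Subgroup (Matrix.SpecialLinearGroup (Fin 2) F)) :=
    (Subgroup.nontrivial_iff_ne_bot _).mpr hne
  have hcnt := P.isPGroup'.center_nontrivial
  obtain ⟨c, hc⟩ := exists_ne (1 : Subgroup.center (P : Subgroup (Matrix.SpecialLinearGroup (Fin 2) F)))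
  have hz1 : ((c : (P : Subgroup (Matrix.SpecialLinearGroup (Fin 2) F))) :
      Matrix.SpecialLinearGroup (Fin 2) F) ≠ 1 := by
    intro h
    apply hc
    apply Subtype.ext
    apply Subtype.ext
    exact h
  set z : Matrix.SpecialLinearGroup (Fin 2) F :=
    ((c : (P : Subgroup (Matrix.SpecialLinearGroup (Fin 2) F))) : Matrix.SpecialLinearGroup (Fin 2) F)
    with hzdef
  have hzP : z ∈ (P : Subgroup (Matrix.SpecialLinearGroup (Fin 2) F)) := c.1.2
  have hzc : ∀ y ∈ (P : Subgroup (Matrix.SpecialLinearGroup (Fin 2) F)), z * y = y * z := by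
    intro y hy
    have := Subgroup.mem_center_iff.mp c.2 ⟨y, hy⟩
    exact (congrArg Subtype.val this).symm
  obtain ⟨k, hk⟩ := P.isPGroup' ⟨z, hzP⟩
  have hk' : z ^ ℓ ^ k = 1 := congrArg Subtype.val hk
  have ht : (z.1 0 0 + z.1 1 1) ^ 2 ≠ 4 := by
    intro h4
    have h2p := Cfsg.Agent.H65.SL2.pow_two_mul_char_eq_one p z h4
    have hcop : Nat.Coprime (2 * p) (ℓ ^ k) := by
      apply Nat.Coprime.pow_right
      apply Nat.Coprime.mul_left
      · exact (Nat.coprime_primes Nat.prime_two hℓp).mpr (Ne.symm hℓ)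
      · exact (Nat.coprime_primes hpp.out hℓp).mpr (Ne.symm hℓne)
    have h1 : orderOf z ∣ 1 := by
      rw [← hcop.gcd_eq_one]
      exact Nat.dvd_gcd (orderOf_dvd_of_pow_eq_one h2p) (orderOf_dvd_of_pow_eq_one hk')
    exact hz1 (orderOf_eq_one_iff.mp (Nat.dvd_one.mp h1))
  have hns := sl2_nonScalar_of_trace_sq z ht
  have hab : ∀ a ∈ Subgroup.centralizer ({z} : Set (Matrix.SpecialLinearGroup (Fin 2) F)),
      ∀ b ∈ Subgroup.centralizer ({z} : Set (Matrix.SpecialLinearGroup (Fin 2) F)), a * b = b * a := by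
    intro a ha b hb
    rw [mem_centralizer_singleton_iff] at ha hb
    exact sl2_commute_of_commute hns ha.symm hb.symm
  have hdz : ℓ ∣ Nat.card (Subgroup.centralizer ({z} : Set (Matrix.SpecialLinearGroup (Fin 2) F))) := by
    have h1 : orderOf z ∣ Nat.card (Subgroup.centralizer ({z} : Set (Matrix.SpecialLinearGroup (Fin 2) F))) :=
      Subgroup.orderOf_dvd_natCard _ (self_mem_centralizer_singleton z)
    obtain ⟨j, -, hj⟩ := (Nat.dvd_prime_pow hℓp).mp (orderOf_dvd_of_pow_eq_one hk')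
    have hj0 : j ≠ 0 := by
      rintro rfl
      rw [pow_zero] at hj
      exact hz1 (orderOf_eq_one_iff.mp hj)
    exact (hj ▸ dvd_pow_self ℓ hj0).trans h1
  obtain ⟨hC, hN⟩ := sylow_centralizer_normalizer P z hzP hzc hab
  exact ⟨z, ht, hdz, hC, hN⟩

end Cfsg.Agent.H44
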