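import Mathlib
import Cfsg.Agent.H45.MDefs

/-!
# helper44: piece M-BASE of helper45's project S2415

Construction of the upper unipotent elements `e(γ, S)` of the minus-type orthogonal group, and the
commutator of a Levi element with such an element.
-/

set_option autoImplicit false

namespace Cfsg.Agent.H44.M

open Matrix Cfsg.Agent.H49 Cfsg.Agent.H45.M

variable {F : Type*} [Field F] {k : ℕ}

theorem toMatrix'_mulVec' {ι : Type} [Fintype ι] [DecidableEq ι]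
    (f : (ι → F) →ₗ[F] (ι → F)) (v : ι → F) : LinearMap.toMatrix' f *ᵥ v = f v := by
  rw [← Matrix.toLin'_apply, Matrix.toLin'_toMatrix']

/-- An isometry from a pair of mutually inverse linear maps preserving the form. -/
def isoOfLin {ι : Type} [Fintype ι] [DecidableEq ι] (Q : QuadraticForm F (ι → F))
    (f f' : (ι → F) →ₗ[F] (ι → F)) (h1 : f ∘ₗ f' = LinearMap.id) (h2 : f' ∘ₗ f = LinearMap.id)
    (hQ : ∀ v, Q (f v) = Q v) : ↥(Cfsg.isometryGroup F (⇑Q)) :=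
  ⟨⟨LinearMap.toMatrix' f, LinearMap.toMatrix' f',
      by rw [← LinearMap.toMatrix'_comp, h1, LinearMap.toMatrix'_id],
      by rw [← LinearMap.toMatrix'_comp, h2, LinearMap.toMatrix'_id]⟩,
    mem_isometryGroup_iff.mpr (fun u => by
      show Q (LinearMap.toMatrix' f *ᵥ u) = Q u
      rw [toMatrix'_mulVec']; exact hQ u)⟩

theorem act_isoOfLin {ι : Type} [Fintype ι] [DecidableEq ι] (Q : QuadraticForm F (ι → F))
    (f f' : (ι → F) →ₗ[F] (ι → F)) (h1 : f ∘ₗ f' = LinearMap.id) (h2 : f' ∘ₗ f = LinearMap.id)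
    (hQ : ∀ v, Q (f v) = Q v) (v : ι → F) : act (isoOfLin Q f f' h1 h2 hQ) v = f v :=
  toMatrix'_mulVec' f v

/-- The `x`-block of a vector. -/
def px (v : (Fin k ⊕ Fin k) ⊕ Fin 2 → F) : Fin k → F := fun i => v (Sum.inl (Sum.inl i))

/-- The `y`-block of a vector. -/
def py (v : (Fin k ⊕ Fin k) ⊕ Fin 2 → F) : Fin k → F := fun i => v (Sum.inl (Sum.inr i))

/-- The `z`-block of a vector. -/
def pz (v : (Fin k ⊕ Fin k) ⊕ Fin 2 → F) : Fin 2 → F := fun i => v (Sum.inr i)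

/-- The linear map `tri x y z ↦ tri (x + S y - N z) y (z + γ y)`. -/
def uLin (γ : Matrix (Fin 2) (Fin k) F) (S : Matrix (Fin k) (Fin k) F)
    (N : Matrix (Fin k) (Fin 2) F) :
    ((Fin k ⊕ Fin k) ⊕ Fin 2 → F) →ₗ[F] ((Fin k ⊕ Fin k) ⊕ Fin 2 → F) where
  toFun v := tri (px v + S *ᵥ py v - N *ᵥ pz v) (py v) (pz v + γ *ᵥ py v)
  map_add' := by
    intro v w
    obtain ⟨x, y, z, rfl⟩ := tri_eta v
    obtain ⟨x', y', z', rfl⟩ := tri_eta w
    rw [tri_add]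
    show tri (x + x' + S *ᵥ (y + y') - N *ᵥ (z + z')) (y + y') (z + z' + γ *ᵥ (y + y'))
      = tri (x + S *ᵥ y - N *ᵥ z) y (z + γ *ᵥ y) + tri (x' + S *ᵥ y' - N *ᵥ z') y' (z' + γ *ᵥ y')
    rw [tri_add, Matrix.mulVec_add, Matrix.mulVec_add, Matrix.mulVec_add]
    congr 1 <;> abel
  map_smul' := by
    intro c v
    obtain ⟨x, y, z, rfl⟩ := tri_eta v
    rw [tri_smul]
    show tri (c • x + S *ᵥ (c • y) - N *ᵥ (c • z)) (c • y) (c • z + γ *ᵥ (c • y))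
      = c • tri (x + S *ᵥ y - N *ᵥ z) y (z + γ *ᵥ y)
    rw [tri_smul, Matrix.mulVec_smul, Matrix.mulVec_smul, Matrix.mulVec_smul, smul_add, smul_sub,
      smul_add]

theorem uLin_tri (γ : Matrix (Fin 2) (Fin k) F) (S : Matrix (Fin k) (Fin k) F)
    (N : Matrix (Fin k) (Fin 2) F) (x y : Fin k → F) (z : Fin 2 → F) :
    uLin γ S N (tri x y z) = tri (x + S *ᵥ y - N *ᵥ z) y (z + γ *ᵥ y) := rfl

theorem uLin_comp (γ γ' : Matrix (Fin 2) (Fin k) F) (S S' : Matrix (Fin k) (Fin k) F)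
    (N N' : Matrix (Fin k) (Fin 2) F) :
    uLin γ S N ∘ₗ uLin γ' S' N' = uLin (γ + γ') (S + S' - N * γ') (N + N') := by
  apply LinearMap.ext; intro v
  obtain ⟨x, y, z, rfl⟩ := tri_eta v
  rw [LinearMap.comp_apply, uLin_tri, uLin_tri, uLin_tri]
  congr 1
  · rw [Matrix.mulVec_add, Matrix.sub_mulVec, Matrix.add_mulVec, Matrix.add_mulVec,
      Matrix.mulVec_mulVec]
    abel
  · rw [Matrix.add_mulVec]; abel

theorem uLin_zero :
    uLin (0 : Matrix (Fin 2) (Fin k) F) 0 0 = LinearMap.id := by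
  apply LinearMap.ext; intro v
  obtain ⟨x, y, z, rfl⟩ := tri_eta v
  rw [uLin_tri]; simp

theorem gam_transpose (a b : F) : (gam a b)ᵀ = gam a b := by
  ext i j; fin_cases i <;> fin_cases j <;> rfl

theorem N_dot (a b : F) (γ : Matrix (Fin 2) (Fin k) F) (z : Fin 2 → F) (y : Fin k → F) :
    ((γᵀ * gam a b) *ᵥ z) ⬝ᵥ y = z ⬝ᵥ (gam a b *ᵥ (γ *ᵥ y)) := by
  rw [← Matrix.mulVec_mulVec, Matrix.mulVec_transpose, ← Matrix.dotProduct_mulVec,
    Matrix.dotProduct_mulVec z, ← Matrix.mulVec_transpose, gam_transpose]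

theorem uLin_isometry (a b : F) (γ : Matrix (Fin 2) (Fin k) F) (S : Matrix (Fin k) (Fin k) F)
    (h : ∀ y : Fin k → F, y ⬝ᵥ S *ᵥ y + binQ a b (γ *ᵥ y) = 0)
    (v : (Fin k ⊕ Fin k) ⊕ Fin 2 → F) :
    QMin k F a b (uLin γ S (γᵀ * gam a b) v) = QMin k F a b v := by
  obtain ⟨x, y, z, rfl⟩ := tri_eta v
  rw [uLin_tri, QMin_tri, QMin_tri]
  have hp : binQ a b (z + γ *ᵥ y)
      = binQ a b z + binQ a b (γ *ᵥ y) + z ⬝ᵥ (gam a b *ᵥ (γ *ᵥ y)) := by
    rw [← polar_binQ_gam]; simp only [QuadraticMap.polar]; ring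
  rw [hp, sub_dotProduct, add_dotProduct, N_dot, dotProduct_comm (S *ᵥ y) y]
  linear_combination h y

theorem exists_eU (a b : F) (γ : Matrix (Fin 2) (Fin k) F) (S : Matrix (Fin k) (Fin k) F)
    (h : ∀ y : Fin k → F, y ⬝ᵥ S *ᵥ y + binQ a b (γ *ᵥ y) = 0) :
    ∃ g : OM k F a b, IsU g γ S := by
  have e1 : γ + -γ = 0 := add_neg_cancel γ
  have e1' : -γ + γ = 0 := neg_add_cancel γ
  have e2 : S + (-S - γᵀ * gam a b * γ) - γᵀ * gam a b * -γ = 0 := by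
    rw [Matrix.mul_neg]; abel
  have e2' : -S - γᵀ * gam a b * γ + S - -(γᵀ * gam a b) * γ = 0 := by
    rw [Matrix.neg_mul]; abel
  refine ⟨isoOfLin (QMin k F a b) (uLin γ S (γᵀ * gam a b))
    (uLin (-γ) (-S - γᵀ * gam a b * γ) (-(γᵀ * gam a b))) ?_ ?_ (uLin_isometry a b γ S h), ?_⟩
  · rw [uLin_comp, e1, e2, add_neg_cancel, uLin_zero]
  · rw [uLin_comp, e1', e2', neg_add_cancel, uLin_zero]
  · intro x y z
    rw [act_isoOfLin, uLin_tri]

theorem isU_inv {a b : F} {u : OM k F a b} {γ : Matrix (Fin 2) (Fin k) F}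
    {S : Matrix (Fin k) (Fin k) F} (hu : IsU u γ S) :
    IsU u⁻¹ (-γ) (-S - γᵀ * gam a b * γ) := by
  intro x y z
  have key : act u (tri (x + (-S - γᵀ * gam a b * γ) *ᵥ y - ((-γ)ᵀ * gam a b) *ᵥ z) y
      (z + (-γ) *ᵥ y)) = tri x y z := by
    rw [hu]
    congr 1
    · simp only [Matrix.transpose_neg, Matrix.neg_mul, Matrix.neg_mulVec, Matrix.sub_mulVec,
        Matrix.mulVec_add, Matrix.mulVec_neg, Matrix.mulVec_mulVec]
      abel
    · rw [Matrix.neg_mulVec]; abel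
  rw [← key, act_inv_act]

theorem levi_facts {a b : F} {g : OM k F a b} {A A' : Matrix (Fin k) (Fin k) F}
    {ρ : Matrix (Fin 2) (Fin 2) F} (hg : IsLevi g A A' ρ) :
    (∀ y : Fin k → F, Aᵀ *ᵥ (A' *ᵥ y) = y) ∧
      (∀ z : Fin 2 → F, ρᵀ *ᵥ (gam a b *ᵥ (ρ *ᵥ z)) = gam a b *ᵥ z) := by
  constructor
  · intro y
    have h1 : ∀ x : Fin k → F, x ⬝ᵥ (Aᵀ *ᵥ (A' *ᵥ y)) = x ⬝ᵥ y := by
      intro x
      have := Q_act (QMin k F a b) g (tri x y 0)
      rw [hg, QMin_tri, QMin_tri, Matrix.mulVec_zero, map_zero, add_zero, add_zero] at this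
      rw [Matrix.dotProduct_mulVec, Matrix.vecMul_transpose]
      exact this
    funext i
    have := h1 (Pi.single i 1)
    simpa using this
  · intro z
    have h2 : ∀ z' : Fin 2 → F,
        z' ⬝ᵥ (ρᵀ *ᵥ (gam a b *ᵥ (ρ *ᵥ z))) = z' ⬝ᵥ (gam a b *ᵥ z) := by
      intro z'
      have := polar_act (QMin k F a b) g (tri 0 0 z') (tri 0 0 z)
      rw [hg, hg, polar_tri, polar_tri] at this
      simp only [Matrix.mulVec_zero, dotProduct_zero, zero_add] at this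
      rw [Matrix.dotProduct_mulVec, Matrix.vecMul_transpose]
      exact this
    funext i
    have := h2 (Pi.single i 1)
    simpa using this

theorem isU_comm_levi {a b : F} (g u : OM k F a b) (A A' : Matrix (Fin k) (Fin k) F)
    (ρ : Matrix (Fin 2) (Fin 2) F) (hg : IsLevi g A A' ρ)
    (γ : Matrix (Fin 2) (Fin k) F) (S : Matrix (Fin k) (Fin k) F) (hu : IsU u γ S) :
    ∃ S₀ : Matrix (Fin k) (Fin k) F, IsU (g * u * g⁻¹ * u⁻¹) (ρ * γ * Aᵀ - γ) S₀ := by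
  obtain ⟨hA, hρ⟩ := levi_facts hg
  refine ⟨A * S * Aᵀ - S + (ρ * γ * Aᵀ - γ)ᵀ * gam a b * γ, ?_⟩
  intro x y z
  obtain ⟨x₀, y₀, z₀, hv⟩ := tri_eta (act g⁻¹ (act u⁻¹ (tri x y z)))
  have h1 : tri x y z = act u (act g (tri x₀ y₀ z₀)) := by
    rw [← hv, act_act_inv, act_act_inv]
  rw [hg, hu] at h1
  obtain ⟨rfl, rfl, rfl⟩ := tri_inj h1
  rw [act_mul, act_mul, act_mul, hv, hu, hg]
  congr 1
  · simp only [Matrix.transpose_sub, Matrix.transpose_mul, Matrix.transpose_transpose,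
      Matrix.sub_mul, Matrix.add_mulVec, Matrix.sub_mulVec, Matrix.mulVec_add, Matrix.mulVec_sub,
      ← Matrix.mulVec_mulVec]
    rw [hA, hρ]
    abel
  · rw [Matrix.sub_mulVec, ← Matrix.mulVec_mulVec, ← Matrix.mulVec_mulVec, hA, Matrix.mulVec_add]
    abel

/-- verbatim checks of the posted statements -/
example (a b : F) (γ : Matrix (Fin 2) (Fin k) F) (S : Matrix (Fin k) (Fin k) F)
    (h : ∀ y : Fin k → F, y ⬝ᵥ S *ᵥ y + binQ a b (γ *ᵥ y) = 0) :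
    ∃ g : OM k F a b, IsU g γ S := exists_eU a b γ S h

example {a b : F} (g u : OM k F a b) (A A' : Matrix (Fin k) (Fin k) F)
    (ρ : Matrix (Fin 2) (Fin 2) F) (hg : IsLevi g A A' ρ)
    (γ : Matrix (Fin 2) (Fin k) F) (S : Matrix (Fin k) (Fin k) F) (hu : IsU u γ S) :
    ∃ S₀ : Matrix (Fin k) (Fin k) F, IsU (g * u * g⁻¹ * u⁻¹) (ρ * γ * Aᵀ - γ) S₀ :=
  isU_comm_levi g u A A' ρ hg γ S hu

end Cfsg.Agent.H44.M
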