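import Cfsg.Agent.H44.SL2Card
import Cfsg.Prelude.Def_ParabolicCharacters

/-!
# The Borel subgroup of GL₂ and its cosets (helper44)

`GL₂(F) ⧸ B ≃ Option F` (the projective line), and the fixed cosets of an element.
-/

set_option autoImplicit false

namespace Cfsg.Agent.H44

open Matrix

variable {F : Type*} [Field F]

theorem mem_borel_iff (g : GL (Fin 2) F) :
    g ∈ Cfsg.upperTriangularGL 2 F ↔ (g : Matrix (Fin 2) (Fin 2) F) 1 0 = 0 := by
  constructor
  · intro h
    exact h (by decide)
  · intro h i j hij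
    fin_cases i <;> fin_cases j <;> simp_all

theorem GL2_det_ne_zero (s : GL (Fin 2) F) : (s : Matrix (Fin 2) (Fin 2) F).det ≠ 0 := by
  have := (GeneralLinearGroup.det s).ne_zero
  rwa [GeneralLinearGroup.val_det_apply] at this

theorem GL2_inv_mul_entry (g h : GL (Fin 2) F) :
    ((g⁻¹ * h : GL (Fin 2) F) : Matrix (Fin 2) (Fin 2) F) 1 0 =
      (g : Matrix (Fin 2) (Fin 2) F).det⁻¹ *
        ((g : Matrix (Fin 2) (Fin 2) F) 0 0 * (h : Matrix (Fin 2) (Fin 2) F) 1 0 -
          (g : Matrix (Fin 2) (Fin 2) F) 1 0 * (h : Matrix (Fin 2) (Fin 2) F) 0 0) := by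
  rw [Units.val_mul, Matrix.coe_units_inv, Matrix.inv_def, Matrix.adjugate_fin_two, Ring.inverse_eq_inv']
  simp [Matrix.mul_apply, Fin.sum_univ_two]
  ring

/-- `g⁻¹ h ∈ B` iff the first columns of `g` and `h` are proportional. -/
theorem inv_mul_mem_borel_iff (g h : GL (Fin 2) F) :
    g⁻¹ * h ∈ Cfsg.upperTriangularGL 2 F ↔
      (g : Matrix (Fin 2) (Fin 2) F) 0 0 * (h : Matrix (Fin 2) (Fin 2) F) 1 0 =
        (g : Matrix (Fin 2) (Fin 2) F) 1 0 * (h : Matrix (Fin 2) (Fin 2) F) 0 0 := by
  rw [mem_borel_iff, GL2_inv_mul_entry]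
  have hd := inv_ne_zero (GL2_det_ne_zero g)
  constructor
  · intro h0
    rcases mul_eq_zero.mp h0 with h1 | h1
    · exact absurd h1 hd
    · linear_combination h1
  · intro h0
    rw [h0, sub_self, mul_zero]

open Classical in
/-- The slope of the first column of an element of GL₂, a point of the projective line. -/
noncomputable def slope (g : GL (Fin 2) F) : Option F :=
  if (g : Matrix (Fin 2) (Fin 2) F) 1 0 = 0 then none
  else some ((g : Matrix (Fin 2) (Fin 2) F) 0 0 / (g : Matrix (Fin 2) (Fin 2) F) 1 0)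

theorem first_col_ne_zero (g : GL (Fin 2) F) (h10 : (g : Matrix (Fin 2) (Fin 2) F) 1 0 = 0) :
    (g : Matrix (Fin 2) (Fin 2) F) 0 0 ≠ 0 := by
  intro h00
  apply GL2_det_ne_zero g
  rw [Matrix.det_fin_two, h10, h00]; ring

theorem slope_eq_iff (g h : GL (Fin 2) F) :
    slope g = slope h ↔ g⁻¹ * h ∈ Cfsg.upperTriangularGL 2 F := by
  rw [inv_mul_mem_borel_iff]
  by_cases hg : (g : Matrix (Fin 2) (Fin 2) F) 1 0 = 0
  · by_cases hh : (h : Matrix (Fin 2) (Fin 2) F) 1 0 = 0
    · simp [slope, hg, hh]
    · simp only [slope, hg, hh, if_true, if_false]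
      constructor
      · intro h0; exact absurd h0 (by simp)
      · intro h0
        exfalso
        rw [zero_mul] at h0
        rcases mul_eq_zero.mp h0 with h1 | h1
        · exact first_col_ne_zero g hg h1
        · exact hh h1
  · by_cases hh : (h : Matrix (Fin 2) (Fin 2) F) 1 0 = 0
    · simp only [slope, hg, hh, if_true, if_false]
      constructor
      · intro h0; exact absurd h0 (by simp)
      · intro h0
        exfalso
        rw [mul_zero] at h0
        rcases mul_eq_zero.mp h0.symm with h1 | h1
        · exact hg h1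
        · exact first_col_ne_zero h hh h1
    · simp only [slope, hg, hh, if_false, Option.some.injEq]
      rw [div_eq_div_iff hg hh]
      constructor
      · intro h0; linear_combination h0
      · intro h0; linear_combination h0

/-- Coset representatives of `B` in GL₂. -/
noncomputable def xRep : Option F → GL (Fin 2) F
  | none => 1
  | some t => GeneralLinearGroup.mkOfDetNeZero !![t, 1; 1, 0] (by simp [Matrix.det_fin_two])

theorem coe_xRep_some (t : F) : (xRep (some t) : Matrix (Fin 2) (Fin 2) F) = !![t, 1; 1, 0] := rfl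

theorem slope_xRep (s : Option F) : slope (xRep s) = s := by
  cases s with
  | none => simp [slope, xRep]
  | some t => simp [slope, coe_xRep_some]

/-- The slope map on cosets. -/
noncomputable def slopeQ : GL (Fin 2) F ⧸ Cfsg.upperTriangularGL 2 F → Option F :=
  Quotient.lift slope (fun a b hab => (slope_eq_iff a b).mpr (QuotientGroup.leftRel_apply.mp hab))

theorem slopeQ_mk (g : GL (Fin 2) F) : slopeQ (g : GL (Fin 2) F ⧸ Cfsg.upperTriangularGL 2 F) = slope g := rfl

/-- The cosets of the Borel subgroup of GL₂ are the points of the projective line. -/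
noncomputable def cosetEquiv : GL (Fin 2) F ⧸ Cfsg.upperTriangularGL 2 F ≃ Option F where
  toFun := slopeQ
  invFun s := (xRep s : GL (Fin 2) F ⧸ Cfsg.upperTriangularGL 2 F)
  left_inv c := by
    induction c using QuotientGroup.induction_on with
    | H g =>
      rw [slopeQ_mk, QuotientGroup.eq, ← slope_eq_iff, slope_xRep]
  right_inv s := by rw [slopeQ_mk, slope_xRep]

/-- The condition for `g` to fix the point `s` of the projective line. -/
def FixCond (g : Matrix (Fin 2) (Fin 2) F) : Option F → Prop
  | none => g 1 0 = 0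
  | some t => qf g t 1 = 0

theorem slope_mul_xRep_iff (g : GL (Fin 2) F) (s : Option F) :
    slope (g * xRep s) = s ↔ FixCond (g : Matrix (Fin 2) (Fin 2) F) s := by
  cases s with
  | none =>
    show slope (g * 1) = none ↔ (g : Matrix (Fin 2) (Fin 2) F) 1 0 = 0
    rw [mul_one]
    unfold slope
    split_ifs with h
    · simp [h]
    · simp [h]
  | some t =>
    have e10 : ((g * xRep (some t) : GL (Fin 2) F) : Matrix (Fin 2) (Fin 2) F) 1 0 =
        (g : Matrix (Fin 2) (Fin 2) F) 1 0 * t + (g : Matrix (Fin 2) (Fin 2) F) 1 1 := by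
      simp [Units.val_mul, coe_xRep_some, Matrix.mul_apply, Fin.sum_univ_two]
    have e00 : ((g * xRep (some t) : GL (Fin 2) F) : Matrix (Fin 2) (Fin 2) F) 0 0 =
        (g : Matrix (Fin 2) (Fin 2) F) 0 0 * t + (g : Matrix (Fin 2) (Fin 2) F) 0 1 := by
      simp [Units.val_mul, coe_xRep_some, Matrix.mul_apply, Fin.sum_univ_two]
    show slope (g * xRep (some t)) = some t ↔ qf (g : Matrix (Fin 2) (Fin 2) F) t 1 = 0
    unfold slope
    rw [e10, e00]
    simp only [qf]
    by_cases h : (g : Matrix (Fin 2) (Fin 2) F) 1 0 * t + (g : Matrix (Fin 2) (Fin 2) F) 1 1 = 0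
    · rw [if_pos h]
      constructor
      · intro h0; exact absurd h0 (by simp)
      · intro h0
        exfalso
        apply GL2_det_ne_zero g
        rw [Matrix.det_fin_two]
        have h1 : (g : Matrix (Fin 2) (Fin 2) F) 0 0 * t + (g : Matrix (Fin 2) (Fin 2) F) 0 1 = 0 := by
          linear_combination t * h - h0
        have h11 : (g : Matrix (Fin 2) (Fin 2) F) 1 1 = - (g : Matrix (Fin 2) (Fin 2) F) 1 0 * t := by
          linear_combination h
        have h01 : (g : Matrix (Fin 2) (Fin 2) F) 0 1 = - (g : Matrix (Fin 2) (Fin 2) F) 0 0 * t := by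
          linear_combination h1
        rw [h11, h01]; ring
    · rw [if_neg h, Option.some.injEq, div_eq_iff h]
      constructor
      · intro h0; linear_combination -h0
      · intro h0; linear_combination -h0

/-- The cosets fixed by `g` correspond to the points satisfying `FixCond`. -/
noncomputable def fixedEquiv (g : GL (Fin 2) F) :
    MulAction.fixedBy (GL (Fin 2) F ⧸ Cfsg.upperTriangularGL 2 F) g ≃
      {s : Option F // FixCond (g : Matrix (Fin 2) (Fin 2) F) s} :=
  Equiv.subtypeEquiv cosetEquiv (fun c => by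
    induction c using QuotientGroup.induction_on with
    | H x =>
      rw [MulAction.mem_fixedBy]
      show g • (x : GL (Fin 2) F ⧸ Cfsg.upperTriangularGL 2 F) = x ↔ FixCond _ (slope x)
      rw [← slope_mul_xRep_iff]
      have hx : ((xRep (slope x) : GL (Fin 2) F) : GL (Fin 2) F ⧸ Cfsg.upperTriangularGL 2 F) = x := by
        rw [QuotientGroup.eq, ← slope_eq_iff, slope_xRep]
      have h1 : g • (x : GL (Fin 2) F ⧸ Cfsg.upperTriangularGL 2 F) =
          ((g * xRep (slope x) : GL (Fin 2) F) : GL (Fin 2) F ⧸ Cfsg.upperTriangularGL 2 F) := by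
        rw [← hx]; rfl
      rw [h1]
      constructor
      · intro h
        have := congrArg slopeQ h
        rwa [slopeQ_mk, slopeQ_mk] at this
      · intro h
        rw [QuotientGroup.eq, ← slope_eq_iff, h])

theorem fixedPointCharacter_borel (g : GL (Fin 2) F) :
    Cfsg.fixedPointCharacter (Cfsg.upperTriangularGL 2 F) g =
      (Nat.card {s : Option F // FixCond (g : Matrix (Fin 2) (Fin 2) F) s} : ℂ) := by
  rw [Cfsg.fixedPointCharacter, Nat.card_congr (fixedEquiv g)]

end Cfsg.Agent.H44
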