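import Cfsg.Agent.H44.GL2Cusp
import Cfsg.Agent.H4.TwoTrans

/-!
# Auxiliary results on characters: norm two, composition with isomorphisms (helper44)
-/

set_option autoImplicit false

namespace Cfsg.Agent.H44

open scoped ComplexConjugate

section NormTwo

variable {G : Type*} [Group G] [Fintype G]

/-- A character of norm two is the sum of two distinct irreducible characters. -/
theorem exists_irr_add_of_norm_two {χ : G → ℂ} (hχ : Cfsg.IsCharacter G χ)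
    (h : Cfsg.classInner χ χ = 2) :
    ∃ ξ₁ ξ₂ : G → ℂ, Cfsg.IsIrrCharacter G ξ₁ ∧ Cfsg.IsIrrCharacter G ξ₂ ∧ ξ₁ ≠ ξ₂ ∧ χ = ξ₁ + ξ₂ := by
  classical
  letI := Cfsg.Agent.H4.fintypeIrr G
  obtain ⟨m, hm⟩ := Cfsg.Agent.H4.isCharacter_iff.mp hχ
  have hinner : ∀ ψ : Cfsg.IrrCharacter G, Cfsg.classInner χ ψ.1 = m ψ := by
    intro ψ; rw [hm, Cfsg.Agent.H4.classInner_finsum_irr]
  have hsum : (∑ ψ : Cfsg.IrrCharacter G, m ψ * m ψ : ℕ) = 2 := by
    have h2 : Cfsg.classInner χ χ = ∑ ψ : Cfsg.IrrCharacter G, (m ψ : ℂ) * (m ψ : ℂ) := by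
      conv_lhs => rw [hm, Cfsg.Agent.H4.finsum_irr_eq_sum, Cfsg.Agent.H4.classInner_sum_right]
      refine Finset.sum_congr rfl fun ψ _ => ?_
      rw [Cfsg.Agent.H4.classInner_smul_right, Complex.conj_natCast, ← Cfsg.Agent.H4.finsum_irr_eq_sum,
        ← hm, hinner]
    rw [h] at h2
    exact_mod_cast h2.symm
  have hex : ∃ ψ₀ : Cfsg.IrrCharacter G, m ψ₀ ≠ 0 := by
    by_contra hcon
    push Not at hcon
    simp [hcon] at hsum
  obtain ⟨ψ₀, hψ₀⟩ := hex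
  have hsplit := Finset.add_sum_erase Finset.univ (fun ψ => m ψ * m ψ) (Finset.mem_univ ψ₀)
  rw [hsum] at hsplit
  have h4 : m ψ₀ = 1 := by
    rcases Nat.lt_or_ge (m ψ₀) 2 with hlt | hge
    · omega
    · have : 4 ≤ m ψ₀ * m ψ₀ := by nlinarith
      omega
  have h1 : Cfsg.classInner χ ψ₀.1 = 1 := by rw [hinner, h4]; simp
  have h1' : Cfsg.classInner ψ₀.1 χ = 1 := by
    rw [← Cfsg.Agent.H4.classInner_conj_symm, h1, map_one]
  have hchar : Cfsg.IsCharacter G (χ - ψ₀.1) :=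
    Cfsg.Agent.H4.isCharacter_sub_irr hχ ψ₀ (by rw [h1]; exact one_ne_zero)
  have hirr : Cfsg.IsIrrCharacter G (χ - ψ₀.1) := by
    apply Cfsg.Agent.H4.isIrrCharacter_of_norm_one hchar
    rw [Cfsg.Agent.H4.classInner_sub_left, Cfsg.Agent.H4.classInner_sub_right,
      Cfsg.Agent.H4.classInner_sub_right, h, h1, h1', Cfsg.Agent.H4.irr_inner_self ψ₀]
    norm_num
  refine ⟨ψ₀.1, χ - ψ₀.1, ψ₀.2, hirr, ?_, by ring⟩
  intro heq
  have h5 : Cfsg.classInner (χ - ψ₀.1) ψ₀.1 = 0 := by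
    rw [Cfsg.Agent.H4.classInner_sub_left, h1, Cfsg.Agent.H4.irr_inner_self ψ₀, sub_self]
  rw [← heq, Cfsg.Agent.H4.irr_inner_self ψ₀] at h5
  exact one_ne_zero h5

end NormTwo

section Comp

variable {G K : Type*} [Group G] [Group K] [Fintype G] [Fintype K]

theorem classInner_comp_mulEquiv (e : K ≃* G) (χ ψ : G → ℂ) :
    Cfsg.classInner (fun k => χ (e k)) (fun k => ψ (e k)) = Cfsg.classInner χ ψ := by
  unfold Cfsg.classInner
  rw [Nat.card_congr e.toEquiv]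
  congr 1
  exact Equiv.sum_comp e.toEquiv (fun g => χ g * conj (ψ g))

theorem isIrrCharacter_comp_mulEquiv (e : K ≃* G) {χ : G → ℂ} (hχ : Cfsg.IsIrrCharacter G χ) :
    Cfsg.IsIrrCharacter K (fun k => χ (e k)) := by
  have h1 : Cfsg.IsCharacter K (fun k => χ (e k)) :=
    Cfsg.Agent.H4.isCharacter_comp e.toMonoidHom (Cfsg.Agent.H4.isCharacter_of_isIrrCharacter hχ)
  apply Cfsg.Agent.H4.isIrrCharacter_of_norm_one h1
  rw [classInner_comp_mulEquiv]
  exact Cfsg.Agent.H4.irr_inner_self ⟨χ, hχ⟩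

end Comp

end Cfsg.Agent.H44
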