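import Mathlib

/-!
# Class number of a group with an abelian subgroup of index two acting by inversion (helper44)
-/

set_option autoImplicit false

namespace Cfsg.Agent.H44

variable {N : Type*} [Group N]

/-- The centraliser of an element outside `T` has exactly four elements. -/
theorem card_commute_of_not_mem (T : Subgroup N) (z : N)
    (hidx : T.index = 2) (hz1 : z ≠ 1) (hzT : z ∈ T)
    (hsq : ∀ n, n ∉ T → n * n = z)
    (hinv : ∀ n, n ∉ T → ∀ t ∈ T, n * t * n⁻¹ = t⁻¹)
    (htwo : ∀ t ∈ T, t * t = 1 → t = 1 ∨ t = z) (x : N) (hx : x ∉ T) :
    Nat.card {y : N // Commute x y} = 4 := by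
  have hset : {y : N | Commute x y} = {1, z, x, x * z} := by
    ext y
    simp only [Set.mem_ofPred_eq, Set.mem_insert_iff, Set.mem_singleton_iff]
    constructor
    · intro hc
      have key : ∀ t ∈ T, Commute x t → t = 1 ∨ t = z := by
        intro t ht hct
        apply htwo t ht
        have h1 := hinv x hx t ht
        have h2 : x * t * x⁻¹ = t := by rw [hct.eq]; group
        have h3 : t = t⁻¹ := h2.symm.trans h1
        calc t * t = t * t⁻¹ := by rw [← h3]
          _ = 1 := mul_inv_cancel t
      by_cases hy : y ∈ T
      · rcases key y hy hc with h | h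
        · left; exact h
        · right; left; exact h
      · have hxy : x⁻¹ * y ∈ T := by
          rw [Subgroup.mul_mem_iff_of_index_two hidx]
          constructor
          · intro h; exact absurd (T.inv_mem_iff.mp h) hx
          · intro h; exact absurd h hy
        have hc' : Commute x (x⁻¹ * y) := (Commute.refl x).inv_right.mul_right hc
        rcases key _ hxy hc' with h | h
        · right; right; left
          have : y = x * (x⁻¹ * y) := by group
          rw [this, h, mul_one]
        · right; right; right
          have : y = x * (x⁻¹ * y) := by group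
          rw [this, h]
    · have hzx : Commute x z := by
        rw [← hsq x hx]
        exact (Commute.refl x).mul_right (Commute.refl x)
      rintro (rfl | rfl | rfl | rfl)
      · exact Commute.one_right x
      · exact hzx
      · exact Commute.refl _
      · exact (Commute.refl _).mul_right hzx
  have hxz : x * z ∉ T := by
    intro h
    rw [Subgroup.mul_mem_iff_of_index_two hidx] at h
    exact hx (h.mpr hzT)
  have h1 : Nat.card {y : N // Commute x y} = ({y : N | Commute x y}).ncard :=
    Nat.card_coe_set_eq {y : N | Commute x y}
  rw [h1, hset]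
  have hx1 : x ≠ 1 := fun h => hx (h ▸ T.one_mem)
  have hxz' : x ≠ z := fun h => hx (h ▸ hzT)
  have hxzx : x ≠ x * z := by
    intro h
    apply hz1
    have : x * 1 = x * z := by rw [mul_one]; exact h
    exact (mul_left_cancel this).symm
  have e1 : ({x, x * z} : Set N).ncard = 2 := Set.ncard_pair hxzx
  have e2 : ({z, x, x * z} : Set N).ncard = 3 := by
    rw [Set.ncard_insert_of_notMem, e1]
    simp only [Set.mem_insert_iff, Set.mem_singleton_iff, not_or]
    exact ⟨fun h => hxz' h.symm, fun h => hxz (h ▸ hzT)⟩
  rw [Set.ncard_insert_of_notMem, e2]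
  simp only [Set.mem_insert_iff, Set.mem_singleton_iff, not_or]
  exact ⟨fun h => hz1 h.symm, fun h => hx1 h.symm, fun h => hxz (h ▸ T.one_mem)⟩

/-- Class number of a group with an abelian subgroup `T` of index two whose outer elements invert
`T` and square to the unique involution `z` of `T`. -/
theorem card_conjClasses_of_index_two [Finite N] (T : Subgroup N) (z : N)
    (hidx : T.index = 2) (hz1 : z ≠ 1) (hzT : z ∈ T)
    (hcomm : ∀ s ∈ T, ∀ t ∈ T, s * t = t * s)
    (hsq : ∀ n, n ∉ T → n * n = z)
    (hinv : ∀ n, n ∉ T → ∀ t ∈ T, n * t * n⁻¹ = t⁻¹)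
    (htwo : ∀ t ∈ T, t * t = 1 → t = 1 ∨ t = z)
    (h4 : 4 ≤ Nat.card T) :
    2 * Nat.card (ConjClasses N) = Nat.card T + 6 := by
  classical
  have : Fintype N := Fintype.ofFinite N
  have hN : Nat.card N = 2 * Nat.card T := by
    rw [← Subgroup.card_mul_index T, hidx, mul_comm]
  obtain ⟨w, hw⟩ : ∃ w : N, w ∉ T := by
    by_contra hcon
    push Not at hcon
    have : T = ⊤ := by
      ext x; simp [hcon x]
    rw [this, Subgroup.index_top] at hidx
    omega
  have hzz : z * z = 1 := by
    have h1 := hinv w hw z hzT
    have h2 : w * z * w⁻¹ = z := by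
      rw [← hsq w hw]; group
    have h3 : z = z⁻¹ := h2.symm.trans h1
    calc z * z = z * z⁻¹ := by rw [← h3]
      _ = 1 := mul_inv_cancel z
  have hzc : ∀ y : N, Commute z y := by
    intro y
    by_cases hy : y ∈ T
    · exact hcomm z hzT y hy
    · rw [← hsq y hy]
      exact ((Commute.refl y).mul_right (Commute.refl y)).symm
  -- centraliser sizes
  have hc : ∀ x : N, Nat.card {y : N // Commute x y} =
      4 + (if x ∈ T then (Nat.card T - 4) else 0) + (if x = 1 ∨ x = z then Nat.card T else 0) := by
    intro x
    by_cases hx : x ∈ T
    · by_cases hx1 : x = 1 ∨ x = z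
      · rw [if_pos hx, if_pos hx1]
        have : ∀ y : N, Commute x y := by
          rcases hx1 with rfl | rfl
          · exact fun y => Commute.one_left y
          · exact hzc
        have e : {y : N // Commute x y} ≃ N :=
          Equiv.subtypeUnivEquiv this
        rw [Nat.card_congr e, hN]
        omega
      · rw [if_pos hx, if_neg hx1]
        have e : {y : N // Commute x y} ≃ T := by
          refine Equiv.subtypeEquivRight fun y => ?_
          constructor
          · intro hcy
            by_contra hy
            apply hx1
            apply htwo x hx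
            have h1 := hinv y hy x hx
            have h2 : y * x * y⁻¹ = x := by rw [← hcy.eq]; group
            have h3 : x = x⁻¹ := h2.symm.trans h1
            calc x * x = x * x⁻¹ := by rw [← h3]
              _ = 1 := mul_inv_cancel x
          · intro hy
            exact hcomm x hx y hy
        rw [Nat.card_congr e]
        omega
    · have hx1 : ¬ (x = 1 ∨ x = z) := by
        rintro (rfl | rfl)
        · exact hx T.one_mem
        · exact hx hzT
      rw [if_neg hx, if_neg hx1]
      exact card_commute_of_not_mem T z hidx hz1 hzT hsq hinv htwo x hx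
  have hpairs : Nat.card {p : N × N // Commute p.1 p.2} =
      4 * Nat.card N + (Nat.card T - 4) * Nat.card T + Nat.card T * 2 := by
    rw [Nat.card_congr (Equiv.subtypeProdEquivSigmaSubtype (fun x y : N => Commute x y)),
      Nat.card_sigma]
    simp_rw [hc]
    rw [Finset.sum_add_distrib, Finset.sum_add_distrib]
    congr 1
    · congr 1
      · rw [Finset.sum_const, Finset.card_univ, Nat.card_eq_fintype_card, smul_eq_mul, mul_comm]
      · rw [← Finset.sum_filter, Finset.sum_const, smul_eq_mul, mul_comm]
        congr 1
        rw [Nat.card_eq_fintype_card, Fintype.card_subtype]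
    · rw [← Finset.sum_filter, Finset.sum_const, smul_eq_mul, mul_comm]
      congr 1
      have : (Finset.univ.filter fun x : N => x = 1 ∨ x = z) = {1, z} := by
        ext x; simp
      rw [this, Finset.card_pair (Ne.symm hz1)]
  have hmain := card_comm_eq_card_conjClasses_mul_card N
  rw [hpairs, hN] at hmain
  have hT : 0 < Nat.card T := by omega
  have : Nat.card T * (2 * Nat.card (ConjClasses N)) = Nat.card T * (Nat.card T + 6) := by
    obtain ⟨k, hk⟩ : ∃ k, Nat.card T = k + 4 := ⟨Nat.card T - 4, by omega⟩
    rw [hk] at hmain ⊢
    simp only [Nat.add_sub_cancel] at hmain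
    nlinarith [hmain]
  exact Nat.eq_of_mul_eq_mul_left hT this

end Cfsg.Agent.H44
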