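import Cfsg.Agent.H44.PrincipalGL2

/-!
# Principal series characters of SL₂(F) and their Mackey formula (helper44)
-/

set_option autoImplicit false

namespace Cfsg.Agent.H44

open Matrix
open scoped ComplexConjugate

variable {F : Type*} [Field F]

/-- The Borel subgroup of SL₂. -/
abbrev borelSL (F : Type*) [Field F] : Subgroup (Matrix.SpecialLinearGroup (Fin 2) F) :=
  (Cfsg.upperTriangularGL 2 F).comap Matrix.SpecialLinearGroup.toGL

theorem mem_borelSL_iff (x : Matrix.SpecialLinearGroup (Fin 2) F) :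
    x ∈ borelSL F ↔ Matrix.SpecialLinearGroup.toGL x ∈ Cfsg.upperTriangularGL 2 F := Iff.rfl

theorem mem_borelSL_iff' (x : Matrix.SpecialLinearGroup (Fin 2) F) :
    x ∈ borelSL F ↔ (x : Matrix (Fin 2) (Fin 2) F) 1 0 = 0 := by
  rw [mem_borelSL_iff, mem_borel_iff]; rfl

/-- Coset representatives of the Borel subgroup in SL₂. -/
def xRepSL : Option F → Matrix.SpecialLinearGroup (Fin 2) F
  | none => 1
  | some t => ⟨!![t, -1; 1, 0], by simp [Matrix.det_fin_two]⟩

theorem slope_xRepSL (s : Option F) : slope (Matrix.SpecialLinearGroup.toGL (xRepSL s)) = s := by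
  cases s with
  | none => simp [slope, xRepSL]
  | some t =>
    unfold slope
    rw [Matrix.SpecialLinearGroup.coe_GL_coe_matrix]
    simp [xRepSL]

/-- Upper triangular elements of SL₂. -/
def triSL' (a : Fˣ) (x : F) : Matrix.SpecialLinearGroup (Fin 2) F :=
  ⟨!![(a : F), x; 0, ((a⁻¹ : Fˣ) : F)], by simp [Matrix.det_fin_two]⟩

theorem coe_triSL' (a : Fˣ) (x : F) :
    (triSL' a x : Matrix (Fin 2) (Fin 2) F) = !![(a : F), x; 0, ((a⁻¹ : Fˣ) : F)] := rfl

theorem triSL'_mem (a : Fˣ) (x : F) : triSL' a x ∈ borelSL F := by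
  rw [mem_borelSL_iff', coe_triSL']; simp

theorem borelSL_entries (b : Matrix.SpecialLinearGroup (Fin 2) F) (hb : (b : Matrix (Fin 2) (Fin 2) F) 1 0 = 0) :
    (b : Matrix (Fin 2) (Fin 2) F) 0 0 * (b : Matrix (Fin 2) (Fin 2) F) 1 1 = 1 := by
  have hdet := b.2
  rw [Matrix.det_fin_two, hb, mul_zero, sub_zero] at hdet
  exact hdet

/-- The Borel subgroup of SL₂ is parametrized by its top-left and top-right entries. -/
noncomputable def borelSLEquiv : borelSL F ≃ Fˣ × F where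
  toFun b := (Units.mk0 ((b.1 : Matrix (Fin 2) (Fin 2) F) 0 0)
      (left_ne_zero_of_mul_eq_one (borelSL_entries b.1 ((mem_borelSL_iff' _).mp b.2))),
    (b.1 : Matrix (Fin 2) (Fin 2) F) 0 1)
  invFun p := ⟨triSL' p.1 p.2, triSL'_mem _ _⟩
  left_inv b := by
    have hb := (mem_borelSL_iff' _).mp b.2
    have h1 := borelSL_entries b.1 hb
    apply Subtype.ext
    apply Subtype.ext
    rw [coe_triSL']
    ext i j
    fin_cases i <;> fin_cases j <;> simp [hb]
    exact (eq_inv_of_mul_eq_one_right h1).symm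
  right_inv p := by
    obtain ⟨a, x⟩ := p
    refine Prod.ext ?_ ?_
    · apply Units.ext; simp [coe_triSL']
    · simp [coe_triSL']

theorem coe_borelSLEquiv_symm (a : Fˣ) (x : F) :
    (((borelSLEquiv (F := F)).symm (a, x) : borelSL F) : Matrix.SpecialLinearGroup (Fin 2) F) = triSL' a x := rfl

theorem triSL'_00 (a : Fˣ) (x : F) : (triSL' a x : Matrix (Fin 2) (Fin 2) F) 0 0 = (a : F) := by
  simp [coe_triSL']

theorem triSL'_11 (a : Fˣ) (x : F) : (triSL' a x : Matrix (Fin 2) (Fin 2) F) 1 1 = ((a⁻¹ : Fˣ) : F) := by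
  simp [coe_triSL']

theorem triSL'_01 (a : Fˣ) (x : F) : (triSL' a x : Matrix (Fin 2) (Fin 2) F) 0 1 = x := by
  simp [coe_triSL']

open Classical in
/-- The sum over the Borel subgroup of SL₂ occurring in the Mackey formula, for general `τ`. -/
theorem sum_borelSL_mackey [Fintype F] [Fintype Fˣ] [Fintype (borelSL F)] (τ τ' : F → F → ℂ) :
    ∑ b : borelSL F,
      τ (((b : Matrix.SpecialLinearGroup (Fin 2) F) : Matrix (Fin 2) (Fin 2) F) 0 0) (((b : Matrix.SpecialLinearGroup (Fin 2) F) : Matrix (Fin 2) (Fin 2) F) 1 1) *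
      conj (τ' (((b : Matrix.SpecialLinearGroup (Fin 2) F) : Matrix (Fin 2) (Fin 2) F) 0 0) (((b : Matrix.SpecialLinearGroup (Fin 2) F) : Matrix (Fin 2) (Fin 2) F) 1 1) +
        ∑ t : F, if ((((b : Matrix.SpecialLinearGroup (Fin 2) F) : Matrix (Fin 2) (Fin 2) F) 1 1) - (((b : Matrix.SpecialLinearGroup (Fin 2) F) : Matrix (Fin 2) (Fin 2) F) 0 0)) * t =
            (((b : Matrix.SpecialLinearGroup (Fin 2) F) : Matrix (Fin 2) (Fin 2) F) 0 1) then
          τ' (((b : Matrix.SpecialLinearGroup (Fin 2) F) : Matrix (Fin 2) (Fin 2) F) 1 1) (((b : Matrix.SpecialLinearGroup (Fin 2) F) : Matrix (Fin 2) (Fin 2) F) 0 0) else 0) =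
    (Fintype.card F : ℂ) * ∑ a : Fˣ,
      (τ (a : F) ((a⁻¹ : Fˣ) : F) * conj (τ' (a : F) ((a⁻¹ : Fˣ) : F)) +
        τ (a : F) ((a⁻¹ : Fˣ) : F) * conj (τ' ((a⁻¹ : Fˣ) : F) (a : F))) := by
  rw [← Equiv.sum_comp (borelSLEquiv (F := F)).symm, Fintype.sum_prod_type, Finset.mul_sum]
  refine Finset.sum_congr rfl fun a _ => ?_
  have h1 : ∀ x : F,
      τ ((((borelSLEquiv (F := F)).symm (a, x) : Matrix.SpecialLinearGroup (Fin 2) F) : Matrix (Fin 2) (Fin 2) F) 0 0)
          ((((borelSLEquiv (F := F)).symm (a, x) : Matrix.SpecialLinearGroup (Fin 2) F) : Matrix (Fin 2) (Fin 2) F) 1 1) *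
        conj (τ' ((((borelSLEquiv (F := F)).symm (a, x) : Matrix.SpecialLinearGroup (Fin 2) F) : Matrix (Fin 2) (Fin 2) F) 0 0)
            ((((borelSLEquiv (F := F)).symm (a, x) : Matrix.SpecialLinearGroup (Fin 2) F) : Matrix (Fin 2) (Fin 2) F) 1 1) +
          ∑ t : F, if (((((borelSLEquiv (F := F)).symm (a, x) : Matrix.SpecialLinearGroup (Fin 2) F) : Matrix (Fin 2) (Fin 2) F) 1 1) -
                ((((borelSLEquiv (F := F)).symm (a, x) : Matrix.SpecialLinearGroup (Fin 2) F) : Matrix (Fin 2) (Fin 2) F) 0 0)) * t =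
              ((((borelSLEquiv (F := F)).symm (a, x) : Matrix.SpecialLinearGroup (Fin 2) F) : Matrix (Fin 2) (Fin 2) F) 0 1) then
            τ' ((((borelSLEquiv (F := F)).symm (a, x) : Matrix.SpecialLinearGroup (Fin 2) F) : Matrix (Fin 2) (Fin 2) F) 1 1)
              ((((borelSLEquiv (F := F)).symm (a, x) : Matrix.SpecialLinearGroup (Fin 2) F) : Matrix (Fin 2) (Fin 2) F) 0 0) else 0) =
      τ (a : F) ((a⁻¹ : Fˣ) : F) * conj (τ' (a : F) ((a⁻¹ : Fˣ) : F)) +
          ∑ t : F, if (((a⁻¹ : Fˣ) : F) - (a : F)) * t = x then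
            τ (a : F) ((a⁻¹ : Fˣ) : F) * conj (τ' ((a⁻¹ : Fˣ) : F) (a : F)) else 0 := by
    intro x
    rw [coe_borelSLEquiv_symm, triSL'_00, triSL'_11, triSL'_01, map_add, map_sum, mul_add, Finset.mul_sum]
    congr 1
    refine Finset.sum_congr rfl fun t _ => ?_
    split_ifs <;> simp
  rw [Finset.sum_congr rfl (fun x _ => h1 x), Finset.sum_add_distrib, sum_sum_ite_mul,
    Finset.sum_const, Finset.card_univ, nsmul_eq_mul]
  ring

variable [Fintype F] [Fintype (Matrix.SpecialLinearGroup (Fin 2) F)]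

/-- The principal series function `Ind_B^S α` of SL₂. -/
noncomputable def psSL (α : MulChar F ℂ) : Matrix.SpecialLinearGroup (Fin 2) F → ℂ :=
  Cfsg.indFun (borelSL F)
    (fun b => α (((b : Matrix.SpecialLinearGroup (Fin 2) F) : Matrix (Fin 2) (Fin 2) F) 0 0))

theorem isCharacter_psSL (α : MulChar F ℂ) : Cfsg.IsCharacter (Matrix.SpecialLinearGroup (Fin 2) F) (psSL α) := by
  have h := isCharacter_borelHom (Matrix.SpecialLinearGroup.toGL (n := Fin 2) (R := F)) (borelSL F)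
    mem_borelSL_iff α 1
  have h2 : (fun b : borelSL F => α (((b : Matrix.SpecialLinearGroup (Fin 2) F) : Matrix (Fin 2) (Fin 2) F) 0 0)) =
      (fun b : borelSL F =>
        α ((Matrix.SpecialLinearGroup.toGL (b : Matrix.SpecialLinearGroup (Fin 2) F) : Matrix (Fin 2) (Fin 2) F) 0 0) *
          (1 : MulChar F ℂ) ((Matrix.SpecialLinearGroup.toGL (b : Matrix.SpecialLinearGroup (Fin 2) F) : Matrix (Fin 2) (Fin 2) F) 1 1)) := by
    funext b
    have hb := (mem_borelSL_iff' _).mp b.2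
    have h11 : ((b : Matrix.SpecialLinearGroup (Fin 2) F) : Matrix (Fin 2) (Fin 2) F) 1 1 ≠ 0 :=
      right_ne_zero_of_mul_eq_one (borelSL_entries b.1 hb)
    have : (1 : MulChar F ℂ) ((Matrix.SpecialLinearGroup.toGL (b : Matrix.SpecialLinearGroup (Fin 2) F) : Matrix (Fin 2) (Fin 2) F) 1 1) = 1 :=
      MulChar.one_apply (isUnit_iff_ne_zero.mpr h11)
    rw [this, mul_one]
    rfl
  unfold psSL
  rw [h2]
  exact Cfsg.Agent.H4.isCharacter_indFun _ _ h

open Classical in
/-- **Mackey formula** for SL₂. -/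
theorem classInner_psSL (α α' : MulChar F ℂ) :
    Cfsg.classInner (psSL α) (psSL α') = (if α = α' then 1 else 0) + (if α * α' = 1 then 1 else 0) := by
  have hq : (Fintype.card F : ℂ) ≠ 0 := by
    have : Fintype.card F ≠ 0 := Fintype.card_ne_zero
    exact_mod_cast this
  have hq1 : (Fintype.card Fˣ : ℂ) ≠ 0 := by
    have : Fintype.card Fˣ ≠ 0 := Fintype.card_ne_zero
    exact_mod_cast this
  have key := classInner_indFun_borel (Matrix.SpecialLinearGroup.toGL (n := Fin 2) (R := F)) (borelSL F)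
    mem_borelSL_iff xRepSL slope_xRepSL (fun a _ => α a) (fun a _ => α' a)
  refine key.trans ?_
  have hcard : (Nat.card (borelSL F) : ℂ) = (Fintype.card Fˣ : ℂ) * (Fintype.card F : ℂ) := by
    rw [Nat.card_congr borelSLEquiv, Nat.card_prod, Nat.card_eq_fintype_card, Nat.card_eq_fintype_card]
    push_cast; ring
  have hsum := sum_borelSL_mackey (F := F) (fun a _ => α a) (fun a _ => α' a)
  rw [hcard]
  refine (congrArg (fun z => ((Fintype.card Fˣ : ℂ) * (Fintype.card F : ℂ))⁻¹ * z) hsum).trans ?_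
  have h1 : ∀ a : Fˣ, α (a : F) * conj (α' ((a⁻¹ : Fˣ) : F)) = α (a : F) * conj ((α'⁻¹) (a : F)) := by
    intro a
    rw [MulChar.inv_apply', Units.val_inv_eq_inv_val]
  beta_reduce
  rw [Finset.sum_add_distrib, Finset.sum_congr rfl (fun a _ => h1 a), mulChar_orth, mulChar_orth]
  have h2 : (α = α'⁻¹) ↔ (α * α' = 1) := by
    rw [mul_eq_one_iff_eq_inv]
  simp only [h2]
  split_ifs
  · field_simp
  · field_simp; ring
  · field_simp; ring
  · simp

theorem isIrrCharacter_psSL_iff (α : MulChar F ℂ) :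
    Cfsg.IsIrrCharacter (Matrix.SpecialLinearGroup (Fin 2) F) (psSL α) ↔ α ^ 2 ≠ 1 := by
  classical
  constructor
  · intro h hα
    have h1 := Cfsg.Agent.H4.irr_inner_self (⟨psSL α, h⟩ : Cfsg.IrrCharacter _)
    rw [classInner_psSL] at h1
    rw [pow_two] at hα
    simp [hα] at h1
  · intro hα
    apply Cfsg.Agent.H4.isIrrCharacter_of_norm_one (isCharacter_psSL α)
    rw [classInner_psSL]
    rw [pow_two] at hα
    simp [hα]

end Cfsg.Agent.H44
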