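import Cfsg.Agent.H44.PrincipalGL2
import Cfsg.Agent.H44.PrincipalSL2

/-!
# Evaluating sums over the fixed points of a 2×2 matrix on the projective line (helper44)
-/

set_option autoImplicit false

namespace Cfsg.Agent.H44

open Matrix

variable {F : Type*} [Field F]

/-- `M` has no eigenvector. -/
def Elliptic (M : Matrix (Fin 2) (Fin 2) F) : Prop :=
  ∀ (c : F) (v : Fin 2 → F), v ≠ 0 → M.mulVec v ≠ c • v

theorem not_fixCond_of_elliptic {M : Matrix (Fin 2) (Fin 2) F} (hM : Elliptic M) (s : Option F) :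
    ¬ FixCond M s := by
  intro hs
  cases s with
  | none =>
    apply hM (M 0 0) ![1, 0]
    · intro h
      have := congrFun h 0
      simp at this
    · have h10 : M 1 0 = 0 := hs
      ext i
      fin_cases i <;> simp [Matrix.mulVec, dotProduct, Fin.sum_univ_two, h10]
  | some t =>
    have hq : qf M t 1 = 0 := hs
    apply hM (M 1 0 * t + M 1 1) ![t, 1]
    · intro h
      have := congrFun h 1
      simp at this
    · ext i
      fin_cases i
      · simp [Matrix.mulVec, dotProduct, Fin.sum_univ_two]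
        simp only [qf] at hq
        linear_combination -hq
      · simp [Matrix.mulVec, dotProduct, Fin.sum_univ_two]

theorem fixCond_scalar (a : F) (s : Option F) : FixCond (a • (1 : Matrix (Fin 2) (Fin 2) F)) s := by
  cases s with
  | none => show (a • (1 : Matrix (Fin 2) (Fin 2) F)) 1 0 = 0; simp
  | some t => show qf (a • (1 : Matrix (Fin 2) (Fin 2) F)) t 1 = 0; simp [qf]

theorem eigval_scalar (a : F) (s : Option F) : eigval (a • (1 : Matrix (Fin 2) (Fin 2) F)) s = a := by
  cases s with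
  | none => simp [eigval]
  | some t => simp [eigval]

theorem fixCond_some_diag {M : Matrix (Fin 2) (Fin 2) F} (h01 : M 0 1 = 0) (h10 : M 1 0 = 0)
    (hne : M 0 0 ≠ M 1 1) (t : F) : FixCond M (some t) ↔ t = 0 := by
  show qf M t 1 = 0 ↔ _
  simp only [qf, h10, h01]
  constructor
  · intro h
    have h' : (M 1 1 - M 0 0) * t = 0 := by linear_combination h
    rcases mul_eq_zero.mp h' with h1 | h1
    · exact absurd (sub_eq_zero.mp h1).symm hne
    · exact h1
  · rintro rfl; ring

theorem fixCond_some_jordan {M : Matrix (Fin 2) (Fin 2) F} (h10 : M 1 0 = 0) (h00 : M 0 0 = M 1 1)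
    (h01 : M 0 1 ≠ 0) (t : F) : ¬ FixCond M (some t) := by
  show ¬ qf M t 1 = 0
  simp only [qf, h10, h00]
  intro h
  apply h01
  linear_combination -h

variable [Fintype F]

open Classical in
theorem fixSum_scalar {A : Type*} [AddCommMonoid A] (a : F) (f : Option F → A) :
    (∑ s : Option F, if FixCond (a • (1 : Matrix (Fin 2) (Fin 2) F)) s then f s else 0) = ∑ s : Option F, f s :=
  Finset.sum_congr rfl fun s _ => if_pos (fixCond_scalar a s)

open Classical in
theorem fixSum_diag {A : Type*} [AddCommMonoid A] {M : Matrix (Fin 2) (Fin 2) F} (h01 : M 0 1 = 0)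
    (h10 : M 1 0 = 0) (hne : M 0 0 ≠ M 1 1) (f : Option F → A) :
    (∑ s : Option F, if FixCond M s then f s else 0) = f none + f (some 0) := by
  rw [Fintype.sum_option, if_pos (show FixCond M none from h10)]
  congr 1
  rw [Finset.sum_eq_single (0 : F)]
  · rw [if_pos ((fixCond_some_diag h01 h10 hne 0).mpr rfl)]
  · intro t _ ht
    rw [if_neg (fun h => ht ((fixCond_some_diag h01 h10 hne t).mp h))]
  · intro h; exact absurd (Finset.mem_univ _) h

open Classical in
theorem fixSum_elliptic {A : Type*} [AddCommMonoid A] {M : Matrix (Fin 2) (Fin 2) F} (hM : Elliptic M)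
    (f : Option F → A) :
    (∑ s : Option F, if FixCond M s then f s else 0) = 0 :=
  Finset.sum_eq_zero fun s _ => if_neg (not_fixCond_of_elliptic hM s)

open Classical in
theorem fixSum_jordan {A : Type*} [AddCommMonoid A] {M : Matrix (Fin 2) (Fin 2) F} (h10 : M 1 0 = 0)
    (h00 : M 0 0 = M 1 1) (h01 : M 0 1 ≠ 0) (f : Option F → A) :
    (∑ s : Option F, if FixCond M s then f s else 0) = f none := by
  rw [Fintype.sum_option, if_pos (show FixCond M none from h10)]
  rw [Finset.sum_eq_zero fun t _ => if_neg (fixCond_some_jordan h10 h00 h01 t), add_zero]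

/-! ### Values of the principal series of GL₂ -/

section GLvals

variable [Fintype (GL (Fin 2) F)]

open Classical in
theorem psGL_apply (α β : MulChar F ℂ) (g : GL (Fin 2) F) :
    psGL α β g = ∑ s : Option F, if FixCond (g : Matrix (Fin 2) (Fin 2) F) s then
        α (eigval (g : Matrix (Fin 2) (Fin 2) F) s) *
          β ((g : Matrix (Fin 2) (Fin 2) F).trace - eigval (g : Matrix (Fin 2) (Fin 2) F) s) else 0 :=
  indFun_borel_formula (MonoidHom.id (GL (Fin 2) F)) (Cfsg.upperTriangularGL 2 F) (fun _ => Iff.rfl)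
    xRep slope_xRep (fun a d => α a * β d) g

theorem psGL_scalar (α β : MulChar F ℂ) (g : GL (Fin 2) F) (a : F)
    (hg : (g : Matrix (Fin 2) (Fin 2) F) = a • (1 : Matrix (Fin 2) (Fin 2) F)) :
    psGL α β g = ((Fintype.card F : ℂ) + 1) * (α a * β a) := by
  classical
  rw [psGL_apply, hg, fixSum_scalar]
  have : ∀ s : Option F, α (eigval (a • (1 : Matrix (Fin 2) (Fin 2) F)) s) *
      β ((a • (1 : Matrix (Fin 2) (Fin 2) F)).trace - eigval (a • (1 : Matrix (Fin 2) (Fin 2) F)) s) = α a * β a := by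
    intro s
    rw [eigval_scalar]
    congr 2
    simp [Matrix.trace_fin_two]
    ring
  rw [Finset.sum_congr rfl fun s _ => this s, Finset.sum_const, Finset.card_univ, Fintype.card_option]
  simp

theorem psGL_one (α β : MulChar F ℂ) : psGL α β 1 = (Fintype.card F : ℂ) + 1 := by
  rw [psGL_scalar α β 1 1 (by simp)]
  simp

theorem psGL_diag (α β : MulChar F ℂ) (g : GL (Fin 2) F)
    (h01 : (g : Matrix (Fin 2) (Fin 2) F) 0 1 = 0) (h10 : (g : Matrix (Fin 2) (Fin 2) F) 1 0 = 0)
    (hne : (g : Matrix (Fin 2) (Fin 2) F) 0 0 ≠ (g : Matrix (Fin 2) (Fin 2) F) 1 1) :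
    psGL α β g = α ((g : Matrix (Fin 2) (Fin 2) F) 0 0) * β ((g : Matrix (Fin 2) (Fin 2) F) 1 1) +
      α ((g : Matrix (Fin 2) (Fin 2) F) 1 1) * β ((g : Matrix (Fin 2) (Fin 2) F) 0 0) := by
  classical
  rw [psGL_apply, fixSum_diag h01 h10 hne]
  simp [eigval, Matrix.trace_fin_two, h10]

theorem psGL_elliptic (α β : MulChar F ℂ) (g : GL (Fin 2) F)
    (hg : Elliptic (g : Matrix (Fin 2) (Fin 2) F)) : psGL α β g = 0 := by
  classical
  rw [psGL_apply, fixSum_elliptic hg]

theorem psGL_jordan (α β : MulChar F ℂ) (g : GL (Fin 2) F)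
    (h10 : (g : Matrix (Fin 2) (Fin 2) F) 1 0 = 0)
    (h00 : (g : Matrix (Fin 2) (Fin 2) F) 0 0 = (g : Matrix (Fin 2) (Fin 2) F) 1 1)
    (h01 : (g : Matrix (Fin 2) (Fin 2) F) 0 1 ≠ 0) :
    psGL α β g = α ((g : Matrix (Fin 2) (Fin 2) F) 0 0) * β ((g : Matrix (Fin 2) (Fin 2) F) 0 0) := by
  classical
  rw [psGL_apply, fixSum_jordan h10 h00 h01]
  simp [eigval, Matrix.trace_fin_two, h00]

end GLvals

/-! ### Values of the principal series of SL₂ -/

section SLvals

variable [Fintype (Matrix.SpecialLinearGroup (Fin 2) F)]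

open Classical in
theorem psSL_apply (α : MulChar F ℂ) (g : Matrix.SpecialLinearGroup (Fin 2) F) :
    psSL α g = ∑ s : Option F, if FixCond (g : Matrix (Fin 2) (Fin 2) F) s then
        α (eigval (g : Matrix (Fin 2) (Fin 2) F) s) else 0 :=
  indFun_borel_formula Matrix.SpecialLinearGroup.toGL (borelSL F) mem_borelSL_iff
    xRepSL slope_xRepSL (fun a _ => α a) g

theorem psSL_scalar (α : MulChar F ℂ) (g : Matrix.SpecialLinearGroup (Fin 2) F) (a : F)
    (hg : (g : Matrix (Fin 2) (Fin 2) F) = a • (1 : Matrix (Fin 2) (Fin 2) F)) :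
    psSL α g = ((Fintype.card F : ℂ) + 1) * α a := by
  classical
  rw [psSL_apply, hg, fixSum_scalar]
  rw [Finset.sum_congr rfl fun s _ => by rw [eigval_scalar], Finset.sum_const, Finset.card_univ,
    Fintype.card_option]
  simp

theorem psSL_one (α : MulChar F ℂ) : psSL α 1 = (Fintype.card F : ℂ) + 1 := by
  rw [psSL_scalar α 1 1 (by simp)]
  simp

theorem psSL_diag (α : MulChar F ℂ) (g : Matrix.SpecialLinearGroup (Fin 2) F)
    (h01 : (g : Matrix (Fin 2) (Fin 2) F) 0 1 = 0) (h10 : (g : Matrix (Fin 2) (Fin 2) F) 1 0 = 0)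
    (hne : (g : Matrix (Fin 2) (Fin 2) F) 0 0 ≠ (g : Matrix (Fin 2) (Fin 2) F) 1 1) :
    psSL α g = α ((g : Matrix (Fin 2) (Fin 2) F) 0 0) + α ((g : Matrix (Fin 2) (Fin 2) F) 1 1) := by
  classical
  rw [psSL_apply, fixSum_diag h01 h10 hne]
  simp [eigval, h10]

theorem psSL_elliptic (α : MulChar F ℂ) (g : Matrix.SpecialLinearGroup (Fin 2) F)
    (hg : Elliptic (g : Matrix (Fin 2) (Fin 2) F)) : psSL α g = 0 := by
  classical
  rw [psSL_apply, fixSum_elliptic hg]

theorem psSL_jordan (α : MulChar F ℂ) (g : Matrix.SpecialLinearGroup (Fin 2) F)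
    (h10 : (g : Matrix (Fin 2) (Fin 2) F) 1 0 = 0)
    (h00 : (g : Matrix (Fin 2) (Fin 2) F) 0 0 = (g : Matrix (Fin 2) (Fin 2) F) 1 1)
    (h01 : (g : Matrix (Fin 2) (Fin 2) F) 0 1 ≠ 0) :
    psSL α g = α ((g : Matrix (Fin 2) (Fin 2) F) 0 0) := by
  classical
  rw [psSL_apply, fixSum_jordan h10 h00 h01]
  simp [eigval]

end SLvals

end Cfsg.Agent.H44
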