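import Cfsg.Agent.H44.GL2Cusp
import Cfsg.Agent.H44.SL2Card

/-!
# Counting the irreducible characters of GL₂(F) (helper44)
-/

set_option autoImplicit false

namespace Cfsg.Agent.H44

open Matrix
open scoped ComplexConjugate

section Generic

theorem sum_sum_ite_pair {ι κ : Type*} [Fintype ι] [Fintype κ] (a₀ : ι) (b₀ : κ) (c : ℂ)
    [∀ a b, Decidable (a = a₀ ∧ b = b₀)] :
    ∑ a : ι, ∑ b : κ, (if a = a₀ ∧ b = b₀ then c else 0) = c := by
  classical
  rw [Finset.sum_eq_single a₀, Finset.sum_eq_single b₀]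
  · simp
  · intro b _ hb; simp [hb]
  · intro h; exact absurd (Finset.mem_univ _) h
  · intro a _ ha; apply Finset.sum_eq_zero; intro b _; simp [ha]
  · intro h; exact absurd (Finset.mem_univ _) h

theorem sum_ite_ne_const {ι : Type*} [Fintype ι] (a₀ : ι) (c : ℂ) [∀ b, Decidable (a₀ ≠ b)] :
    ∑ b : ι, (if a₀ ≠ b then c else 0) = ((Fintype.card ι : ℂ) - 1) * c := by
  classical
  have h1 : ∀ b : ι, (if a₀ ≠ b then c else 0) = c - (if b = a₀ then c else 0) := by
    intro b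
    by_cases h : b = a₀
    · subst h; simp
    · rw [if_pos (Ne.symm h), if_neg h, sub_zero]
  rw [Finset.sum_congr rfl fun b _ => h1 b, Finset.sum_sub_distrib, Finset.sum_const, Finset.card_univ,
    Finset.sum_ite_eq']
  simp
  ring

theorem sum_ite_eq_self {ι : Type*} [Fintype ι] (a₀ : ι) (c : ι → ℂ) [∀ b, Decidable (a₀ = b)] :
    ∑ b : ι, (if a₀ = b then c b else 0) = c a₀ := by
  classical
  rw [Finset.sum_eq_single a₀]
  · simp
  · intro b _ hb; rw [if_neg (Ne.symm hb)]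
  · intro h; exact absurd (Finset.mem_univ _) h

variable {G : Type*} [Group G] [Fintype G] [Fintype (Cfsg.IrrCharacter G)]

theorem sum_irr_inner_mul {ψ : G → ℂ} (hψ : Cfsg.IsIrrCharacter G ψ) (H : Cfsg.IrrCharacter G → ℂ) :
    ∑ χ : Cfsg.IrrCharacter G, Cfsg.classInner ψ χ.1 * H χ = H ⟨ψ, hψ⟩ := by
  classical
  rw [Finset.sum_eq_single ⟨ψ, hψ⟩]
  · rw [Cfsg.Agent.H4.irr_inner_self ⟨ψ, hψ⟩, one_mul]
  · intro χ _ hne
    rw [Cfsg.Agent.H4.irr_inner_ne (χ := ⟨ψ, hψ⟩) (ψ := χ) (Ne.symm hne), zero_mul]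
  · intro h; exact absurd (Finset.mem_univ _) h

end Generic

variable {F : Type*} [Field F] [Fintype F] [Fintype (GL (Fin 2) F)] [Fintype (MulChar F ℂ)]

/-- The total multiplicity of an irreducible character in the principal series. -/
noncomputable def nGL (χ : GL (Fin 2) F → ℂ) : ℂ :=
  ∑ α : MulChar F ℂ, ∑ β : MulChar F ℂ, Cfsg.classInner (psGL α β) χ

theorem nGL_linGL (α₀ : MulChar F ℂ) : nGL (linGL α₀) = 1 := by
  classical
  unfold nGL
  simp_rw [classInner_psGL_linGL]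
  exact sum_sum_ite_pair α₀ α₀ 1

theorem nGL_stGL (α₀ : MulChar F ℂ) : nGL (stGL α₀) = 1 := by
  classical
  unfold nGL
  simp_rw [classInner_psGL_stGL]
  exact sum_sum_ite_pair α₀ α₀ 1

theorem nGL_psGL (α₀ β₀ : MulChar F ℂ) : nGL (psGL α₀ β₀) = 2 := by
  classical
  unfold nGL
  simp_rw [classInner_psGL, Finset.sum_add_distrib]
  rw [sum_sum_ite_pair, sum_sum_ite_pair]
  norm_num

theorem nGL_cuspidal {χ : GL (Fin 2) F → ℂ} (hc : IsCuspidalGL χ) : nGL χ = 0 := by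
  unfold nGL
  exact Finset.sum_eq_zero fun α _ => Finset.sum_eq_zero fun β _ => hc α β

variable [Fintype (Cfsg.IrrCharacter (GL (Fin 2) F))]

open Classical in
/-- The master formula: a sum over all irreducible characters of GL₂ splits according to the
classification. -/
theorem GL2_master (h : (GL (Fin 2) F → ℂ) → ℂ) :
    ∑ χ : Cfsg.IrrCharacter (GL (Fin 2) F), h χ.1 =
      (∑ χ : Cfsg.IrrCharacter (GL (Fin 2) F), if IsCuspidalGL χ.1 then h χ.1 else 0) +
      ((∑ α : MulChar F ℂ, (h (linGL α) + h (stGL α))) +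
      ∑ α : MulChar F ℂ, ∑ β : MulChar F ℂ, (if α ≠ β then h (psGL α β) / 2 else 0)) := by
  set H' : Cfsg.IrrCharacter (GL (Fin 2) F) → ℂ := fun χ => h χ.1 / nGL χ.1 with hH'
  have h1 : ∀ χ : Cfsg.IrrCharacter (GL (Fin 2) F),
      h χ.1 = (if IsCuspidalGL χ.1 then h χ.1 else 0) + nGL χ.1 * H' χ := by
    intro χ
    by_cases hc : IsCuspidalGL χ.1
    · rw [if_pos hc, nGL_cuspidal hc, zero_mul, add_zero]
    · rw [if_neg hc, zero_add]
      have hn : nGL χ.1 ≠ 0 := by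
        rcases irr_of_not_cuspidal χ.2 hc with ⟨α, hα⟩ | ⟨α, hα⟩ | ⟨α, β, hab, hα⟩
        · rw [hα, nGL_linGL]; exact one_ne_zero
        · rw [hα, nGL_stGL]; exact one_ne_zero
        · rw [hα, nGL_psGL]; exact two_ne_zero
      rw [hH']
      field_simp
  rw [Finset.sum_congr rfl fun χ _ => h1 χ, Finset.sum_add_distrib]
  congr 1
  have h2 : ∑ χ : Cfsg.IrrCharacter (GL (Fin 2) F), nGL χ.1 * H' χ =
      ∑ α : MulChar F ℂ, ∑ β : MulChar F ℂ, ∑ χ : Cfsg.IrrCharacter (GL (Fin 2) F),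
        Cfsg.classInner (psGL α β) χ.1 * H' χ := by
    unfold nGL
    simp_rw [Finset.sum_mul]
    rw [Finset.sum_comm]
    refine Finset.sum_congr rfl fun α _ => ?_
    rw [Finset.sum_comm]
  rw [h2]
  have h3 : ∀ α β : MulChar F ℂ, ∑ χ : Cfsg.IrrCharacter (GL (Fin 2) F),
      Cfsg.classInner (psGL α β) χ.1 * H' χ =
        (if α = β then h (linGL α) + h (stGL α) else 0) + (if α ≠ β then h (psGL α β) / 2 else 0) := by
    intro α β
    by_cases hab : α = β
    · subst hab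
      rw [if_pos rfl, if_neg (by simp), add_zero, psGL_self]
      simp_rw [Cfsg.Agent.H4.classInner_add_left, add_mul]
      rw [Finset.sum_add_distrib, sum_irr_inner_mul (isIrrCharacter_linGL α),
        sum_irr_inner_mul (isIrrCharacter_stGL α)]
      simp only [hH', nGL_linGL, nGL_stGL, div_one]
    · rw [if_neg hab, if_pos hab, zero_add, sum_irr_inner_mul (isIrrCharacter_psGL hab)]
      simp only [hH', nGL_psGL]
  rw [Finset.sum_congr rfl fun α _ => Finset.sum_congr rfl fun β _ => h3 α β]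
  rw [Finset.sum_congr rfl fun α _ => Finset.sum_add_distrib, Finset.sum_add_distrib]
  congr 1
  refine Finset.sum_congr rfl fun α _ => ?_
  exact sum_ite_eq_self α (fun β => h (linGL α) + h (stGL α))

theorem card_mulChar_complex : (Fintype.card (MulChar F ℂ) : ℂ) = (Fintype.card F : ℂ) - 1 := by
  rw [card_mulChar, Nat.cast_sub Fintype.card_pos, Nat.cast_one]

omit [Fintype (MulChar F ℂ)] in
theorem card_irr_GL2 :
    (Fintype.card (Cfsg.IrrCharacter (GL (Fin 2) F)) : ℂ) = (Fintype.card F : ℂ) ^ 2 - 1 := by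
  have h := Cfsg.Agent.H4.card_irr_eq_card_conjClasses (G := GL (Fin 2) F)
  rw [card_conjClasses_GL2, Nat.card_eq_fintype_card] at h
  rw [h, Nat.cast_sub (Nat.one_le_pow _ _ Fintype.card_pos)]
  push_cast
  ring

omit [Fintype (MulChar F ℂ)] in
theorem sum_irr_sq_GL2 :
    ∑ χ : Cfsg.IrrCharacter (GL (Fin 2) F), χ.1 1 ^ 2 =
      ((Fintype.card F : ℂ) ^ 2 - 1) * ((Fintype.card F : ℂ) ^ 2 - (Fintype.card F : ℂ)) := by
  have h := Cfsg.Agent.H4.sum_irr_sq (G := GL (Fin 2) F)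
  rw [finsum_eq_sum_of_fintype] at h
  rw [h, Matrix.card_GL_field, Fin.prod_univ_two]
  have h1 : 1 ≤ Fintype.card F ^ 2 := Nat.one_le_pow _ _ Fintype.card_pos
  have h2 : Fintype.card F ≤ Fintype.card F ^ 2 := by
    rw [pow_two]; exact Nat.le_mul_self _
  simp only [Fin.val_zero, Fin.val_one, pow_zero, pow_one]
  rw [Nat.cast_mul, Nat.cast_sub h1, Nat.cast_sub h2]
  push_cast
  ring

open Classical in
/-- The number of cuspidal irreducible characters of GL₂. -/
theorem card_cuspidal_GL2 :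
    (∑ χ : Cfsg.IrrCharacter (GL (Fin 2) F), if IsCuspidalGL χ.1 then (1 : ℂ) else 0) =
      (Fintype.card F : ℂ) * ((Fintype.card F : ℂ) - 1) / 2 := by
  have h := GL2_master (F := F) (fun _ => (1 : ℂ))
  simp only [Finset.sum_const, Finset.card_univ, nsmul_eq_mul, mul_one] at h
  rw [card_irr_GL2] at h
  rw [Finset.sum_congr rfl fun α _ => sum_ite_ne_const α ((1 : ℂ) / 2)] at h
  simp only [Finset.sum_const, Finset.card_univ, nsmul_eq_mul] at h
  rw [card_mulChar_complex] at h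
  linear_combination -h

open Classical in
theorem sum_cuspidal_sq_GL2 :
    (∑ χ : Cfsg.IrrCharacter (GL (Fin 2) F), if IsCuspidalGL χ.1 then χ.1 1 ^ 2 else 0) =
      (Fintype.card F : ℂ) * ((Fintype.card F : ℂ) - 1) ^ 3 / 2 := by
  have h := GL2_master (F := F) (fun f => f 1 ^ 2)
  simp only [linGL_one, stGL_one, psGL_one] at h
  rw [sum_irr_sq_GL2] at h
  rw [Finset.sum_congr rfl fun α _ => sum_ite_ne_const α (((Fintype.card F : ℂ) + 1) ^ 2 / 2)] at h
  simp only [Finset.sum_const, Finset.card_univ, nsmul_eq_mul] at h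
  rw [card_mulChar_complex] at h
  linear_combination -h

/-- Every cuspidal irreducible character of GL₂ has degree `q - 1`. -/
theorem cuspidal_degree_eq {χ : GL (Fin 2) F → ℂ} (hirr : Cfsg.IsIrrCharacter (GL (Fin 2) F) χ)
    (hc : IsCuspidalGL χ) : χ 1 = (Fintype.card F : ℂ) - 1 ∧ χ (triGL 1 1 1) = -1 := by
  classical
  have hex : ∀ ψ : Cfsg.IrrCharacter (GL (Fin 2) F), ∃ m : ℕ, IsCuspidalGL ψ.1 →
      (0 < m ∧ ψ.1 1 = (m : ℂ) * ((Fintype.card F : ℂ) - 1) ∧ ψ.1 (triGL 1 1 1) = -(m : ℂ)) := by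
    intro ψ
    by_cases hψ : IsCuspidalGL ψ.1
    · obtain ⟨m, hm⟩ := cuspidal_degree ψ.2 hψ
      exact ⟨m, fun _ => hm⟩
    · exact ⟨0, fun h => absurd h hψ⟩
  choose m hm using hex
  set k : Cfsg.IrrCharacter (GL (Fin 2) F) → ℕ := fun ψ => if IsCuspidalGL ψ.1 then m ψ ^ 2 - 1 else 0
    with hk
  have hq1 := card_sub_one_ne_zero (F := F)
  have hkC : ∀ ψ : Cfsg.IrrCharacter (GL (Fin 2) F), (k ψ : ℂ) * ((Fintype.card F : ℂ) - 1) ^ 2 =
      (if IsCuspidalGL ψ.1 then ψ.1 1 ^ 2 else 0) -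
        ((Fintype.card F : ℂ) - 1) ^ 2 * (if IsCuspidalGL ψ.1 then (1 : ℂ) else 0) := by
    intro ψ
    by_cases hψ : IsCuspidalGL ψ.1
    · obtain ⟨hpos, h1, -⟩ := hm ψ hψ
      have h2 : 1 ≤ m ψ ^ 2 := Nat.one_le_pow _ _ hpos
      simp only [hk, if_pos hψ]
      rw [Nat.cast_sub h2, h1]
      push_cast
      ring
    · simp only [hk, if_neg hψ]
      simp
  have hsum : ∑ ψ : Cfsg.IrrCharacter (GL (Fin 2) F), (k ψ : ℂ) * ((Fintype.card F : ℂ) - 1) ^ 2 = 0 := by
    rw [Finset.sum_congr rfl fun ψ _ => hkC ψ, Finset.sum_sub_distrib, ← Finset.mul_sum,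
      sum_cuspidal_sq_GL2, card_cuspidal_GL2]
    ring
  rw [← Finset.sum_mul] at hsum
  have hsum2 : ∑ ψ : Cfsg.IrrCharacter (GL (Fin 2) F), (k ψ : ℂ) = 0 := by
    rcases mul_eq_zero.mp hsum with h | h
    · exact h
    · exact absurd ((pow_eq_zero_iff (by norm_num)).mp h) hq1
  have hsum3 : ∑ ψ : Cfsg.IrrCharacter (GL (Fin 2) F), k ψ = 0 := by
    have : ((∑ ψ : Cfsg.IrrCharacter (GL (Fin 2) F), k ψ : ℕ) : ℂ) = 0 := by
      rw [Nat.cast_sum]; exact hsum2
    exact_mod_cast this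
  have hk0 : k ⟨χ, hirr⟩ = 0 := (Finset.sum_eq_zero_iff.mp hsum3) ⟨χ, hirr⟩ (Finset.mem_univ _)
  obtain ⟨hpos, h1, h2⟩ := hm ⟨χ, hirr⟩ hc
  have hm1 : m ⟨χ, hirr⟩ = 1 := by
    simp only [hk, if_pos hc] at hk0
    have h3 : m ⟨χ, hirr⟩ ^ 2 ≤ 1 := by omega
    have h4 : m ⟨χ, hirr⟩ ≤ 1 := by
      by_contra h5
      push Not at h5
      have : 2 ^ 2 ≤ m ⟨χ, hirr⟩ ^ 2 := Nat.pow_le_pow_left h5 2
      omega
    omega
  rw [hm1] at h1 h2
  refine ⟨?_, ?_⟩
  · refine h1.trans ?_; simp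
  · refine h2.trans ?_; simp

/-- Classification of the irreducible characters of GL₂ over a finite field. -/
theorem GL2_irr_cases {χ : GL (Fin 2) F → ℂ} (hirr : Cfsg.IsIrrCharacter (GL (Fin 2) F) χ) :
    (∃ α, χ = linGL α) ∨ (∃ α, χ = stGL α) ∨ (∃ α β, α ≠ β ∧ χ = psGL α β) ∨
      (IsCuspidalGL χ ∧ χ 1 = (Fintype.card F : ℂ) - 1 ∧ χ (triGL 1 1 1) = -1) := by
  by_cases hc : IsCuspidalGL χ
  · exact Or.inr (Or.inr (Or.inr ⟨hc, cuspidal_degree_eq hirr hc⟩))
  · rcases irr_of_not_cuspidal hirr hc with h | h | h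
    · exact Or.inl h
    · exact Or.inr (Or.inl h)
    · exact Or.inr (Or.inr (Or.inl h))

open Classical in
/-- The number of irreducible characters of GL₂ of a given degree. -/
theorem GL2_degree_count (c : ℂ) :
    (∑ χ : Cfsg.IrrCharacter (GL (Fin 2) F), if χ.1 1 = c then (1 : ℂ) else 0) =
      (if (Fintype.card F : ℂ) - 1 = c then (Fintype.card F : ℂ) * ((Fintype.card F : ℂ) - 1) / 2 else 0) +
      (((Fintype.card F : ℂ) - 1) * ((if (1 : ℂ) = c then 1 else 0) + (if (Fintype.card F : ℂ) = c then 1 else 0)) +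
      (if (Fintype.card F : ℂ) + 1 = c then ((Fintype.card F : ℂ) - 1) * ((Fintype.card F : ℂ) - 2) / 2 else 0)) := by
  have h := GL2_master (F := F) (fun f => if f 1 = c then (1 : ℂ) else 0)
  simp only [linGL_one, stGL_one, psGL_one] at h
  rw [h]
  congr 1
  · have h1 : ∀ χ : Cfsg.IrrCharacter (GL (Fin 2) F),
        (if IsCuspidalGL χ.1 then (if χ.1 1 = c then (1 : ℂ) else 0) else 0) =
          (if (Fintype.card F : ℂ) - 1 = c then (1 : ℂ) else 0) * (if IsCuspidalGL χ.1 then (1 : ℂ) else 0) := by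
      intro χ
      by_cases hc : IsCuspidalGL χ.1
      · rw [if_pos hc, if_pos hc, mul_one, (cuspidal_degree_eq χ.2 hc).1]
      · rw [if_neg hc, if_neg hc, mul_zero]
    rw [Finset.sum_congr rfl fun χ _ => h1 χ, ← Finset.mul_sum, card_cuspidal_GL2]
    split_ifs <;> simp
  · congr 1
    · rw [Finset.sum_const, Finset.card_univ, nsmul_eq_mul, card_mulChar_complex]
    · rw [Finset.sum_congr rfl fun α _ => sum_ite_ne_const α _]
      rw [Finset.sum_const, Finset.card_univ, nsmul_eq_mul, card_mulChar_complex]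
      split_ifs <;> ring

end Cfsg.Agent.H44
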