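import Cfsg.Agent.H44.GL2Lin
import Cfsg.Agent.H44.ClassCount
import Cfsg.Agent.H4.IrrCount
import Cfsg.Agent.H4.CharBasic

/-!
# Cuspidal characters of GL₂(F): first properties (helper44)
-/

set_option autoImplicit false

namespace Cfsg.Agent.H44

open Matrix
open scoped ComplexConjugate

theorem eq_of_irr_inner_ne_zero {G : Type*} [Group G] [Fintype G] {ψ χ : G → ℂ}
    (hψ : Cfsg.IsIrrCharacter G ψ) (hχ : Cfsg.IsIrrCharacter G χ)
    (h : Cfsg.classInner ψ χ ≠ 0) : χ = ψ := by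
  by_contra hne
  exact h (Cfsg.Agent.H4.irr_inner_ne (χ := ⟨ψ, hψ⟩) (ψ := ⟨χ, hχ⟩)
    (fun he => hne (congrArg Subtype.val he).symm))

variable {F : Type*} [Field F] [Fintype F] [Fintype (GL (Fin 2) F)]

/-- A function on GL₂ is cuspidal if it is orthogonal to all principal series. -/
def IsCuspidalGL (χ : GL (Fin 2) F → ℂ) : Prop :=
  ∀ α β : MulChar F ℂ, Cfsg.classInner (psGL α β) χ = 0

theorem cuspidal_sum_triGL {χ : GL (Fin 2) F → ℂ} (hχ : Cfsg.IsClassFunction (GL (Fin 2) F) χ)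
    (hc : IsCuspidalGL χ) (a d : Fˣ) : ∑ x : F, χ (triGL a d x) = 0 := by
  classical
  have h := eq_zero_of_sum_mulChar_mul₂ (fun a d => conj (∑ x : F, χ (triGL a d x))) ?_ a d
  · exact (map_eq_zero _).mp h
  · intro α β
    have h1 := hc α β
    rw [classInner_psGL_left α β χ hχ] at h1
    rcases mul_eq_zero.mp h1 with h2 | h2
    · exfalso
      rw [inv_eq_zero] at h2
      rcases mul_eq_zero.mp h2 with h3 | h3
      · exact card_ne_zero_complex h3
      · exact card_sub_one_ne_zero ((pow_eq_zero_iff (by norm_num)).mp h3)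
    · exact h2

omit [Fintype F] [Fintype (GL (Fin 2) F)] in
theorem triGL_isConj_of_ne (a d : Fˣ) (had : a ≠ d) (x : F) : IsConj (triGL a d x) (triGL a d 0) := by
  have hne : (a : F) ≠ (d : F) := fun h => had (Units.ext h)
  apply GL2_isConj_of_trace_det
  · right; right; simpa [coe_triGL] using hne
  · right; right; simpa [coe_triGL] using hne
  · simp [coe_triGL, Matrix.trace_fin_two]
  · simp [coe_triGL, Matrix.det_fin_two]

omit [Fintype F] [Fintype (GL (Fin 2) F)] in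
theorem triGL_isConj_of_eq (a : Fˣ) (x : F) (hx : x ≠ 0) : IsConj (triGL a a x) (triGL a a 1) := by
  apply GL2_isConj_of_trace_det
  · left; simpa [coe_triGL] using hx
  · left; simp [coe_triGL]
  · simp [coe_triGL, Matrix.trace_fin_two]
  · simp [coe_triGL, Matrix.det_fin_two]

theorem cuspidal_triGL_of_ne {χ : GL (Fin 2) F → ℂ} (hχ : Cfsg.IsClassFunction (GL (Fin 2) F) χ)
    (hc : IsCuspidalGL χ) (a d : Fˣ) (had : a ≠ d) : χ (triGL a d 0) = 0 := by
  have h := cuspidal_sum_triGL hχ hc a d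
  have h1 : ∀ x, χ (triGL a d x) = χ (triGL a d 0) := fun x =>
    Cfsg.Agent.H4.isClassFunction_iff_isConj.mp hχ _ _ (triGL_isConj_of_ne a d had x)
  rw [Finset.sum_congr rfl fun x _ => h1 x, Finset.sum_const, Finset.card_univ, nsmul_eq_mul] at h
  rcases mul_eq_zero.mp h with h2 | h2
  · exact absurd h2 card_ne_zero_complex
  · exact h2

theorem cuspidal_diag {χ : GL (Fin 2) F → ℂ} (hχ : Cfsg.IsClassFunction (GL (Fin 2) F) χ)
    (hc : IsCuspidalGL χ) (g : GL (Fin 2) F) (h01 : (g : Matrix (Fin 2) (Fin 2) F) 0 1 = 0)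
    (h10 : (g : Matrix (Fin 2) (Fin 2) F) 1 0 = 0)
    (hne : (g : Matrix (Fin 2) (Fin 2) F) 0 0 ≠ (g : Matrix (Fin 2) (Fin 2) F) 1 1) : χ g = 0 := by
  obtain ⟨h00, h11⟩ := borel_diag_ne_zero g h10
  have hg : g = triGL (Units.mk0 _ h00) (Units.mk0 _ h11) 0 := by
    apply Units.ext
    rw [coe_triGL]
    ext i j
    fin_cases i <;> fin_cases j <;> simp [h01, h10]
  rw [hg]
  apply cuspidal_triGL_of_ne hχ hc
  intro h
  apply hne
  have := congrArg Units.val h
  simpa using this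

theorem cuspidal_unip {χ : GL (Fin 2) F → ℂ} (hχ : Cfsg.IsClassFunction (GL (Fin 2) F) χ)
    (hc : IsCuspidalGL χ) (a : Fˣ) :
    χ (triGL a a 0) + ((Fintype.card F : ℂ) - 1) * χ (triGL a a 1) = 0 := by
  classical
  have h := cuspidal_sum_triGL hχ hc a a
  rw [← Finset.add_sum_erase _ _ (Finset.mem_univ (0 : F))] at h
  have h1 : ∀ x ∈ Finset.univ.erase (0 : F), χ (triGL a a x) = χ (triGL a a 1) := fun x hx =>
    Cfsg.Agent.H4.isClassFunction_iff_isConj.mp hχ _ _ (triGL_isConj_of_eq a x (Finset.ne_of_mem_erase hx))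
  rw [Finset.sum_congr rfl h1, Finset.sum_const, Finset.card_erase_of_mem (Finset.mem_univ _),
    Finset.card_univ, nsmul_eq_mul, Nat.cast_sub Fintype.card_pos, Nat.cast_one] at h
  exact h

omit [Fintype F] [Fintype (GL (Fin 2) F)] in
theorem triGL_one_one_zero : triGL (1 : Fˣ) 1 (0 : F) = 1 := by
  apply Units.ext
  rw [coe_triGL]
  ext i j
  fin_cases i <;> fin_cases j <;> simp

/-- A cuspidal irreducible character of GL₂ has degree `m (q - 1)` and value `-m` at the transvection. -/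
theorem cuspidal_degree {χ : GL (Fin 2) F → ℂ} (hirr : Cfsg.IsIrrCharacter (GL (Fin 2) F) χ)
    (hc : IsCuspidalGL χ) :
    ∃ m : ℕ, 0 < m ∧ χ 1 = (m : ℂ) * ((Fintype.card F : ℂ) - 1) ∧ χ (triGL 1 1 1) = -(m : ℂ) := by
  have hχ : Cfsg.IsClassFunction (GL (Fin 2) F) χ :=
    Cfsg.Agent.H4.isClassFunction_of_isCharacter (Cfsg.Agent.H4.isCharacter_of_isIrrCharacter hirr)
  obtain ⟨n, hn, h1⟩ := Cfsg.Agent.H4.irr_one_eq_natCast ⟨χ, hirr⟩
  have h1' : χ 1 = (n : ℂ) := h1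
  have hu := cuspidal_unip hχ hc 1
  rw [triGL_one_one_zero, h1'] at hu
  have hq1 := card_sub_one_ne_zero (F := F)
  have hint : IsIntegral ℤ (χ (triGL 1 1 1)) := by
    obtain ⟨k, ρ, -, rfl⟩ := hirr
    exact Cfsg.Agent.H4.character_isIntegral ρ _
  have hq2 : (1 : ℕ) < Fintype.card F := Fintype.one_lt_card
  set q := Fintype.card F with hq
  have hval : χ (triGL 1 1 1) = ((-(n : ℚ) / ((q : ℚ) - 1) : ℚ) : ℂ) := by
    push_cast
    field_simp
    linear_combination hu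
  rw [hval] at hint
  have hint2 : IsIntegral ℤ (-(n : ℚ) / ((q : ℚ) - 1) : ℚ) :=
    (isIntegral_algebraMap_iff (algebraMap ℚ ℂ).injective).mp hint
  obtain ⟨z, hz⟩ := IsIntegrallyClosed.isIntegral_iff.mp hint2
  have hq3 : ((q : ℚ) - 1) ≠ 0 := by
    have : (1 : ℚ) < (q : ℚ) := by exact_mod_cast hq2
    linarith
  have hz2 : (z : ℚ) * ((q : ℚ) - 1) = -(n : ℚ) := by
    have : (z : ℚ) = -(n : ℚ) / ((q : ℚ) - 1) := hz
    rw [this]
    field_simp
  have hz3 : z * ((q : ℤ) - 1) = -(n : ℤ) := by exact_mod_cast hz2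
  have hzneg : z < 0 := by
    by_contra hcon
    push Not at hcon
    have h3 : (0 : ℤ) ≤ z * ((q : ℤ) - 1) := mul_nonneg hcon (by omega)
    omega
  obtain ⟨m, hm⟩ := Int.eq_ofNat_of_zero_le (show (0 : ℤ) ≤ -z by omega)
  have hzm : z = -(m : ℤ) := by omega
  have hzC : ((z : ℚ) : ℂ) = -(m : ℂ) := by rw [hzm]; push_cast; ring
  have hzval : ((z : ℚ) : ℂ) = ((-(n : ℚ) / ((q : ℚ) - 1) : ℚ) : ℂ) := by
    have : (z : ℚ) = -(n : ℚ) / ((q : ℚ) - 1) := hz
    rw [this]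
  refine ⟨m, by omega, ?_, ?_⟩
  · rw [h1']
    have h6 : ((z : ℚ) : ℂ) * ((q : ℂ) - 1) = -(n : ℂ) := by
      have : ((((z : ℚ) * ((q : ℚ) - 1) : ℚ)) : ℂ) = ((-(n : ℚ) : ℚ) : ℂ) := by rw [hz2]
      push_cast at this
      exact this
    rw [hzC] at h6
    linear_combination h6
  · rw [hval, ← hzval, hzC]

/-- A non-cuspidal irreducible character of GL₂ is linear, Steinberg or principal series. -/
theorem irr_of_not_cuspidal {χ : GL (Fin 2) F → ℂ} (hirr : Cfsg.IsIrrCharacter (GL (Fin 2) F) χ)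
    (hc : ¬ IsCuspidalGL χ) :
    (∃ α, χ = linGL α) ∨ (∃ α, χ = stGL α) ∨ (∃ α β, α ≠ β ∧ χ = psGL α β) := by
  unfold IsCuspidalGL at hc
  push Not at hc
  obtain ⟨α, β, h⟩ := hc
  by_cases hab : α = β
  · subst hab
    rw [psGL_self, Cfsg.Agent.H4.classInner_add_left] at h
    by_cases h1 : Cfsg.classInner (linGL α) χ = 0
    · rw [h1, zero_add] at h
      exact Or.inr (Or.inl ⟨α, eq_of_irr_inner_ne_zero (isIrrCharacter_stGL α) hirr h⟩)
    · exact Or.inl ⟨α, eq_of_irr_inner_ne_zero (isIrrCharacter_linGL α) hirr h1⟩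
  · exact Or.inr (Or.inr ⟨α, β, hab, eq_of_irr_inner_ne_zero (isIrrCharacter_psGL hab) hirr h⟩)

end Cfsg.Agent.H44
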