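import Cfsg.Agent.H44.GL2Count

/-!
# Irreducible characters of GL₂(F) by degree (helper44)
-/

set_option autoImplicit false

namespace Cfsg.Agent.H44

open Matrix
open scoped ComplexConjugate

theorem natCard_subtype_eq_sum {ι : Type*} [Fintype ι] (p : ι → Prop) [DecidablePred p] :
    (Nat.card {x // p x} : ℂ) = ∑ x : ι, if p x then (1 : ℂ) else 0 := by
  rw [Nat.card_eq_fintype_card, Fintype.card_subtype, Finset.card_filter]
  push_cast
  rfl

variable {F : Type*} [Field F] [Fintype F]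

theorem mulChar_norm (α : MulChar F ℂ) (a : F) (ha : a ≠ 0) : ‖α a‖ = 1 := by
  have h1 : α a * conj (α a) = 1 := by
    have h2 : conj (α a) = α⁻¹ a := MulChar.star_apply' α a
    rw [h2, ← MulChar.mul_apply, mul_inv_cancel, MulChar.one_apply (isUnit_iff_ne_zero.mpr ha)]
  rw [Complex.mul_conj] at h1
  have h3 : Complex.normSq (α a) = 1 := by exact_mod_cast h1
  rw [Complex.normSq_eq_norm_sq] at h3
  have h4 : 0 ≤ ‖α a‖ := norm_nonneg _
  nlinarith

theorem eq_of_card_two (hq : Fintype.card F = 2) (x y : F) (hx : x ≠ 0) (hy : y ≠ 0) : x = y := by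
  classical
  have h1 : Fintype.card Fˣ = 1 := by rw [Fintype.card_units, hq]
  have h2 : Subsingleton Fˣ := Fintype.card_le_one_iff_subsingleton.mp h1.le
  have h3 : Units.mk0 x hx = Units.mk0 y hy := Subsingleton.elim _ _
  exact congrArg Units.val h3

variable [Fintype (GL (Fin 2) F)]

omit [Fintype F] [Fintype (GL (Fin 2) F)] in
theorem eq_triGL_one_one_one (u : GL (Fin 2) F)
    (hu : (u : Matrix (Fin 2) (Fin 2) F) = !![1, 1; 0, 1]) : u = triGL 1 1 1 := by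
  apply Units.ext
  rw [coe_triGL, hu]
  simp

omit [Fintype F] [Fintype (GL (Fin 2) F)] in
theorem linGL_unip (α : MulChar F ℂ) (u : GL (Fin 2) F)
    (hu : (u : Matrix (Fin 2) (Fin 2) F) = !![1, 1; 0, 1]) : linGL α u = 1 := by
  simp [linGL, hu, Matrix.det_fin_two]

theorem psGL_unip (α β : MulChar F ℂ) (u : GL (Fin 2) F)
    (hu : (u : Matrix (Fin 2) (Fin 2) F) = !![1, 1; 0, 1]) : psGL α β u = 1 := by
  rw [psGL_jordan α β u (by simp [hu]) (by simp [hu]) (by simp [hu])]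
  simp [hu]

theorem stGL_unip (α : MulChar F ℂ) (u : GL (Fin 2) F)
    (hu : (u : Matrix (Fin 2) (Fin 2) F) = !![1, 1; 0, 1]) : stGL α u = 0 := by
  unfold stGL
  rw [Pi.sub_apply, psGL_unip α α u hu, linGL_unip α u hu, sub_self]

theorem stGL_diag (α : MulChar F ℂ) (g : GL (Fin 2) F)
    (h01 : (g : Matrix (Fin 2) (Fin 2) F) 0 1 = 0) (h10 : (g : Matrix (Fin 2) (Fin 2) F) 1 0 = 0)
    (hne : (g : Matrix (Fin 2) (Fin 2) F) 0 0 ≠ (g : Matrix (Fin 2) (Fin 2) F) 1 1) :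
    stGL α g = α ((g : Matrix (Fin 2) (Fin 2) F) 0 0) * α ((g : Matrix (Fin 2) (Fin 2) F) 1 1) := by
  unfold stGL
  rw [Pi.sub_apply, psGL_diag α α g h01 h10 hne]
  simp only [linGL, Matrix.det_fin_two, h01, zero_mul, sub_zero, map_mul]
  ring

theorem stGL_elliptic (α : MulChar F ℂ) (g : GL (Fin 2) F)
    (hg : Elliptic (g : Matrix (Fin 2) (Fin 2) F)) :
    stGL α g = - α ((g : Matrix (Fin 2) (Fin 2) F).det) := by
  unfold stGL
  rw [Pi.sub_apply, psGL_elliptic α α g hg, zero_sub]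
  rfl

variable [Fintype (MulChar F ℂ)] [Fintype (Cfsg.IrrCharacter (GL (Fin 2) F))]

theorem GL2_irr_of_degree_q_add_one {χ : GL (Fin 2) F → ℂ} (hirr : Cfsg.IsIrrCharacter (GL (Fin 2) F) χ)
    (hdeg : χ 1 = (Fintype.card F : ℂ) + 1) : ∃ α β, α ≠ β ∧ χ = psGL α β := by
  have hq : 2 ≤ Fintype.card F := Fintype.one_lt_card
  rcases GL2_irr_cases hirr with ⟨α, rfl⟩ | ⟨α, rfl⟩ | h | ⟨-, h1, -⟩
  · exfalso
    rw [linGL_one] at hdeg
    have : (1 : ℤ) ≠ (Fintype.card F : ℤ) + 1 := by omega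
    exact this (by exact_mod_cast hdeg)
  · exfalso
    rw [stGL_one] at hdeg
    have : (Fintype.card F : ℤ) ≠ (Fintype.card F : ℤ) + 1 := by omega
    exact this (by exact_mod_cast hdeg)
  · exact h
  · exfalso
    rw [h1] at hdeg
    have : (Fintype.card F : ℤ) - 1 ≠ (Fintype.card F : ℤ) + 1 := by omega
    exact this (by exact_mod_cast hdeg)

theorem GL2_irr_of_degree_q {χ : GL (Fin 2) F → ℂ} (hirr : Cfsg.IsIrrCharacter (GL (Fin 2) F) χ)
    (hdeg : χ 1 = (Fintype.card F : ℂ)) : ∃ α, χ = stGL α := by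
  have hq : 2 ≤ Fintype.card F := Fintype.one_lt_card
  rcases GL2_irr_cases hirr with ⟨α, rfl⟩ | h | ⟨α, β, -, rfl⟩ | ⟨-, h1, -⟩
  · exfalso
    rw [linGL_one] at hdeg
    have : (1 : ℤ) ≠ (Fintype.card F : ℤ) := by omega
    exact this (by exact_mod_cast hdeg)
  · exact h
  · exfalso
    rw [psGL_one] at hdeg
    have : (Fintype.card F : ℤ) + 1 ≠ (Fintype.card F : ℤ) := by omega
    exact this (by exact_mod_cast hdeg)
  · exfalso
    rw [h1] at hdeg
    have : (Fintype.card F : ℤ) - 1 ≠ (Fintype.card F : ℤ) := by omega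
    exact this (by exact_mod_cast hdeg)

theorem GL2_irr_of_degree_q_sub_one {χ : GL (Fin 2) F → ℂ} (hq : 3 ≤ Fintype.card F)
    (hirr : Cfsg.IsIrrCharacter (GL (Fin 2) F) χ)
    (hdeg : χ 1 = (Fintype.card F : ℂ) - 1) : IsCuspidalGL χ ∧ χ (triGL 1 1 1) = -1 := by
  rcases GL2_irr_cases hirr with ⟨α, rfl⟩ | ⟨α, rfl⟩ | ⟨α, β, -, rfl⟩ | ⟨h0, -, h2⟩
  · exfalso
    rw [linGL_one] at hdeg
    have : (1 : ℤ) ≠ (Fintype.card F : ℤ) - 1 := by omega
    exact this (by exact_mod_cast hdeg)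
  · exfalso
    rw [stGL_one] at hdeg
    have : (Fintype.card F : ℤ) ≠ (Fintype.card F : ℤ) - 1 := by omega
    exact this (by exact_mod_cast hdeg)
  · exfalso
    rw [psGL_one] at hdeg
    have : (Fintype.card F : ℤ) + 1 ≠ (Fintype.card F : ℤ) - 1 := by omega
    exact this (by exact_mod_cast hdeg)
  · exact ⟨h0, h2⟩

theorem GL2_irr_of_degree_one {χ : GL (Fin 2) F → ℂ} (hq : 3 ≤ Fintype.card F)
    (hirr : Cfsg.IsIrrCharacter (GL (Fin 2) F) χ)
    (hdeg : χ 1 = 1) : ∃ α, χ = linGL α := by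
  rcases GL2_irr_cases hirr with h | ⟨α, rfl⟩ | ⟨α, β, -, rfl⟩ | ⟨-, h1, -⟩
  · exact h
  · exfalso
    rw [stGL_one] at hdeg
    have : (Fintype.card F : ℤ) ≠ 1 := by omega
    exact this (by exact_mod_cast hdeg)
  · exfalso
    rw [psGL_one] at hdeg
    have : (Fintype.card F : ℤ) + 1 ≠ 1 := by omega
    exact this (by exact_mod_cast hdeg)
  · exfalso
    rw [h1] at hdeg
    have : (Fintype.card F : ℤ) - 1 ≠ 1 := by omega
    exact this (by exact_mod_cast hdeg)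

end Cfsg.Agent.H44
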