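import Cfsg.Agent.H44.MackeyGL2

/-!
# Duality for multiplicative characters of a finite field (helper44)
-/

set_option autoImplicit false

namespace Cfsg.Agent.H44

open scoped ComplexConjugate

variable {F : Type*} [Field F] [Fintype F]

theorem card_sub_one_ne_zero : (Fintype.card F : ℂ) - 1 ≠ 0 := by
  have h2 : 1 < Fintype.card F := Fintype.one_lt_card
  intro h4
  rw [sub_eq_zero] at h4
  have : (Fintype.card F : ℂ) = ((1 : ℕ) : ℂ) := by rw [h4]; simp
  have := Nat.cast_injective this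
  omega

theorem card_ne_zero_complex : (Fintype.card F : ℂ) ≠ 0 := by
  have : Fintype.card F ≠ 0 := Fintype.card_ne_zero
  exact_mod_cast this

theorem card_mulChar [Fintype (MulChar F ℂ)] : Fintype.card (MulChar F ℂ) = Fintype.card F - 1 := by
  have h := MulChar.card_eq_card_units_of_hasEnoughRootsOfUnity F ℂ
  rw [Nat.card_eq_fintype_card, Nat.card_units, Nat.card_eq_fintype_card] at h
  exact h

/-- Second orthogonality for multiplicative characters. -/
theorem sum_mulChar_apply [Fintype (MulChar F ℂ)] [DecidableEq F] (a : F) :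
    ∑ α : MulChar F ℂ, α a = if a = 1 then ((Fintype.card F : ℂ) - 1) else 0 := by
  by_cases ha : a = 1
  · rw [if_pos ha, ha]
    simp only [map_one, Finset.sum_const, Finset.card_univ, nsmul_eq_mul, mul_one]
    rw [card_mulChar, Nat.cast_sub Fintype.card_pos, Nat.cast_one]
  · rw [if_neg ha]
    obtain ⟨χ, hχ⟩ := MulChar.exists_apply_ne_one_of_hasEnoughRootsOfUnity F ℂ ha
    have h1 : ∑ α : MulChar F ℂ, α a = χ a * ∑ α : MulChar F ℂ, α a := by
      rw [Finset.mul_sum]
      rw [← Equiv.sum_comp (Equiv.mulLeft χ)]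
      refine Finset.sum_congr rfl fun α _ => ?_
      simp [MulChar.mul_apply]
    have h2 : (χ a - 1) * ∑ α : MulChar F ℂ, α a = 0 := by linear_combination -h1
    rcases mul_eq_zero.mp h2 with h3 | h3
    · exact absurd (sub_eq_zero.mp h3) hχ
    · exact h3

/-- Fourier inversion on the unit group: a function orthogonal to all multiplicative characters
vanishes. -/
theorem eq_zero_of_sum_mulChar_mul [Fintype Fˣ] (h : Fˣ → ℂ)
    (hh : ∀ α : MulChar F ℂ, ∑ a : Fˣ, α (a : F) * h a = 0) (a₀ : Fˣ) : h a₀ = 0 := by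
  classical
  letI : Fintype (MulChar F ℂ) := Fintype.ofFinite _
  have key : ∑ α : MulChar F ℂ, α ((a₀⁻¹ : Fˣ) : F) * ∑ a : Fˣ, α (a : F) * h a =
      ((Fintype.card F : ℂ) - 1) * h a₀ := by
    simp_rw [Finset.mul_sum]
    rw [Finset.sum_comm]
    have h1 : ∀ a : Fˣ, ∑ α : MulChar F ℂ, α ((a₀⁻¹ : Fˣ) : F) * (α (a : F) * h a) =
        (if a = a₀ then ((Fintype.card F : ℂ) - 1) else 0) * h a := by
      intro a
      have h2 : ∀ α : MulChar F ℂ, α ((a₀⁻¹ : Fˣ) : F) * (α (a : F) * h a) =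
          α (((a₀⁻¹ * a : Fˣ)) : F) * h a := by
        intro α
        rw [Units.val_mul, map_mul]
        ring
      rw [Finset.sum_congr rfl fun α _ => h2 α, ← Finset.sum_mul, sum_mulChar_apply]
      congr 1
      have h3 : (((a₀⁻¹ * a : Fˣ)) : F) = 1 ↔ a = a₀ := by
        rw [Units.val_eq_one, inv_mul_eq_one, eq_comm]
      by_cases h4 : a = a₀
      · rw [if_pos h4, if_pos (h3.mpr h4)]
      · rw [if_neg h4, if_neg (fun h' => h4 (h3.mp h'))]
    rw [Finset.sum_congr rfl fun a _ => h1 a]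
    simp
  have hq : (Fintype.card F : ℂ) - 1 ≠ 0 := card_sub_one_ne_zero
  have h0 : ((Fintype.card F : ℂ) - 1) * h a₀ = 0 := by
    rw [← key]
    exact Finset.sum_eq_zero fun α _ => by rw [hh α, mul_zero]
  rcases mul_eq_zero.mp h0 with h1 | h1
  · exact absurd h1 hq
  · exact h1

/-- Two-variable Fourier inversion. -/
theorem eq_zero_of_sum_mulChar_mul₂ [Fintype Fˣ] (h : Fˣ → Fˣ → ℂ)
    (hh : ∀ α β : MulChar F ℂ, ∑ a : Fˣ, ∑ d : Fˣ, α (a : F) * β (d : F) * h a d = 0) (a₀ d₀ : Fˣ) :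
    h a₀ d₀ = 0 := by
  apply eq_zero_of_sum_mulChar_mul (fun d => h a₀ d)
  intro β
  apply eq_zero_of_sum_mulChar_mul (fun a => ∑ d : Fˣ, β (d : F) * h a d)
  intro α
  rw [← hh α β]
  refine Finset.sum_congr rfl fun a _ => ?_
  rw [Finset.mul_sum]
  refine Finset.sum_congr rfl fun d _ => ?_
  ring

end Cfsg.Agent.H44
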