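import Cfsg.Agent.H44.FixSum
import Cfsg.Agent.H44.MulCharDual
import Cfsg.Agent.H4.TwoTrans

/-!
# Linear and Steinberg characters of GL₂(F) (helper44)
-/

set_option autoImplicit false

namespace Cfsg.Agent.H44

open Matrix
open scoped ComplexConjugate

variable {F : Type*} [Field F] [Fintype F] [Fintype (GL (Fin 2) F)]

/-- Frobenius reciprocity for the principal series of GL₂, written out on the Borel subgroup. -/
theorem classInner_psGL_left [Fintype Fˣ] (α β : MulChar F ℂ) (χ : GL (Fin 2) F → ℂ)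
    (hχ : Cfsg.IsClassFunction (GL (Fin 2) F) χ) :
    Cfsg.classInner (psGL α β) χ =
      ((Fintype.card F : ℂ) * ((Fintype.card F : ℂ) - 1) ^ 2)⁻¹ *
        ∑ a : Fˣ, ∑ d : Fˣ, α (a : F) * β (d : F) * conj (∑ x : F, χ (triGL a d x)) := by
  classical
  letI : Fintype (Cfsg.upperTriangularGL 2 F) := Fintype.ofFinite _
  unfold psGL
  rw [Cfsg.Agent.H4.frobenius_reciprocity _ _ _ hχ]
  unfold Cfsg.classInner
  rw [card_borel]
  congr 1
  · push_cast [Nat.cast_sub (Fintype.card_pos (α := F))]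
    ring
  · rw [← Equiv.sum_comp (borelEquiv (F := F)).symm, Fintype.sum_prod_type]
    refine Finset.sum_congr rfl fun a _ => ?_
    rw [Fintype.sum_prod_type]
    refine Finset.sum_congr rfl fun d _ => ?_
    rw [map_sum, Finset.mul_sum]
    refine Finset.sum_congr rfl fun x _ => ?_
    beta_reduce
    rw [coe_borelEquiv_symm, triGL_00, triGL_11]

/-- The homomorphism `g ↦ α (det g)`. -/
noncomputable def detHom (α : MulChar F ℂ) : GL (Fin 2) F →* ℂ where
  toFun g := α ((g : Matrix (Fin 2) (Fin 2) F).det)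
  map_one' := by simp
  map_mul' g h := by rw [Units.val_mul, Matrix.det_mul, map_mul]

/-- The linear character `α ∘ det` of GL₂. -/
noncomputable def linGL (α : MulChar F ℂ) : GL (Fin 2) F → ℂ :=
  fun g => α ((g : Matrix (Fin 2) (Fin 2) F).det)

theorem isIrrCharacter_linGL (α : MulChar F ℂ) : Cfsg.IsIrrCharacter (GL (Fin 2) F) (linGL α) :=
  isIrrCharacter_monoidHom (detHom α)

theorem linGL_one (α : MulChar F ℂ) : linGL α 1 = 1 := by
  simp [linGL]

theorem linGL_triGL (α : MulChar F ℂ) (a d : Fˣ) (x : F) : linGL α (triGL a d x) = α (a : F) * α (d : F) := by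
  simp [linGL, coe_triGL, Matrix.det_fin_two]

open Classical in
theorem classInner_psGL_linGL (α β α₀ : MulChar F ℂ) :
    Cfsg.classInner (psGL α β) (linGL α₀) = if α = α₀ ∧ β = α₀ then 1 else 0 := by
  rw [classInner_psGL_left α β _ (Cfsg.Agent.H4.isClassFunction_of_isCharacter
    (Cfsg.Agent.H4.isCharacter_of_isIrrCharacter (isIrrCharacter_linGL α₀)))]
  have h1 : ∀ a d : Fˣ, α (a : F) * β (d : F) * conj (∑ x : F, linGL α₀ (triGL a d x)) =
      (Fintype.card F : ℂ) * ((α (a : F) * conj (α₀ (a : F))) * (β (d : F) * conj (α₀ (d : F)))) := by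
    intro a d
    rw [Finset.sum_congr rfl fun x _ => linGL_triGL α₀ a d x, Finset.sum_const, Finset.card_univ,
      nsmul_eq_mul, map_mul, map_mul, Complex.conj_natCast]
    ring
  rw [Finset.sum_congr rfl fun a _ => Finset.sum_congr rfl fun d _ => h1 a d]
  simp_rw [← Finset.mul_sum]
  rw [← Finset.sum_mul, mulChar_orth, mulChar_orth, ite_mul_ite_self]
  have hq := card_ne_zero_complex (F := F)
  have hq1 := card_sub_one_ne_zero (F := F)
  have hc : (Fintype.card Fˣ : ℂ) = (Fintype.card F : ℂ) - 1 := by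
    rw [Fintype.card_units, Nat.cast_sub Fintype.card_pos, Nat.cast_one]
  rw [hc]
  split_ifs
  · field_simp
  · simp

/-- The Steinberg-type character `Ind(α ⊗ α) − α ∘ det` of GL₂. -/
noncomputable def stGL (α : MulChar F ℂ) : GL (Fin 2) F → ℂ := psGL α α - linGL α

theorem psGL_self (α : MulChar F ℂ) : psGL α α = linGL α + stGL α := by
  unfold stGL; ring

theorem isIrrCharacter_stGL (α : MulChar F ℂ) : Cfsg.IsIrrCharacter (GL (Fin 2) F) (stGL α) := by
  classical
  have h1 : Cfsg.classInner (psGL α α) (linGL α) = 1 := by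
    rw [classInner_psGL_linGL]; simp
  have h2 : Cfsg.classInner (linGL α) (psGL α α) = 1 := by
    rw [← Cfsg.Agent.H4.classInner_conj_symm, h1, map_one]
  have hchar : Cfsg.IsCharacter (GL (Fin 2) F) (stGL α) :=
    Cfsg.Agent.H4.isCharacter_sub_irr (isCharacter_psGL α α) ⟨linGL α, isIrrCharacter_linGL α⟩
      (by rw [h1]; exact one_ne_zero)
  apply Cfsg.Agent.H4.isIrrCharacter_of_norm_one hchar
  unfold stGL
  rw [Cfsg.Agent.H4.classInner_sub_left, Cfsg.Agent.H4.classInner_sub_right,
    Cfsg.Agent.H4.classInner_sub_right, classInner_psGL, h1, h2,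
    Cfsg.Agent.H4.irr_inner_self ⟨linGL α, isIrrCharacter_linGL α⟩]
  simp

open Classical in
theorem classInner_psGL_stGL (α β α₀ : MulChar F ℂ) :
    Cfsg.classInner (psGL α β) (stGL α₀) = if α = α₀ ∧ β = α₀ then 1 else 0 := by
  unfold stGL
  rw [Cfsg.Agent.H4.classInner_sub_right, classInner_psGL, classInner_psGL_linGL]
  split_ifs <;> norm_num

theorem stGL_one (α : MulChar F ℂ) : stGL α 1 = (Fintype.card F : ℂ) := by
  unfold stGL
  rw [Pi.sub_apply, psGL_one, linGL_one]
  ring

end Cfsg.Agent.H44
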