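import Cfsg.Agent.H44.Borel
import Cfsg.Agent.H4.Chars

/-!
# Functions induced from the Borel subgroup of GL₂ / SL₂: explicit formula (helper44)
-/

set_option autoImplicit false

namespace Cfsg.Agent.H44

open Matrix

variable {F : Type*} [Field F]

/-- The eigenvalue of `g` on the line of slope `s` (meaningful when `FixCond g s` holds). -/
def eigval (g : Matrix (Fin 2) (Fin 2) F) : Option F → F
  | none => g 0 0
  | some t => g 1 0 * t + g 1 1

theorem slope_mul_of_mem (y b : GL (Fin 2) F) (hb : b ∈ Cfsg.upperTriangularGL 2 F) :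
    slope (y * b) = slope y := by
  rw [eq_comm, slope_eq_iff, inv_mul_cancel_left]
  exact hb

theorem conj_mem_borel_iff (y h : GL (Fin 2) F) :
    y⁻¹ * h * y ∈ Cfsg.upperTriangularGL 2 F ↔ FixCond (h : Matrix (Fin 2) (Fin 2) F) (slope y) := by
  rw [mul_assoc, ← slope_eq_iff, ← slope_mul_xRep_iff]
  have hb : (xRep (slope y))⁻¹ * y ∈ Cfsg.upperTriangularGL 2 F := by
    rw [← slope_eq_iff, slope_xRep]
  have hy : h * y = h * xRep (slope y) * ((xRep (slope y))⁻¹ * y) := by group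
  rw [hy, slope_mul_of_mem _ _ hb]
  exact eq_comm

theorem conj_entry_00 (y h : GL (Fin 2) F) (hmem : y⁻¹ * h * y ∈ Cfsg.upperTriangularGL 2 F) :
    ((y⁻¹ * h * y : GL (Fin 2) F) : Matrix (Fin 2) (Fin 2) F) 0 0 =
      eigval (h : Matrix (Fin 2) (Fin 2) F) (slope y) := by
  set b := y⁻¹ * h * y with hb
  have hb10 : (b : Matrix (Fin 2) (Fin 2) F) 1 0 = 0 := (mem_borel_iff b).mp hmem
  have hyb : (y : Matrix (Fin 2) (Fin 2) F) * (b : Matrix (Fin 2) (Fin 2) F) =
      (h : Matrix (Fin 2) (Fin 2) F) * (y : Matrix (Fin 2) (Fin 2) F) := by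
    rw [← Units.val_mul, ← Units.val_mul, hb]
    congr 1
    group
  have e00 := congrFun (congrFun hyb 0) 0
  have e10 := congrFun (congrFun hyb 1) 0
  simp only [Matrix.mul_apply, Fin.sum_univ_two, hb10, mul_zero, add_zero] at e00 e10
  unfold slope
  by_cases hy : (y : Matrix (Fin 2) (Fin 2) F) 1 0 = 0
  · rw [if_pos hy]
    rw [hy, mul_zero, add_zero] at e00
    have hy0 := first_col_ne_zero y hy
    show _ = (h : Matrix (Fin 2) (Fin 2) F) 0 0
    have : (y : Matrix (Fin 2) (Fin 2) F) 0 0 * ((b : Matrix (Fin 2) (Fin 2) F) 0 0 - (h : Matrix (Fin 2) (Fin 2) F) 0 0) = 0 := by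
      linear_combination e00
    rcases mul_eq_zero.mp this with h1 | h1
    · exact absurd h1 hy0
    · linear_combination h1
  · rw [if_neg hy]
    show _ = (h : Matrix (Fin 2) (Fin 2) F) 1 0 * ((y : Matrix (Fin 2) (Fin 2) F) 0 0 / (y : Matrix (Fin 2) (Fin 2) F) 1 0) +
      (h : Matrix (Fin 2) (Fin 2) F) 1 1
    field_simp
    linear_combination e10

theorem conj_entry_11 (y h : GL (Fin 2) F) (hmem : y⁻¹ * h * y ∈ Cfsg.upperTriangularGL 2 F) :
    ((y⁻¹ * h * y : GL (Fin 2) F) : Matrix (Fin 2) (Fin 2) F) 1 1 =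
      (h : Matrix (Fin 2) (Fin 2) F).trace - eigval (h : Matrix (Fin 2) (Fin 2) F) (slope y) := by
  rw [← conj_entry_00 y h hmem]
  have htr : ((y⁻¹ * h * y : GL (Fin 2) F) : Matrix (Fin 2) (Fin 2) F).trace =
      (h : Matrix (Fin 2) (Fin 2) F).trace := by
    have hc : IsConj h (y⁻¹ * h * y) := by
      rw [isConj_iff]
      exact ⟨y⁻¹, by group⟩
    exact (GL2_trace_of_isConj hc).symm
  rw [← htr, Matrix.trace_fin_two]
  ring

open Classical in
/-- Explicit formula for a function induced from (the preimage of) the Borel subgroup.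
`K` is a finite group with a homomorphism `φ` to GL₂, `BK` is the preimage of the Borel subgroup and
`xK` is a family of elements of `K` whose images have all possible slopes. -/
theorem indFun_borel_formula [Fintype F] {K : Type*} [Group K] [Fintype K] (φ : K →* GL (Fin 2) F)
    (BK : Subgroup K) (hBK : ∀ x : K, x ∈ BK ↔ φ x ∈ Cfsg.upperTriangularGL 2 F)
    (xK : Option F → K) (hx : ∀ s, slope (φ (xK s)) = s) (τ : F → F → ℂ) (g : K) :
    Cfsg.indFun BK
        (fun b => τ ((φ (b : K) : Matrix (Fin 2) (Fin 2) F) 0 0) ((φ (b : K) : Matrix (Fin 2) (Fin 2) F) 1 1)) g =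
      ∑ s : Option F, if FixCond (φ g : Matrix (Fin 2) (Fin 2) F) s then
        τ (eigval (φ g : Matrix (Fin 2) (Fin 2) F) s)
          ((φ g : Matrix (Fin 2) (Fin 2) F).trace - eigval (φ g : Matrix (Fin 2) (Fin 2) F) s) else 0 := by
  classical
  set θ : BK → ℂ := fun b => τ ((φ (b : K) : Matrix (Fin 2) (Fin 2) F) 0 0) ((φ (b : K) : Matrix (Fin 2) (Fin 2) F) 1 1) with hθ
  have hmemB : ∀ (s : Option F) (x : K), slope (φ x) = s → (xK s)⁻¹ * x ∈ BK := by
    intro s x hs
    rw [hBK, map_mul, map_inv, ← slope_eq_iff, hx, hs]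
  have hslope : ∀ (s : Option F) (b : BK), slope (φ (xK s * b)) = s := by
    intro s b
    rw [map_mul, slope_mul_of_mem _ _ ((hBK _).mp b.2), hx]
  let e : Option F × BK ≃ K :=
    { toFun := fun p => xK p.1 * p.2
      invFun := fun x => (slope (φ x), ⟨(xK (slope (φ x)))⁻¹ * x, hmemB _ x rfl⟩)
      left_inv := fun p => by
        obtain ⟨s, b⟩ := p
        have h1 := hslope s b
        apply Prod.ext
        · exact h1
        · apply Subtype.ext
          show (xK (slope (φ (xK s * b))))⁻¹ * (xK s * b) = b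
          rw [h1, inv_mul_cancel_left]
      right_inv := fun x => by
        show xK (slope (φ x)) * ((xK (slope (φ x)))⁻¹ * x) = x
        rw [mul_inv_cancel_left] }
  have key : ∀ (s : Option F) (b : BK),
      Cfsg.extendByZero BK θ ((xK s * b)⁻¹ * g * (xK s * b)) =
        if FixCond (φ g : Matrix (Fin 2) (Fin 2) F) s then
          τ (eigval (φ g : Matrix (Fin 2) (Fin 2) F) s)
            ((φ g : Matrix (Fin 2) (Fin 2) F).trace - eigval (φ g : Matrix (Fin 2) (Fin 2) F) s) else 0 := by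
    intro s b
    have hs := hslope s b
    set x := xK s * (b : K) with hxdef
    have hφ : φ (x⁻¹ * g * x) = (φ x)⁻¹ * φ g * φ x := by
      rw [map_mul, map_mul, map_inv]
    have hiff : x⁻¹ * g * x ∈ BK ↔ FixCond (φ g : Matrix (Fin 2) (Fin 2) F) s := by
      rw [hBK, hφ, conj_mem_borel_iff, hs]
    by_cases hfix : FixCond (φ g : Matrix (Fin 2) (Fin 2) F) s
    · have hmem : x⁻¹ * g * x ∈ BK := hiff.mpr hfix
      rw [if_pos hfix, Cfsg.Agent.H4.extendByZero_of_mem BK θ hmem]
      have hmem' : (φ x)⁻¹ * φ g * φ x ∈ Cfsg.upperTriangularGL 2 F := by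
        rw [← hφ]; exact (hBK _).mp hmem
      show τ ((φ (x⁻¹ * g * x) : Matrix (Fin 2) (Fin 2) F) 0 0) ((φ (x⁻¹ * g * x) : Matrix (Fin 2) (Fin 2) F) 1 1) = _
      rw [hφ, conj_entry_00 _ _ hmem', conj_entry_11 _ _ hmem', hs]
    · have hmem : x⁻¹ * g * x ∉ BK := fun h => hfix (hiff.mp h)
      rw [if_neg hfix, Cfsg.Agent.H4.extendByZero_of_not_mem BK θ hmem]
  have hcard : (Nat.card BK : ℂ) ≠ 0 := by
    have : Nat.card BK ≠ 0 := Nat.card_pos.ne'
    exact_mod_cast this
  rw [Cfsg.Agent.H4.indFun_apply, ← Equiv.sum_comp e, Fintype.sum_prod_type]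
  have h2 : ∀ s : Option F, ∑ b : BK, Cfsg.extendByZero BK θ ((e (s, b))⁻¹ * g * e (s, b)) =
      (Nat.card BK : ℂ) * (if FixCond (φ g : Matrix (Fin 2) (Fin 2) F) s then
          τ (eigval (φ g : Matrix (Fin 2) (Fin 2) F) s)
            ((φ g : Matrix (Fin 2) (Fin 2) F).trace - eigval (φ g : Matrix (Fin 2) (Fin 2) F) s) else 0) := by
    intro s
    refine (Finset.sum_congr rfl fun b _ => key s b).trans ?_
    rw [Finset.sum_const, Finset.card_univ, nsmul_eq_mul, Nat.card_eq_fintype_card]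
  refine (congrArg (fun z => (Nat.card BK : ℂ)⁻¹ * z) (Finset.sum_congr rfl fun s _ => h2 s)).trans ?_
  rw [← Finset.mul_sum, ← mul_assoc, inv_mul_cancel₀ hcard, one_mul]

end Cfsg.Agent.H44
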