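import Mathlib

/-!
# helper44: piece M-XCYC of helper45's project S2415 (pure linear algebra over a finite field)
-/

set_option autoImplicit false

namespace Cfsg.Agent.H44.M

open Matrix

/-- Right multiplication by the transpose, as a ring hom into the endomorphisms of `2 × k`
matrices. -/
def rmul (F : Type*) [Field F] (k : ℕ) :
    Matrix (Fin k) (Fin k) F →+* Module.End F (Matrix (Fin 2) (Fin k) F) where
  toFun M :=
    { toFun := fun γ => γ * Mᵀ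
      map_add' := fun x y => Matrix.add_mul x y _
      map_smul' := fun c x => by simp }
  map_one' := by apply LinearMap.ext; intro γ; simp
  map_mul' := fun M N => by
    apply LinearMap.ext; intro γ; simp [transpose_mul, Matrix.mul_assoc]
  map_zero' := by apply LinearMap.ext; intro γ; simp
  map_add' := fun M N => by apply LinearMap.ext; intro γ; simp [Matrix.mul_add]

/-- Left multiplication, as a ring hom into the endomorphisms of `2 × k` matrices. -/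
def lmul (F : Type*) [Field F] (k : ℕ) :
    Matrix (Fin 2) (Fin 2) F →+* Module.End F (Matrix (Fin 2) (Fin k) F) where
  toFun ρ :=
    { toFun := fun γ => ρ * γ
      map_add' := fun x y => Matrix.mul_add _ x y
      map_smul' := fun c x => by simp }
  map_one' := by apply LinearMap.ext; intro γ; simp
  map_mul' := fun M N => by
    apply LinearMap.ext; intro γ; simp [Matrix.mul_assoc]
  map_zero' := by apply LinearMap.ext; intro γ; simp
  map_add' := fun M N => by apply LinearMap.ext; intro γ; simp [Matrix.add_mul]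

theorem rmul_apply {F : Type*} [Field F] {k : ℕ} (M : Matrix (Fin k) (Fin k) F)
    (γ : Matrix (Fin 2) (Fin k) F) : rmul F k M γ = γ * Mᵀ := rfl

theorem lmul_apply {F : Type*} [Field F] {k : ℕ} (ρ : Matrix (Fin 2) (Fin 2) F)
    (γ : Matrix (Fin 2) (Fin k) F) : lmul F k ρ γ = ρ * γ := rfl

theorem lmul_rmul_comm {F : Type*} [Field F] {k : ℕ} (ρ : Matrix (Fin 2) (Fin 2) F)
    (M : Matrix (Fin k) (Fin k) F) : Commute (lmul F k ρ) (rmul F k M) := by
  apply LinearMap.ext; intro γ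
  simp [Module.End.mul_apply, rmul_apply, lmul_apply, Matrix.mul_assoc]

/-- The endomorphisms stabilising an additive subgroup. -/
def stabRing {F : Type*} [Field F] {k : ℕ} (C : AddSubgroup (Matrix (Fin 2) (Fin k) F)) :
    Subring (Module.End F (Matrix (Fin 2) (Fin k) F)) where
  carrier := {f | ∀ γ ∈ C, f γ ∈ C}
  mul_mem' := fun {f g} hf hg γ hγ => hf _ (hg γ hγ)
  one_mem' := fun γ hγ => hγ
  add_mem' := fun {f g} hf hg γ hγ => C.add_mem (hf γ hγ) (hg γ hγ)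
  zero_mem' := fun γ _ => C.zero_mem
  neg_mem' := fun {f} hf γ hγ => C.neg_mem (hf γ hγ)

theorem xcyc {F : Type*} [Field F] [Fintype F] {k : ℕ} (B B' : Matrix (Fin k) (Fin k) F)
    (hBB' : B * B' = 1) (j e : ℕ)
    (he : 0 < e) (ρ ρ' ρ₁ : Matrix (Fin 2) (Fin 2) F) (hρρ' : ρ * ρ' = 1) (hρe : ρ ^ e = 1)
    (hρ₁ : ρ₁ = ρ ∨ ρ₁ = ρ')
    (hB : B ∈ AddSubgroup.closure (Set.range fun i : ℕ => ((B ^ j) ^ e) ^ i))
    (hfix : ∀ v : Fin k → F, ((B ^ j) ^ e) *ᵥ v = v → v = 0)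
    (w₀ : Fin k → F) (htr : ∀ w : Fin k → F, w ≠ 0 → ∃ i : ℕ, w = (B ^ i) *ᵥ w₀)
    (d₀ : Fin 2 → F) (hd : ∀ d : Fin 2 → F, ∃ α β : F, d = α • d₀ + β • (ρ *ᵥ d₀))
    (C : AddSubgroup (Matrix (Fin 2) (Fin k) F)) (hC : ∀ γ ∈ C, ρ * γ * (B ^ j)ᵀ ∈ C)
    (γ₀ γ₁ : Matrix (Fin 2) (Fin k) F)
    (hγ₀ : γ₀ = ρ * Matrix.vecMulVec d₀ w₀ * (B ^ j)ᵀ - Matrix.vecMulVec d₀ w₀)
    (hγ₁ : γ₁ = ρ * γ₀ * (B ^ j)ᵀ - ρ * ρ₁ * γ₀ + ρ₁ * γ₀ * (B' ^ j)ᵀ - γ₀)
    (hmem : γ₁ ∈ C) : C = ⊤ := by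
  classical
  set Θ := (B ^ j) ^ e with hΘ
  let R := rmul F k
  let L := lmul F k
  let St := stabRing C
  have hB'B : B' * B = 1 := mul_eq_one_comm.mp hBB'
  have hcommB : Commute B B' := hBB'.trans hB'B.symm
  set T : Module.End F (Matrix (Fin 2) (Fin k) F) := L ρ * R (B ^ j) with hT
  set T' : Module.End F (Matrix (Fin 2) (Fin k) F) := L ρ₁ * R (B' ^ j) with hT'
  have hTmem : T ∈ St := by
    intro γ hγ
    have := hC γ hγ
    rw [Matrix.mul_assoc] at this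
    exact this
  have hTe : T ^ e = R Θ := by
    rw [hT, (lmul_rmul_comm ρ (B ^ j)).mul_pow, ← map_pow, ← map_pow, hρe, map_one, one_mul]
  have hΘmem : R Θ ∈ St := hTe ▸ St.pow_mem hTmem e
  have hcl : ∀ M ∈ AddSubgroup.closure (Set.range fun i : ℕ => Θ ^ i), R M ∈ St := by
    intro M hM
    have : AddSubgroup.closure (Set.range fun i : ℕ => Θ ^ i) ≤ (St.comap R).toAddSubgroup := by
      rw [AddSubgroup.closure_le]
      rintro _ ⟨i, rfl⟩
      show R (Θ ^ i) ∈ St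
      rw [map_pow]; exact St.pow_mem hΘmem i
    exact this hM
  have hRB : R B ∈ St := hcl B hB
  have hB'pow : ∃ n : ℕ, B' = B ^ n := by
    let Bu : (Matrix (Fin k) (Fin k) F)ˣ := ⟨B, B', hBB', hB'B⟩
    have hfin : IsOfFinOrder Bu := isOfFinOrder_of_finite Bu
    have hpos := hfin.orderOf_pos
    refine ⟨orderOf Bu - 1, ?_⟩
    have h1 : Bu ^ (orderOf Bu - 1) * Bu = 1 := by
      rw [← pow_succ, Nat.sub_add_cancel hpos, pow_orderOf_eq_one]
    have h2 : Bu ^ (orderOf Bu - 1) = Bu⁻¹ := eq_inv_of_mul_eq_one_left h1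
    have h3 := congrArg Units.val h2
    rw [Units.val_pow_eq_pow_val] at h3
    exact h3.symm
  obtain ⟨n, hn⟩ := hB'pow
  have hRB' : R B' ∈ St := by rw [hn, map_pow]; exact St.pow_mem hRB n
  have hRB'j : R (B' ^ j) ∈ St := by rw [map_pow]; exact St.pow_mem hRB' j
  have hBjB'j : B ^ j * B' ^ j = 1 := by rw [← hcommB.mul_pow, hBB', one_pow]
  have hLρ : L ρ ∈ St := by
    have : L ρ = T * R (B' ^ j) := by
      rw [hT, mul_assoc, ← map_mul, hBjB'j, map_one, mul_one]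
    rw [this]; exact St.mul_mem hTmem hRB'j
  have hρ' : ρ' = ρ ^ (e - 1) := by
    have h1 : ρ ^ (e - 1) * ρ = 1 := by rw [← pow_succ, Nat.sub_add_cancel he, hρe]
    calc ρ' = (ρ ^ (e - 1) * ρ) * ρ' := by rw [h1, one_mul]
      _ = ρ ^ (e - 1) := by rw [mul_assoc, hρρ', mul_one]
  have hLρ' : L ρ' ∈ St := by rw [hρ', map_pow]; exact St.pow_mem hLρ _
  have hLρ₁ : L ρ₁ ∈ St := by
    rcases hρ₁ with h | h
    · rw [h]; exact hLρ
    · rw [h]; exact hLρ'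
  have hT'mem : T' ∈ St := St.mul_mem hLρ₁ hRB'j
  have hρ₁e : ρ₁ ^ e = 1 := by
    rcases hρ₁ with h | h
    · rw [h]; exact hρe
    · rw [h, hρ', ← pow_mul, mul_comm, pow_mul, hρe, one_pow]
  have hT'e : T' ^ e = R ((B' ^ j) ^ e) := by
    rw [hT', (lmul_rmul_comm ρ₁ (B' ^ j)).mul_pow, ← map_pow, ← map_pow, hρ₁e, map_one, one_mul]
  have hfix0 : ∀ γ : Matrix (Fin 2) (Fin k) F, R Θ γ = γ → γ = 0 := by
    intro γ hγ
    ext i c
    have h1 : Θ *ᵥ (γ i) = γ i := by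
      ext c'
      have h2 := congrFun (congrFun hγ i) c'
      rw [show R Θ γ = γ * Θᵀ from rfl, Matrix.mul_apply] at h2
      rw [← h2]
      simp [Matrix.mulVec, dotProduct, mul_comm]
    have h3 := hfix _ h1
    rw [h3]; rfl
  have hTinj : ∀ γ, (T - 1) γ = 0 → γ = 0 := by
    intro γ hγ
    have h1 : T γ = γ := by
      rwa [LinearMap.sub_apply, Module.End.one_apply, sub_eq_zero] at hγ
    apply hfix0
    rw [← hTe, Module.End.pow_apply]
    exact Function.iterate_fixed h1 e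
  have hT'inj : ∀ γ, (T' - 1) γ = 0 → γ = 0 := by
    intro γ hγ
    have h1 : T' γ = γ := by
      rwa [LinearMap.sub_apply, Module.End.one_apply, sub_eq_zero] at hγ
    have h2 : (T' ^ e) γ = γ := by
      rw [Module.End.pow_apply]; exact Function.iterate_fixed h1 e
    rw [hT'e] at h2
    apply hfix0
    have h3 : R Θ (R ((B' ^ j) ^ e) γ) = γ := by
      rw [← Module.End.mul_apply, ← map_mul, hΘ, ← (hcommB.pow_pow j j).mul_pow, hBjB'j, one_pow,
        map_one, Module.End.one_apply]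
    rw [h2] at h3
    exact h3
  set t : Module.End F (Matrix (Fin 2) (Fin k) F) := (T - 1) * (T' - 1) * (T - 1) with ht
  have htmem : t ∈ St :=
    St.mul_mem (St.mul_mem (St.sub_mem hTmem St.one_mem) (St.sub_mem hT'mem St.one_mem))
      (St.sub_mem hTmem St.one_mem)
  have htinj : Function.Injective t := by
    rw [← LinearMap.ker_eq_bot, LinearMap.ker_eq_bot']
    intro γ hγ
    rw [ht, Module.End.mul_apply, Module.End.mul_apply] at hγ
    exact hTinj _ (hT'inj _ (hTinj _ hγ))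
  set γ' := Matrix.vecMulVec d₀ w₀ with hγ'
  have hγ₀' : γ₀ = (T - 1) γ' := by
    rw [hγ₀, LinearMap.sub_apply, Module.End.one_apply]
    show _ = ρ * (γ' * (B ^ j)ᵀ) - γ'
    rw [Matrix.mul_assoc]
  have hTT' : T * T' = L (ρ * ρ₁) := by
    rw [hT, hT', mul_assoc, ← mul_assoc (R (B ^ j)), ← (lmul_rmul_comm ρ₁ (B ^ j)).eq,
      mul_assoc (L ρ₁), ← map_mul R, hBjB'j, map_one, mul_one, ← map_mul]
  have htγ' : t γ' = -γ₁ := by
    have h1 : t γ' = ((T - 1) * (T' - 1)) γ₀ := by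
      rw [ht, Module.End.mul_apply, ← hγ₀']
    rw [h1]
    have e1 : (T - 1) * (T' - 1) = T * T' - T - T' + 1 := by
      rw [sub_mul, mul_sub, mul_sub, mul_one, one_mul, one_mul]; abel
    rw [e1, hTT', hγ₁]
    simp only [LinearMap.add_apply, LinearMap.sub_apply, Module.End.one_apply]
    show ρ * ρ₁ * γ₀ - ρ * (γ₀ * (B ^ j)ᵀ) - ρ₁ * (γ₀ * (B' ^ j)ᵀ) + γ₀ = _
    rw [← Matrix.mul_assoc, ← Matrix.mul_assoc]; abel
  have htγ'C : t γ' ∈ C := by rw [htγ']; exact C.neg_mem hmem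
  have hγ'C : γ' ∈ C := by
    obtain ⟨m, n, hmn, heq⟩ := Finite.exists_ne_map_eq_of_infinite (fun n : ℕ => (t ^ n) γ')
    have heq' : (t ^ m) γ' = (t ^ n) γ' := heq
    wlog hlt : m < n generalizing m n
    · exact this n m hmn.symm heq.symm heq'.symm (lt_of_le_of_ne (not_lt.mp hlt) hmn.symm)
    obtain ⟨d, rfl⟩ : ∃ d, n = m + (d + 1) := ⟨n - m - 1, by omega⟩
    have h1 : (t ^ m) ((t ^ (d + 1)) γ') = (t ^ m) γ' := by
      rw [← Module.End.mul_apply, ← pow_add]; exact heq'.symm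
    have hinj : Function.Injective (t ^ m) := by
      rw [Module.End.coe_pow]; exact htinj.iterate m
    have h2 := hinj h1
    rw [← h2, pow_succ, Module.End.mul_apply]
    exact St.pow_mem htmem d _ htγ'C
  have hvm : ∀ (d : Fin 2 → F) (w : Fin k → F) (M : Matrix (Fin k) (Fin k) F),
      Matrix.vecMulVec d w * Mᵀ = Matrix.vecMulVec d (M *ᵥ w) := by
    intro d w M; ext r c
    simp [Matrix.mul_apply, Matrix.vecMulVec_apply, Matrix.mulVec, dotProduct, Finset.mul_sum,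
      mul_comm, mul_left_comm]
  have hvl : ∀ (σ : Matrix (Fin 2) (Fin 2) F) (d : Fin 2 → F) (w : Fin k → F),
      σ * Matrix.vecMulVec d w = Matrix.vecMulVec (σ *ᵥ d) w := by
    intro σ d w; ext r c
    simp only [Matrix.mul_apply, Matrix.vecMulVec_apply, Matrix.mulVec, dotProduct,
      Finset.sum_mul, mul_assoc]
  have hd₀w : ∀ w : Fin k → F, Matrix.vecMulVec d₀ w ∈ C := by
    intro w
    by_cases hw : w = 0
    · have h0 : Matrix.vecMulVec d₀ (0 : Fin k → F) = 0 := by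
        ext r c; simp [Matrix.vecMulVec_apply]
      rw [hw, h0]; exact C.zero_mem
    · obtain ⟨i, rfl⟩ := htr w hw
      rw [← hvm]
      have : R (B ^ i) ∈ St := by rw [map_pow]; exact St.pow_mem hRB i
      exact this γ' hγ'C
  have hρd₀w : ∀ w : Fin k → F, Matrix.vecMulVec (ρ *ᵥ d₀) w ∈ C := by
    intro w; rw [← hvl]; exact hLρ _ (hd₀w w)
  have hall : ∀ (d : Fin 2 → F) (w : Fin k → F), Matrix.vecMulVec d w ∈ C := by
    intro d w
    obtain ⟨α, β, rfl⟩ := hd d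
    have : Matrix.vecMulVec (α • d₀ + β • ρ *ᵥ d₀) w
        = Matrix.vecMulVec d₀ (α • w) + Matrix.vecMulVec (ρ *ᵥ d₀) (β • w) := by
      ext r c
      simp only [Matrix.vecMulVec_apply, Matrix.add_apply, Pi.add_apply, Pi.smul_apply,
        smul_eq_mul]
      ring
    rw [this]; exact C.add_mem (hd₀w _) (hρd₀w _)
  rw [eq_top_iff]
  intro γ _
  have : γ = Matrix.vecMulVec ![1, 0] (γ 0) + Matrix.vecMulVec ![0, 1] (γ 1) := by
    ext r c
    rw [Matrix.add_apply, Matrix.vecMulVec_apply, Matrix.vecMulVec_apply]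
    fin_cases r <;> simp
  rw [this]; exact C.add_mem (hall _ _) (hall _ _)

/-- verbatim check of the posted statement -/
example {F : Type*} [Field F] [Fintype F] {k : ℕ} (B B' : Matrix (Fin k) (Fin k) F) (hBB' : B * B' = 1) (j e : ℕ)
    (he : 0 < e) (ρ ρ' ρ₁ : Matrix (Fin 2) (Fin 2) F) (hρρ' : ρ * ρ' = 1) (hρe : ρ ^ e = 1)
    (hρ₁ : ρ₁ = ρ ∨ ρ₁ = ρ')
    (hB : B ∈ AddSubgroup.closure (Set.range fun i : ℕ => ((B ^ j) ^ e) ^ i))
    (hfix : ∀ v : Fin k → F, ((B ^ j) ^ e) *ᵥ v = v → v = 0)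
    (w₀ : Fin k → F) (htr : ∀ w : Fin k → F, w ≠ 0 → ∃ i : ℕ, w = (B ^ i) *ᵥ w₀)
    (d₀ : Fin 2 → F) (hd : ∀ d : Fin 2 → F, ∃ α β : F, d = α • d₀ + β • (ρ *ᵥ d₀))
    (C : AddSubgroup (Matrix (Fin 2) (Fin k) F)) (hC : ∀ γ ∈ C, ρ * γ * (B ^ j)ᵀ ∈ C)
    (γ₀ γ₁ : Matrix (Fin 2) (Fin k) F)
    (hγ₀ : γ₀ = ρ * Matrix.vecMulVec d₀ w₀ * (B ^ j)ᵀ - Matrix.vecMulVec d₀ w₀)
    (hγ₁ : γ₁ = ρ * γ₀ * (B ^ j)ᵀ - ρ * ρ₁ * γ₀ + ρ₁ * γ₀ * (B' ^ j)ᵀ - γ₀)
    (hmem : γ₁ ∈ C) : C = ⊤ :=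
  xcyc B B' hBB' j e he ρ ρ' ρ₁ hρρ' hρe hρ₁ hB hfix w₀ htr d₀ hd C hC γ₀ γ₁ hγ₀ hγ₁ hmem

end Cfsg.Agent.H44.M
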