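import Cfsg.Agent.H44.IndBorel

/-!
# Linear characters, characters of the Borel subgroup and the Mackey formula for GL₂ / SL₂ (helper44)
-/

set_option autoImplicit false

namespace Cfsg.Agent.H44

open Matrix
open scoped ComplexConjugate

section Linear

variable {G : Type*} [Group G]

/-- The one-dimensional representation attached to a homomorphism into `ℂ`. -/
noncomputable def linRep (f : G →* ℂ) : Representation ℂ G (Fin 1 → ℂ) where
  toFun g := f g • LinearMap.id
  map_one' := by rw [map_one, one_smul]; rfl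
  map_mul' g h := by
    rw [map_mul]
    ext v i
    simp
    ring

theorem linRep_character (f : G →* ℂ) : (linRep f).character = f := by
  ext g
  simp [Representation.character, linRep]

theorem isCharacter_monoidHom (f : G →* ℂ) : Cfsg.IsCharacter G f :=
  ⟨1, linRep f, linRep_character f⟩

theorem monoidHom_mul_conj [Finite G] (f : G →* ℂ) (g : G) : f g * conj (f g) = 1 := by
  have h1 : f g ^ orderOf g = 1 := by rw [← map_pow, pow_orderOf_eq_one, map_one]
  have h2 : ‖f g‖ = 1 := Complex.norm_eq_one_of_pow_eq_one h1 (orderOf_pos g).ne'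
  rw [Complex.mul_conj, Complex.normSq_eq_norm_sq, h2]
  norm_num

theorem classInner_monoidHom_self [Fintype G] (f : G →* ℂ) : Cfsg.classInner (f : G → ℂ) f = 1 := by
  unfold Cfsg.classInner
  rw [Finset.sum_congr rfl (fun g _ => monoidHom_mul_conj f g), Finset.sum_const, Finset.card_univ,
    nsmul_eq_mul, mul_one, Nat.card_eq_fintype_card]
  have : (Fintype.card G : ℂ) ≠ 0 := by
    have : Fintype.card G ≠ 0 := Fintype.card_ne_zero
    exact_mod_cast this
  exact inv_mul_cancel₀ this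

theorem isIrrCharacter_monoidHom [Finite G] (f : G →* ℂ) : Cfsg.IsIrrCharacter G f := by
  have _ := Fintype.ofFinite G
  exact Cfsg.Agent.H4.isIrrCharacter_of_norm_one (isCharacter_monoidHom f) (classInner_monoidHom_self f)

end Linear

variable {F : Type*} [Field F]

theorem GL2_mul_entry_00 (b c : GL (Fin 2) F) (hc : (c : Matrix (Fin 2) (Fin 2) F) 1 0 = 0) :
    ((b * c : GL (Fin 2) F) : Matrix (Fin 2) (Fin 2) F) 0 0 =
      (b : Matrix (Fin 2) (Fin 2) F) 0 0 * (c : Matrix (Fin 2) (Fin 2) F) 0 0 := by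
  simp [Units.val_mul, Matrix.mul_apply, Fin.sum_univ_two, hc]

theorem GL2_mul_entry_11 (b c : GL (Fin 2) F) (hb : (b : Matrix (Fin 2) (Fin 2) F) 1 0 = 0) :
    ((b * c : GL (Fin 2) F) : Matrix (Fin 2) (Fin 2) F) 1 1 =
      (b : Matrix (Fin 2) (Fin 2) F) 1 1 * (c : Matrix (Fin 2) (Fin 2) F) 1 1 := by
  simp [Units.val_mul, Matrix.mul_apply, Fin.sum_univ_two, hb]

section Datum

variable {K : Type*} [Group K] (φ : K →* GL (Fin 2) F) (BK : Subgroup K)
  (hBK : ∀ x : K, x ∈ BK ↔ φ x ∈ Cfsg.upperTriangularGL 2 F)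

include hBK in
theorem borel_entry_10 (b : BK) : (φ (b : K) : Matrix (Fin 2) (Fin 2) F) 1 0 = 0 :=
  (mem_borel_iff _).mp ((hBK _).mp b.2)

/-- The linear character `b ↦ α(b₀₀) β(b₁₁)` of the Borel subgroup. -/
noncomputable def borelHom {K : Type*} [Group K] (φ : K →* GL (Fin 2) F) (BK : Subgroup K)
    (hBK' : ∀ x : K, x ∈ BK ↔ φ x ∈ Cfsg.upperTriangularGL 2 F) (α β : MulChar F ℂ) : BK →* ℂ where
  toFun b := α ((φ (b : K) : Matrix (Fin 2) (Fin 2) F) 0 0) * β ((φ (b : K) : Matrix (Fin 2) (Fin 2) F) 1 1)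
  map_one' := by simp
  map_mul' b c := by
    have hb := borel_entry_10 φ BK hBK' b
    have hc := borel_entry_10 φ BK hBK' c
    show α ((φ ((b : K) * (c : K)) : Matrix (Fin 2) (Fin 2) F) 0 0) * β ((φ ((b : K) * (c : K)) : Matrix (Fin 2) (Fin 2) F) 1 1) = _
    rw [map_mul, GL2_mul_entry_00 _ _ hc, GL2_mul_entry_11 _ _ hb, map_mul, map_mul]
    ring

theorem borelHom_apply (α β : MulChar F ℂ) (b : BK) :
    borelHom φ BK hBK α β b =
      α ((φ (b : K) : Matrix (Fin 2) (Fin 2) F) 0 0) * β ((φ (b : K) : Matrix (Fin 2) (Fin 2) F) 1 1) := rfl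

include hBK in
theorem isCharacter_borelHom (α β : MulChar F ℂ) :
    Cfsg.IsCharacter BK (fun b : BK =>
      α ((φ (b : K) : Matrix (Fin 2) (Fin 2) F) 0 0) * β ((φ (b : K) : Matrix (Fin 2) (Fin 2) F) 1 1)) :=
  isCharacter_monoidHom (borelHom φ BK hBK α β)

variable (xK : Option F → K) (hx : ∀ s, slope (φ (xK s)) = s)

include hBK hx in
open Classical in
/-- The induced function at an element of the Borel subgroup. -/
theorem indFun_borel_apply_of_mem [Fintype F] [Fintype K] (τ : F → F → ℂ) (g : K)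
    (hg : (φ g : Matrix (Fin 2) (Fin 2) F) 1 0 = 0) :
    Cfsg.indFun BK
        (fun b => τ ((φ (b : K) : Matrix (Fin 2) (Fin 2) F) 0 0) ((φ (b : K) : Matrix (Fin 2) (Fin 2) F) 1 1)) g =
      τ ((φ g : Matrix (Fin 2) (Fin 2) F) 0 0) ((φ g : Matrix (Fin 2) (Fin 2) F) 1 1) +
        ∑ t : F, if ((φ g : Matrix (Fin 2) (Fin 2) F) 1 1 - (φ g : Matrix (Fin 2) (Fin 2) F) 0 0) * t =
            (φ g : Matrix (Fin 2) (Fin 2) F) 0 1 then
          τ ((φ g : Matrix (Fin 2) (Fin 2) F) 1 1) ((φ g : Matrix (Fin 2) (Fin 2) F) 0 0) else 0 := by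
  rw [indFun_borel_formula φ BK hBK xK hx τ g, Fintype.sum_option]
  congr 1
  · have h1 : FixCond (φ g : Matrix (Fin 2) (Fin 2) F) none := hg
    rw [if_pos h1]
    show τ ((φ g : Matrix (Fin 2) (Fin 2) F) 0 0) ((φ g : Matrix (Fin 2) (Fin 2) F).trace - (φ g : Matrix (Fin 2) (Fin 2) F) 0 0) = _
    rw [Matrix.trace_fin_two]
    congr 1
    ring
  · refine Finset.sum_congr rfl fun t _ => ?_
    have hiff : FixCond (φ g : Matrix (Fin 2) (Fin 2) F) (some t) ↔
        ((φ g : Matrix (Fin 2) (Fin 2) F) 1 1 - (φ g : Matrix (Fin 2) (Fin 2) F) 0 0) * t =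
            (φ g : Matrix (Fin 2) (Fin 2) F) 0 1 := by
      show qf (φ g : Matrix (Fin 2) (Fin 2) F) t 1 = 0 ↔ _
      simp only [qf, hg]
      constructor
      · intro h; linear_combination h
      · intro h; linear_combination h
    have hval : eigval (φ g : Matrix (Fin 2) (Fin 2) F) (some t) = (φ g : Matrix (Fin 2) (Fin 2) F) 1 1 := by
      show (φ g : Matrix (Fin 2) (Fin 2) F) 1 0 * t + (φ g : Matrix (Fin 2) (Fin 2) F) 1 1 = _
      rw [hg]; ring
    by_cases h : ((φ g : Matrix (Fin 2) (Fin 2) F) 1 1 - (φ g : Matrix (Fin 2) (Fin 2) F) 0 0) * t =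
            (φ g : Matrix (Fin 2) (Fin 2) F) 0 1
    · rw [if_pos h, if_pos (hiff.mpr h), hval, Matrix.trace_fin_two]
      congr 1
      ring
    · rw [if_neg h, if_neg (fun h' => h (hiff.mp h'))]

include hBK hx in
open Classical in
/-- Frobenius reciprocity applied to two functions induced from the Borel subgroup. -/
theorem classInner_indFun_borel [Fintype F] [Fintype K] [Fintype BK] (τ τ' : F → F → ℂ) :
    Cfsg.classInner
      (Cfsg.indFun BK
        (fun b => τ ((φ (b : K) : Matrix (Fin 2) (Fin 2) F) 0 0) ((φ (b : K) : Matrix (Fin 2) (Fin 2) F) 1 1)))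
      (Cfsg.indFun BK
        (fun b => τ' ((φ (b : K) : Matrix (Fin 2) (Fin 2) F) 0 0) ((φ (b : K) : Matrix (Fin 2) (Fin 2) F) 1 1))) =
    (Nat.card BK : ℂ)⁻¹ * ∑ b : BK,
      τ ((φ (b : K) : Matrix (Fin 2) (Fin 2) F) 0 0) ((φ (b : K) : Matrix (Fin 2) (Fin 2) F) 1 1) *
      conj (τ' ((φ (b : K) : Matrix (Fin 2) (Fin 2) F) 0 0) ((φ (b : K) : Matrix (Fin 2) (Fin 2) F) 1 1) +
        ∑ t : F, if ((φ (b : K) : Matrix (Fin 2) (Fin 2) F) 1 1 - (φ (b : K) : Matrix (Fin 2) (Fin 2) F) 0 0) * t =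
            (φ (b : K) : Matrix (Fin 2) (Fin 2) F) 0 1 then
          τ' ((φ (b : K) : Matrix (Fin 2) (Fin 2) F) 1 1) ((φ (b : K) : Matrix (Fin 2) (Fin 2) F) 0 0) else 0) := by
  rw [Cfsg.Agent.H4.frobenius_reciprocity BK _ _ (Cfsg.Agent.H4.indFun_isClassFunction BK _)]
  unfold Cfsg.classInner
  congr 1
  refine Finset.sum_congr rfl fun b _ => ?_
  beta_reduce
  rw [indFun_borel_apply_of_mem φ BK hBK xK hx τ' (b : K) (borel_entry_10 φ BK hBK b)]

end Datum

end Cfsg.Agent.H44
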