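import Cfsg.Agent.H44.Mackey

/-!
# The Mackey formula for principal series of GL₂(F) (helper44)
-/

set_option autoImplicit false

namespace Cfsg.Agent.H44

open Matrix
open scoped ComplexConjugate

variable {F : Type*} [Field F]

section Sums

variable [Fintype F]

theorem sum_units_eq_sum [Fintype Fˣ] (f : F → ℂ) (h0 : f 0 = 0) : ∑ u : Fˣ, f (u : F) = ∑ a : F, f a := by
  classical
  rw [← Finset.sum_filter_of_ne (p := fun a : F => a ≠ 0) (s := Finset.univ) (f := f)]
  · rw [Finset.sum_subtype (Finset.univ.filter fun a : F => a ≠ 0) (p := fun a => a ≠ 0) (by simp)]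
    exact Fintype.sum_equiv unitsEquivNeZero _ _ (fun u => rfl)
  · intro a _ ha
    rintro rfl
    exact ha h0

open Classical in
/-- Orthogonality of multiplicative characters, as a sum over the units. -/
theorem mulChar_orth [Fintype Fˣ] (α α' : MulChar F ℂ) :
    ∑ u : Fˣ, α (u : F) * conj (α' (u : F)) = if α = α' then (Fintype.card Fˣ : ℂ) else 0 := by
  have h1 : ∀ a : F, α a * conj (α' a) = (α * α'⁻¹) a := by
    intro a
    rw [MulChar.mul_apply, ← MulChar.star_apply']
    rfl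
  rw [sum_units_eq_sum (fun a => α a * conj (α' a)) (by simp [MulChar.map_zero]),
    Finset.sum_congr rfl (fun a _ => h1 a)]
  by_cases h : α = α'
  · rw [if_pos h, h, mul_inv_cancel]
    have h2 := MulChar.sum_one_eq_card_units (R := F) (R' := ℂ)
    rw [h2]
    simp only [Fintype.card_eq_nat_card]
  · rw [if_neg h]
    apply MulChar.sum_eq_zero_of_ne_one
    intro h'
    exact h (mul_inv_eq_one.mp h')

theorem ite_mul_ite_self (P Q : Prop) [Decidable P] [Decidable Q] (c : ℂ) :
    (if P then c else 0) * (if Q then c else 0) = if P ∧ Q then c * c else 0 := by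
  split_ifs <;> simp_all

theorem sum_sum_ite_mul (c : F) (z : ℂ) [DecidableEq F] :
    ∑ x : F, ∑ t : F, (if c * t = x then z else 0) = (Fintype.card F : ℂ) * z := by
  rw [Finset.sum_comm]
  simp [Finset.sum_ite_eq]

end Sums

/-- Upper triangular elements of GL₂. -/
noncomputable def triGL (a d : Fˣ) (x : F) : GL (Fin 2) F :=
  GeneralLinearGroup.mkOfDetNeZero !![(a : F), x; 0, (d : F)] (by simp [Matrix.det_fin_two])

theorem coe_triGL (a d : Fˣ) (x : F) :
    (triGL a d x : Matrix (Fin 2) (Fin 2) F) = !![(a : F), x; 0, (d : F)] := rfl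

theorem triGL_mem (a d : Fˣ) (x : F) : triGL a d x ∈ Cfsg.upperTriangularGL 2 F := by
  rw [mem_borel_iff, coe_triGL]; simp

theorem borel_diag_ne_zero (b : GL (Fin 2) F) (hb : (b : Matrix (Fin 2) (Fin 2) F) 1 0 = 0) :
    (b : Matrix (Fin 2) (Fin 2) F) 0 0 ≠ 0 ∧ (b : Matrix (Fin 2) (Fin 2) F) 1 1 ≠ 0 := by
  have hdet := GL2_det_ne_zero b
  rw [Matrix.det_fin_two, hb, mul_zero, sub_zero] at hdet
  exact ⟨left_ne_zero_of_mul hdet, right_ne_zero_of_mul hdet⟩

/-- The Borel subgroup of GL₂ is parametrized by its diagonal and off-diagonal entries. -/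
noncomputable def borelEquiv : Cfsg.upperTriangularGL 2 F ≃ Fˣ × Fˣ × F where
  toFun b := (Units.mk0 _ (borel_diag_ne_zero b.1 ((mem_borel_iff _).mp b.2)).1,
    Units.mk0 _ (borel_diag_ne_zero b.1 ((mem_borel_iff _).mp b.2)).2,
    (b.1 : Matrix (Fin 2) (Fin 2) F) 0 1)
  invFun p := ⟨triGL p.1 p.2.1 p.2.2, triGL_mem _ _ _⟩
  left_inv b := by
    have hb := (mem_borel_iff _).mp b.2
    apply Subtype.ext
    apply Units.ext
    rw [coe_triGL]
    ext i j
    fin_cases i <;> fin_cases j <;> simp [hb]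
  right_inv p := by
    obtain ⟨a, d, x⟩ := p
    refine Prod.ext ?_ (Prod.ext ?_ ?_)
    · apply Units.ext; simp [coe_triGL]
    · apply Units.ext; simp [coe_triGL]
    · simp [coe_triGL]

theorem coe_borelEquiv_symm (a d : Fˣ) (x : F) :
    (((borelEquiv (F := F)).symm (a, d, x) : Cfsg.upperTriangularGL 2 F) : GL (Fin 2) F) = triGL a d x := rfl

theorem triGL_00 (a d : Fˣ) (x : F) : (triGL a d x : Matrix (Fin 2) (Fin 2) F) 0 0 = (a : F) := by
  simp [coe_triGL]

theorem triGL_11 (a d : Fˣ) (x : F) : (triGL a d x : Matrix (Fin 2) (Fin 2) F) 1 1 = (d : F) := by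
  simp [coe_triGL]

theorem triGL_01 (a d : Fˣ) (x : F) : (triGL a d x : Matrix (Fin 2) (Fin 2) F) 0 1 = x := by
  simp [coe_triGL]

theorem card_borel [Fintype F] :
    Nat.card (Cfsg.upperTriangularGL 2 F) = (Fintype.card F - 1) * ((Fintype.card F - 1) * Fintype.card F) := by
  rw [Nat.card_congr borelEquiv, Nat.card_prod, Nat.card_prod, Nat.card_units, Nat.card_eq_fintype_card]

open Classical in
/-- The sum over the Borel subgroup occurring in the Mackey formula, for general `τ`. -/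
theorem sum_borel_mackey [Fintype F] [Fintype Fˣ] [Fintype (Cfsg.upperTriangularGL 2 F)] (τ τ' : F → F → ℂ) :
    ∑ b : Cfsg.upperTriangularGL 2 F,
      τ (((b : GL (Fin 2) F) : Matrix (Fin 2) (Fin 2) F) 0 0) (((b : GL (Fin 2) F) : Matrix (Fin 2) (Fin 2) F) 1 1) *
      conj (τ' (((b : GL (Fin 2) F) : Matrix (Fin 2) (Fin 2) F) 0 0) (((b : GL (Fin 2) F) : Matrix (Fin 2) (Fin 2) F) 1 1) +
        ∑ t : F, if ((((b : GL (Fin 2) F) : Matrix (Fin 2) (Fin 2) F) 1 1) - (((b : GL (Fin 2) F) : Matrix (Fin 2) (Fin 2) F) 0 0)) * t =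
            (((b : GL (Fin 2) F) : Matrix (Fin 2) (Fin 2) F) 0 1) then
          τ' (((b : GL (Fin 2) F) : Matrix (Fin 2) (Fin 2) F) 1 1) (((b : GL (Fin 2) F) : Matrix (Fin 2) (Fin 2) F) 0 0) else 0) =
    (Fintype.card F : ℂ) * ∑ a : Fˣ, ∑ d : Fˣ,
      (τ (a : F) (d : F) * conj (τ' (a : F) (d : F)) + τ (a : F) (d : F) * conj (τ' (d : F) (a : F))) := by
  rw [← Equiv.sum_comp (borelEquiv (F := F)).symm, Fintype.sum_prod_type, Finset.mul_sum]
  refine Finset.sum_congr rfl fun a _ => ?_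
  rw [Fintype.sum_prod_type, Finset.mul_sum]
  refine Finset.sum_congr rfl fun d _ => ?_
  have h1 : ∀ x : F,
      τ ((((borelEquiv (F := F)).symm (a, d, x) : GL (Fin 2) F) : Matrix (Fin 2) (Fin 2) F) 0 0)
          ((((borelEquiv (F := F)).symm (a, d, x) : GL (Fin 2) F) : Matrix (Fin 2) (Fin 2) F) 1 1) *
        conj (τ' ((((borelEquiv (F := F)).symm (a, d, x) : GL (Fin 2) F) : Matrix (Fin 2) (Fin 2) F) 0 0)
            ((((borelEquiv (F := F)).symm (a, d, x) : GL (Fin 2) F) : Matrix (Fin 2) (Fin 2) F) 1 1) +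
          ∑ t : F, if (((((borelEquiv (F := F)).symm (a, d, x) : GL (Fin 2) F) : Matrix (Fin 2) (Fin 2) F) 1 1) -
                ((((borelEquiv (F := F)).symm (a, d, x) : GL (Fin 2) F) : Matrix (Fin 2) (Fin 2) F) 0 0)) * t =
              ((((borelEquiv (F := F)).symm (a, d, x) : GL (Fin 2) F) : Matrix (Fin 2) (Fin 2) F) 0 1) then
            τ' ((((borelEquiv (F := F)).symm (a, d, x) : GL (Fin 2) F) : Matrix (Fin 2) (Fin 2) F) 1 1)
              ((((borelEquiv (F := F)).symm (a, d, x) : GL (Fin 2) F) : Matrix (Fin 2) (Fin 2) F) 0 0) else 0) =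
      τ (a : F) (d : F) * conj (τ' (a : F) (d : F)) +
          ∑ t : F, if ((d : F) - (a : F)) * t = x then τ (a : F) (d : F) * conj (τ' (d : F) (a : F)) else 0 := by
    intro x
    rw [coe_borelEquiv_symm, triGL_00, triGL_11, triGL_01, map_add, map_sum, mul_add, Finset.mul_sum]
    congr 1
    refine Finset.sum_congr rfl fun t _ => ?_
    split_ifs <;> simp
  rw [Finset.sum_congr rfl (fun x _ => h1 x), Finset.sum_add_distrib, sum_sum_ite_mul,
    Finset.sum_const, Finset.card_univ, nsmul_eq_mul]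
  ring

open Classical in
/-- **Mackey formula** for two functions induced from characters of the Borel subgroup of GL₂. -/
theorem mackey_GL2 [Fintype F] [Fintype (GL (Fin 2) F)] (α β α' β' : MulChar F ℂ) :
    Cfsg.classInner
      (Cfsg.indFun (Cfsg.upperTriangularGL 2 F)
        (fun b => α (((b : GL (Fin 2) F) : Matrix (Fin 2) (Fin 2) F) 0 0) * β (((b : GL (Fin 2) F) : Matrix (Fin 2) (Fin 2) F) 1 1)))
      (Cfsg.indFun (Cfsg.upperTriangularGL 2 F)
        (fun b => α' (((b : GL (Fin 2) F) : Matrix (Fin 2) (Fin 2) F) 0 0) * β' (((b : GL (Fin 2) F) : Matrix (Fin 2) (Fin 2) F) 1 1))) =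
    (if α = α' ∧ β = β' then 1 else 0) + (if α = β' ∧ β = α' then 1 else 0) := by
  have hq : (Fintype.card F : ℂ) ≠ 0 := by
    have : Fintype.card F ≠ 0 := Fintype.card_ne_zero
    exact_mod_cast this
  have hq1 : (Fintype.card Fˣ : ℂ) ≠ 0 := by
    have : Fintype.card Fˣ ≠ 0 := Fintype.card_ne_zero
    exact_mod_cast this
  have key := classInner_indFun_borel (MonoidHom.id (GL (Fin 2) F)) (Cfsg.upperTriangularGL 2 F)
    (fun x => Iff.rfl) xRep slope_xRep (fun a d => α a * β d) (fun a d => α' a * β' d)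
  refine key.trans ?_
  have hcard : (Nat.card (Cfsg.upperTriangularGL 2 F) : ℂ) =
      (Fintype.card Fˣ : ℂ) * ((Fintype.card Fˣ : ℂ) * (Fintype.card F : ℂ)) := by
    rw [Nat.card_congr borelEquiv, Nat.card_prod, Nat.card_prod, Nat.card_eq_fintype_card,
      Nat.card_eq_fintype_card]
    push_cast; ring
  have hsum := sum_borel_mackey (F := F) (fun a d => α a * β d) (fun a d => α' a * β' d)
  simp only [MonoidHom.id_apply]
  rw [hcard, hsum]
  have e1 : ∑ a : Fˣ, ∑ d : Fˣ,
        ((α (a : F) * β (d : F)) * conj (α' (a : F) * β' (d : F)) +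
        (α (a : F) * β (d : F)) * conj (α' (d : F) * β' (a : F))) =
      ((∑ a : Fˣ, α (a : F) * conj (α' (a : F))) * (∑ d : Fˣ, β (d : F) * conj (β' (d : F))) +
        (∑ a : Fˣ, α (a : F) * conj (β' (a : F))) * (∑ d : Fˣ, β (d : F) * conj (α' (d : F)))) := by
    rw [Finset.sum_mul_sum, Finset.sum_mul_sum, ← Finset.sum_add_distrib]
    refine Finset.sum_congr rfl fun a _ => ?_
    rw [← Finset.sum_add_distrib]
    refine Finset.sum_congr rfl fun d _ => ?_
    simp only [map_mul]
    ring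
  rw [e1, mulChar_orth, mulChar_orth, mulChar_orth, mulChar_orth, ite_mul_ite_self, ite_mul_ite_self]
  split_ifs
  · field_simp
  · field_simp; ring
  · field_simp; ring
  · simp

end Cfsg.Agent.H44
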