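import Mathlib

/-!
# helper44: piece S4274-RED of helper26's project S4274 (order 175560)

The inductive reduction: a group of order `19 * m`, `m ∣ 9240`, is simple or has a normal Sylow
19-subgroup, provided no non-cyclic simple group has order `19 * m'` with `m' ∣ 9240`,
`m' ≠ 9240`, and elements of order 19 centralise normal subgroups of order dividing 9240.
-/

set_option autoImplicit false

namespace Cfsg.Agent.H44.Ord175560

open Subgroup

universe w

theorem factorization19 (m : ℕ) (hm0 : m ≠ 0) (hc : Nat.Coprime 19 m) :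
    (19 * m).factorization 19 = 1 := by
  have h19 : Nat.Prime 19 := by norm_num
  rw [Nat.factorization_mul (by norm_num) hm0, Finsupp.add_apply, h19.factorization_self,
    Nat.factorization_eq_zero_of_not_dvd ((Nat.Prime.coprime_iff_not_dvd h19).mp hc)]

theorem sylow19_card {H : Type w} [Group H] [Finite H] (m : ℕ) (hm0 : m ≠ 0)
    (hc : Nat.Coprime 19 m) (hH : Nat.card H = 19 * m) (P : Sylow 19 H) :
    Nat.card (P : Subgroup H) = 19 := by
  haveI : Fact (Nat.Prime 19) := ⟨by norm_num⟩
  rw [P.card_eq_multiplicity, hH, factorization19 m hm0 hc, pow_one]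

theorem red_aux
    (hkill : ∀ (H : Type w) [Group H] [Finite H] [IsSimpleGroup H], ¬ IsCyclic H →
      ∀ m : ℕ, m ∣ 9240 → m ≠ 9240 → Nat.card H ≠ 19 * m)
    (hact : ∀ (H : Type w) [Group H] [Finite H] (N : Subgroup H) [N.Normal],
      Nat.card N ∣ 9240 → ∀ x : H, orderOf x = 19 → ∀ n ∈ N, x * n = n * x) :
    ∀ (n : ℕ) (G : Type w) [Group G] [Finite G] (m : ℕ), m ∣ 9240 → Nat.card G = 19 * m →
      Nat.card G = n → IsSimpleGroup G ∨ ∀ P : Sylow 19 G, (P : Subgroup G).Normal := by
  haveI : Fact (Nat.Prime 19) := ⟨by norm_num⟩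
  intro n
  induction n using Nat.strong_induction_on with
  | _ n ih =>
    intro G _ _ m hm hG hn
    by_cases hs : IsSimpleGroup G
    · exact Or.inl hs
    right
    have good : ∀ (H : Type w) [Group H] [Finite H] (m' : ℕ), m' ∣ 9240 → m' ≠ 9240 →
        Nat.card H = 19 * m' → Nat.card H < n →
        ∀ P : Sylow 19 H, (P : Subgroup H).Normal := by
      intro H _ _ m' hm' hne hH hlt
      rcases ih (Nat.card H) hlt H m' hm' hH rfl with hsim | hnorm
      · by_cases hcyc : IsCyclic H
        · intro P
          have hcomm : ∀ a b : H, a * b = b * a := fun a b => by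
            letI : CommGroup H := IsCyclic.commGroup
            exact mul_comm a b
          exact ⟨fun x hx g => by rw [hcomm g x, mul_inv_cancel_right]; exact hx⟩
        · exact absurd hH (hkill H hcyc m' hm' hne)
      · exact hnorm
    have hm0 : m ≠ 0 := by
      rintro rfl
      simp at hm
    have hmle : m ≤ 9240 := Nat.le_of_dvd (by norm_num) hm
    have h19m : Nat.Coprime 19 m := Nat.Coprime.coprime_dvd_right hm (by norm_num)
    have hcard1 : 1 < Nat.card G := by
      rw [hG]
      have : 1 ≤ m := Nat.one_le_iff_ne_zero.mpr hm0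
      omega
    haveI : Nontrivial G := Finite.one_lt_card_iff_nontrivial.mp hcard1
    obtain ⟨N, hNn, hNbot, hNtop⟩ : ∃ N : Subgroup G, N.Normal ∧ N ≠ ⊥ ∧ N ≠ ⊤ := by
      by_contra hcon
      push Not at hcon
      exact hs
        { toNontrivial := inferInstance
          eq_bot_or_eq_top_of_normal := fun H hH => by
            by_cases hb : H = ⊥
            · exact Or.inl hb
            · exact Or.inr (hcon H hH hb) }
    haveI := hNn
    have hNdvd : Nat.card N ∣ 19 * m := hG ▸ N.card_subgroup_dvd_card
    have hNlt : Nat.card N < Nat.card G := by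
      refine lt_of_le_of_ne N.card_le_card_group ?_
      intro h
      exact hNtop ((Subgroup.card_eq_iff_eq_top N).mp h)
    have hN1 : 1 < Nat.card N := (Subgroup.one_lt_card_iff_ne_bot N).mpr hNbot
    by_cases h19 : 19 ∣ Nat.card N
    · -- a normal subgroup of order divisible by 19
      obtain ⟨m', hm'⟩ := h19
      have hm'dvd : m' ∣ m := by
        rw [hm'] at hNdvd
        exact Nat.dvd_of_mul_dvd_mul_left (by norm_num) hNdvd
      have hm'lt : m' < m := by
        have := hNlt
        rw [hm', hG] at this
        exact lt_of_mul_lt_mul_left this (Nat.zero_le _)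
      have hm'0 : m' ≠ 0 := by
        rintro rfl
        simp at hm'dvd
        exact hm0 hm'dvd
      have hNnorm : ∀ Q : Sylow 19 N, (Q : Subgroup N).Normal :=
        good N m' (hm'dvd.trans hm) (by omega) hm' (hn ▸ hNlt)
      intro P
      let Q : Sylow 19 N := default
      haveI hQn := hNnorm Q
      haveI hQc : (Q : Subgroup N).Characteristic := Sylow.characteristic_of_normal Q hQn
      have hQ'n : ((Q : Subgroup N).map N.subtype).Normal :=
        ConjAct.normal_of_characteristic_of_normal
      have hcardQ : Nat.card ((Q : Subgroup N).map N.subtype) = 19 := by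
        rw [Subgroup.card_map_of_injective N.subtype_injective]
        exact sylow19_card m' hm'0 (Nat.Coprime.coprime_dvd_right hm'dvd h19m) hm' Q
      have hcardP : Nat.card (P : Subgroup G) = 19 := sylow19_card m hm0 h19m hG P
      have hle : (Q : Subgroup N).map N.subtype ≤ P :=
        IsPGroup.le_sylow_of_normal (IsPGroup.of_card (n := 1) (by rw [hcardQ, pow_one])) P
      have heq : (Q : Subgroup N).map N.subtype = P :=
        Subgroup.eq_of_le_of_card_ge hle (by rw [hcardQ, hcardP])
      rw [← heq]; exact hQ'n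
    · -- a normal subgroup of order prime to 19
      have hcop : Nat.Coprime 19 (Nat.card N) :=
        (Nat.Prime.coprime_iff_not_dvd (by norm_num)).mpr h19
      have hNm : Nat.card N ∣ m := hcop.symm.dvd_of_dvd_mul_left hNdvd
      obtain ⟨m'', hm''⟩ := hNm
      have hm''0 : m'' ≠ 0 := by
        rintro rfl
        simp at hm''
        exact hm0 hm''
      have hq : Nat.card (G ⧸ N) = 19 * m'' := by
        have h1 := N.card_eq_card_quotient_mul_card_subgroup
        rw [hG, hm''] at h1
        have hpos : 0 < Nat.card N := Nat.card_pos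
        apply Nat.eq_of_mul_eq_mul_right hpos
        rw [← h1]; ring
      have hm''dvd : m'' ∣ m := ⟨Nat.card N, by rw [hm'']; ring⟩
      have hm''lt : m'' < m := by
        rw [hm'']
        have : 1 ≤ m'' := Nat.one_le_iff_ne_zero.mpr hm''0
        nlinarith
      have hQnorm : ∀ Q : Sylow 19 (G ⧸ N), (Q : Subgroup (G ⧸ N)).Normal :=
        good (G ⧸ N) m'' (hm''dvd.trans hm) (by omega) hq (by rw [← hn, hq, hG]; omega)
      intro P
      have hπ : Function.Surjective (QuotientGroup.mk' N) := QuotientGroup.mk'_surjective N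
      have hPbar : ((P : Subgroup G).map (QuotientGroup.mk' N)).Normal :=
        hQnorm (P.mapSurjective hπ)
      have hKn : (((P : Subgroup G).map (QuotientGroup.mk' N)).comap (QuotientGroup.mk' N)).Normal :=
        hPbar.comap _
      have hK : ((P : Subgroup G).map (QuotientGroup.mk' N)).comap (QuotientGroup.mk' N)
          = N ⊔ (P : Subgroup G) := QuotientGroup.comap_map_mk' N P
      have hcardP : Nat.card (P : Subgroup G) = 19 := sylow19_card m hm0 h19m hG P
      have hNm' : Nat.card N ∣ m := ⟨m'', hm''⟩
      have hcent : ∀ x ∈ (P : Subgroup G), ∀ n ∈ N, x * n = n * x := by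
        intro x hx n hn'
        by_cases hx1 : x = 1
        · rw [hx1, one_mul, mul_one]
        · have hox : orderOf x = 19 := by
            have h1 : orderOf x ∣ 19 := by
              have h2 := orderOf_dvd_natCard (⟨x, hx⟩ : (P : Subgroup G))
              rwa [hcardP, Subgroup.orderOf_mk] at h2
            rcases (Nat.dvd_prime (by norm_num)).mp h1 with h | h
            · exact absurd (orderOf_eq_one_iff.mp h) hx1
            · exact h
          exact hact G N (hNm'.trans hm) x hox n hn'
      refine ⟨fun x hx g => ?_⟩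
      have hmem : g * x * g⁻¹ ∈ N ⊔ (P : Subgroup G) := by
        rw [← hK]
        exact hKn.conj_mem x (by rw [hK]; exact Subgroup.mem_sup_right hx) g
      obtain ⟨y, hy, p, hp, hyp⟩ := Subgroup.mem_sup_of_normal_left.mp hmem
      have hcomm : Commute y p := (hcent p hp y hy).symm
      have hp19 : p ^ 19 = 1 := by
        have h2 := orderOf_dvd_natCard (⟨p, hp⟩ : (P : Subgroup G))
        rw [hcardP, Subgroup.orderOf_mk] at h2
        exact orderOf_dvd_iff_pow_eq_one.mp h2
      have hx19 : x ^ 19 = 1 := by
        have h2 := orderOf_dvd_natCard (⟨x, hx⟩ : (P : Subgroup G))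
        rw [hcardP, Subgroup.orderOf_mk] at h2
        exact orderOf_dvd_iff_pow_eq_one.mp h2
      have hy19 : y ^ 19 = 1 := by
        have h3 : (y * p) ^ 19 = 1 := by
          rw [hyp, conj_pow, hx19, mul_one, mul_inv_cancel]
        rw [hcomm.mul_pow, hp19, mul_one] at h3
        exact h3
      have hy1 : y = 1 := by
        have h4 : orderOf y ∣ 19 := orderOf_dvd_of_pow_eq_one hy19
        have h5 : orderOf y ∣ Nat.card N := by
          have h2 := orderOf_dvd_natCard (⟨y, hy⟩ : N)
          rwa [Subgroup.orderOf_mk] at h2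
        have h6 : orderOf y ∣ 1 := by
          have := Nat.dvd_gcd h4 h5
          rwa [hcop] at this
        exact orderOf_eq_one_iff.mp (Nat.dvd_one.mp h6)
      rw [← hyp, hy1, one_mul]
      exact hp

theorem reduction.{u} (hkill : ∀ (H : Type u) [Group H] [Finite H] [IsSimpleGroup H], ¬ IsCyclic H → ∀ m : ℕ, m ∣ 9240 → m ≠ 9240 → Nat.card H ≠ 19 * m) (hact : ∀ (H : Type u) [Group H] [Finite H] (N : Subgroup H) [N.Normal], Nat.card N ∣ 9240 → ∀ x : H, orderOf x = 19 → ∀ n ∈ N, x * n = n * x) {G : Type u} [Group G] [Finite G] (m : ℕ) (hm : m ∣ 9240) (hG : Nat.card G = 19 * m) : IsSimpleGroup G ∨ ∀ P : Sylow 19 G, (P : Subgroup G).Normal :=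
  red_aux hkill hact (Nat.card G) G m hm hG rfl

/-- verbatim check of the posted statement -/
example : ∀ (hkill : ∀ (H : Type w) [Group H] [Finite H] [IsSimpleGroup H], ¬ IsCyclic H → ∀ m : ℕ, m ∣ 9240 → m ≠ 9240 → Nat.card H ≠ 19 * m) (hact : ∀ (H : Type w) [Group H] [Finite H] (N : Subgroup H) [N.Normal], Nat.card N ∣ 9240 → ∀ x : H, orderOf x = 19 → ∀ n ∈ N, x * n = n * x) {G : Type w} [Group G] [Finite G] (m : ℕ) (hm : m ∣ 9240) (hG : Nat.card G = 19 * m), IsSimpleGroup G ∨ ∀ P : Sylow 19 G, (P : Subgroup G).Normal :=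
  fun hkill hact _ _ _ m hm hG => reduction hkill hact m hm hG

end Cfsg.Agent.H44.Ord175560
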