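import Mathlib
import Cfsg.Agent.S0732
import Cfsg.Agent.H44.Ord175560Red

/-!
# helper44: piece S4274-A of helper26's project S4274: no simple groups of order 2280, 5320

In both cases `n_19 = 20 = 19 + 1`, so `G` is a transitive group of degree `p + 1` and order
`(p + 1) p d` with `d < p`, `p = 19`; S0732 forces `d = 18` or `2 d = 18` or `20 = 2 ^ q`.
-/

set_option autoImplicit false

namespace Cfsg.Agent.H44.Ord175560

open Subgroup

/-- A simple group of order `20 * 19 * d`, `d < 19`, `d ≠ 18`, `d ≠ 9`, does not have exactly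
20 Sylow 19-subgroups. -/
theorem no_simple_deg20 {G : Type*} [Group G] [Finite G] [IsSimpleGroup G] (d : ℕ)
    (hd : d < 19) (hd18 : d ≠ 18) (hd9 : 2 * d ≠ 18)
    (h : Nat.card G = (19 + 1) * 19 * d) (hn : Nat.card (Sylow 19 G) = 20) : False := by
  classical
  haveI : Fact (Nat.Prime 19) := ⟨by norm_num⟩
  letI : Fintype (Sylow 19 G) := Fintype.ofFinite _
  have hα : Fintype.card (Sylow 19 G) = 19 + 1 := by
    rw [← Nat.card_eq_fintype_card, hn]
  let φ : G →* Equiv.Perm (Sylow 19 G) := MulAction.toPermHom G (Sylow 19 G)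
  have hker : φ.ker = ⊥ := by
    rcases IsSimpleGroup.eq_bot_or_eq_top_of_normal φ.ker inferInstance with hb | ht
    · exact hb
    · exfalso
      have htriv : ∀ (g : G) (P : Sylow 19 G), g • P = P := by
        intro g P
        have hg : g ∈ φ.ker := ht ▸ mem_top g
        have h1 : φ g = 1 := hg
        have h2 : φ g P = P := by rw [h1]; rfl
        exact h2
      have hsub : Subsingleton (Sylow 19 G) := by
        refine ⟨fun P Q => ?_⟩
        obtain ⟨g, hg⟩ := MulAction.exists_smul_eq G P Q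
        rw [← hg, htriv]
      have : Nat.card (Sylow 19 G) ≤ 1 := Finite.card_le_one_iff_subsingleton.mpr hsub
      omega
  have hinj : Function.Injective φ := (MonoidHom.ker_eq_bot_iff φ).mp hker
  have hcard : Nat.card φ.range = (19 + 1) * 19 * d := by
    rw [← h]
    exact (Nat.card_congr (MonoidHom.ofInjective hinj).toEquiv).symm
  haveI : MulAction.IsPretransitive (↥φ.range) (Sylow 19 G) := by
    refine ⟨fun a b => ?_⟩
    obtain ⟨g, hg⟩ := MulAction.exists_smul_eq G a b
    exact ⟨⟨φ g, g, rfl⟩, hg⟩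
  rcases Cfsg.Agent.S0732.result (p := 19) (d := d) (by norm_num) hα φ.range hcard hd with
    ⟨h1, _⟩ | ⟨h1, _⟩ | ⟨q, _, h2, _⟩
  · omega
  · omega
  · have hq : q < 5 := by
      by_contra hge
      have : 2 ^ 5 ≤ 2 ^ q := Nat.pow_le_pow_right (by norm_num) (by omega)
      omega
    interval_cases q <;> omega

/-- In a simple group of order `19 * m` with `19` coprime to `m`, the number of Sylow
19-subgroups divides `m`, is `≡ 1 mod 19` and is not `1`. -/
theorem n19_facts {G : Type*} [Group G] [Finite G] [IsSimpleGroup G] (m : ℕ) (hm1 : 1 < m)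
    (hc : Nat.Coprime 19 m) (h : Nat.card G = 19 * m) :
    Nat.card (Sylow 19 G) ∣ m ∧ Nat.card (Sylow 19 G) % 19 = 1 ∧ Nat.card (Sylow 19 G) ≠ 1 := by
  haveI : Fact (Nat.Prime 19) := ⟨by norm_num⟩
  have P : Sylow 19 G := default
  have hP : Nat.card (P : Subgroup G) = 19 := sylow19_card m (by omega) hc h P
  have hidx : (P : Subgroup G).index = m := by
    have h1 := (P : Subgroup G).card_mul_index
    rw [hP, h] at h1
    exact Nat.eq_of_mul_eq_mul_left (by norm_num) h1
  refine ⟨hidx ▸ Sylow.card_dvd_index P, ?_, ?_⟩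
  · have := card_sylow_modEq_one 19 G
    exact this
  · intro h1
    have hsub : Subsingleton (Sylow 19 G) := (Nat.card_eq_one_iff_unique.mp h1).1
    have hnorm : (P : Subgroup G).Normal := Sylow.normal_of_subsingleton P
    rcases IsSimpleGroup.eq_bot_or_eq_top_of_normal (P : Subgroup G) hnorm with hb | ht
    · rw [hb, Subgroup.card_bot] at hP
      omega
    · rw [ht, Subgroup.card_top, h] at hP
      omega

theorem no_simple_2280 {G : Type*} [Group G] [Finite G] [IsSimpleGroup G]
    (h : Nat.card G = 2280) : False := by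
  obtain ⟨hdvd, hmod, hne⟩ := n19_facts (G := G) 120 (by norm_num) (by norm_num) (by rw [h])
  obtain ⟨c, hc⟩ := hdvd
  have hle : Nat.card (Sylow 19 G) ≤ 120 := Nat.le_of_dvd (by norm_num) ⟨c, hc⟩
  have hn : Nat.card (Sylow 19 G) = 20 := by
    generalize Nat.card (Sylow 19 G) = n at *
    have : n = 1 ∨ n = 20 ∨ n = 39 ∨ n = 58 ∨ n = 77 ∨ n = 96 ∨ n = 115 := by omega
    rcases this with rfl | rfl | rfl | rfl | rfl | rfl | rfl <;> omega
  exact no_simple_deg20 6 (by norm_num) (by norm_num) (by norm_num) (by rw [h]) hn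

theorem no_simple_5320 {G : Type*} [Group G] [Finite G] [IsSimpleGroup G]
    (h : Nat.card G = 5320) : False := by
  obtain ⟨hdvd, hmod, hne⟩ := n19_facts (G := G) 280 (by norm_num) (by norm_num) (by rw [h])
  obtain ⟨c, hc⟩ := hdvd
  have hle : Nat.card (Sylow 19 G) ≤ 280 := Nat.le_of_dvd (by norm_num) ⟨c, hc⟩
  have hn : Nat.card (Sylow 19 G) = 20 := by
    generalize Nat.card (Sylow 19 G) = n at *
    have : n = 1 ∨ n = 20 ∨ n = 39 ∨ n = 58 ∨ n = 77 ∨ n = 96 ∨ n = 115 ∨ n = 134 ∨ n = 153
        ∨ n = 172 ∨ n = 191 ∨ n = 210 ∨ n = 229 ∨ n = 248 ∨ n = 267 := by omega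
    rcases this with rfl | rfl | rfl | rfl | rfl | rfl | rfl | rfl | rfl | rfl | rfl | rfl | rfl
      | rfl | rfl <;> omega
  exact no_simple_deg20 14 (by norm_num) (by norm_num) (by norm_num) (by rw [h]) hn

/-- verbatim checks of the posted statements -/
example {G : Type*} [Group G] [Finite G] [IsSimpleGroup G] (h : Nat.card G = 2280) : False :=
  no_simple_2280 h

example {G : Type*} [Group G] [Finite G] [IsSimpleGroup G] (h : Nat.card G = 5320) : False :=
  no_simple_5320 h

end Cfsg.Agent.H44.Ord175560
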