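import Cfsg.Agent.H44.SL2Central
import Cfsg.Prelude.Def_DegreeGraph

/-!
# Character degrees of SL₂(F) and PSL₂(F) (helper44)
-/

set_option autoImplicit false

namespace Cfsg.Agent.H44

open Matrix
open scoped ComplexConjugate

theorem charDegree_eq_of_one_eq {G : Type*} [Group G] {χ : G → ℂ} {n : ℕ} (h : χ 1 = (n : ℂ)) :
    Cfsg.charDegree χ = n := by
  unfold Cfsg.charDegree
  rw [h]
  simp

theorem charDegrees_congr {S G : Type*} [Group S] [Group G] [Finite S] [Finite G] (e : S ≃* G) :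
    Cfsg.charDegrees S = Cfsg.charDegrees G := by
  classical
  letI := Fintype.ofFinite S
  letI := Fintype.ofFinite G
  ext d
  constructor
  · rintro ⟨χ, hχ⟩
    refine ⟨⟨fun g => χ.1 (e.symm g), isIrrCharacter_comp_mulEquiv e.symm χ.2⟩, ?_⟩
    rw [← hχ]
    unfold Cfsg.charDegree
    simp
  · rintro ⟨χ, hχ⟩
    refine ⟨⟨fun s => χ.1 (e s), isIrrCharacter_comp_mulEquiv e χ.2⟩, ?_⟩
    rw [← hχ]
    unfold Cfsg.charDegree
    simp

variable {F : Type*} [Field F] [Fintype F] [Fintype (Matrix.SpecialLinearGroup (Fin 2) F)]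

omit [Fintype F] in
/-- The degrees of PSL₂ are the degrees of the irreducible characters of SL₂ trivial at `-1`. -/
theorem charDegrees_PSL2 :
    Cfsg.charDegrees (Matrix.ProjectiveSpecialLinearGroup (Fin 2) F) =
      {d | ∃ χ : Cfsg.IrrCharacter (Matrix.SpecialLinearGroup (Fin 2) F),
        χ.1 (-1) = χ.1 1 ∧ Cfsg.charDegree χ.1 = d} := by
  ext d
  constructor
  · rintro ⟨χ, hχ⟩
    refine ⟨Cfsg.Agent.H82.inflate _ χ, ?_, ?_⟩
    · exact Cfsg.Agent.H82.inflate_mem _ χ (-1) negOne_mem_center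
    · rw [Cfsg.Agent.H82.charDegree_inflate]
      exact hχ
  · rintro ⟨χ, h1, hχ⟩
    obtain ⟨χ', h'⟩ := Cfsg.Agent.H82.exists_deflate
      (Subgroup.center (Matrix.SpecialLinearGroup (Fin 2) F)) χ (by
        intro x hx
        rcases (mem_center_SL2 x).mp hx with rfl | rfl
        · rfl
        · exact h1)
    refine ⟨χ', ?_⟩
    rw [← Cfsg.Agent.H82.charDegree_inflate, h', hχ]

omit [Fintype F] [Fintype (Matrix.SpecialLinearGroup (Fin 2) F)] in
theorem negOne_eq_one_of_char_two [CharP F 2] : (-1 : Matrix.SpecialLinearGroup (Fin 2) F) = 1 := by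
  apply Subtype.ext
  rw [Matrix.SpecialLinearGroup.coe_neg, Matrix.SpecialLinearGroup.coe_one]
  exact CharTwo.neg_eq _

/-- A multiplicative character `α` with `α² ≠ 1` and `α(-1) = 1`. -/
theorem exists_mulChar_even (hq : 4 ≤ Fintype.card F) (hq5 : Fintype.card F ≠ 5) :
    ∃ α : MulChar F ℂ, α ^ 2 ≠ 1 ∧ α (-1) = 1 := by
  have hn : Fintype.card F - 1 ≠ 0 := by omega
  obtain ⟨χ, hχ⟩ := MulChar.exists_mulChar_orderOf F (dvd_refl (Fintype.card F - 1))
    (Complex.isPrimitiveRoot_exp (Fintype.card F - 1) hn)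
  refine ⟨χ ^ 2, ?_, ?_⟩
  · intro h
    rw [← pow_mul] at h
    have h1 := orderOf_dvd_of_pow_eq_one h
    rw [hχ] at h1
    have h2 : Fintype.card F - 1 ≤ 4 := Nat.le_of_dvd (by norm_num) h1
    have h3 : Fintype.card F - 1 = 3 ∨ Fintype.card F - 1 = 4 := by omega
    rcases h3 with h3 | h3
    · rw [h3] at h1
      omega
    · omega
  · rw [MulChar.pow_apply' χ two_ne_zero, ← map_pow]
    simp

variable [Fintype (MulChar F ℂ)] [Fintype (Cfsg.IrrCharacter (Matrix.SpecialLinearGroup (Fin 2) F))]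

theorem charDegree_cases_odd (hodd : Odd (Fintype.card F))
    (χ : Cfsg.IrrCharacter (Matrix.SpecialLinearGroup (Fin 2) F)) :
    Cfsg.charDegree χ.1 = 1 ∨ Cfsg.charDegree χ.1 = Fintype.card F ∨
    Cfsg.charDegree χ.1 = Fintype.card F + 1 ∨ Cfsg.charDegree χ.1 = Fintype.card F - 1 ∨
    Cfsg.charDegree χ.1 = (Fintype.card F + 1) / 2 ∨ Cfsg.charDegree χ.1 = (Fintype.card F - 1) / 2 := by
  obtain ⟨α₀, ξ₁, ξ₂, D⟩ := exists_quadDecomp hodd
  rcases SL2_odd_irr_cases hodd D χ.2 with h | h | ⟨α, -, h⟩ | h | h | ⟨-, ⟨h1, -⟩ | ⟨h1, -⟩⟩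
  · left
    apply charDegree_eq_of_one_eq
    rw [h]
    simp
  · right; left
    apply charDegree_eq_of_one_eq
    rw [h, stSL_one]
  · right; right; left
    apply charDegree_eq_of_one_eq
    rw [h, psSL_one]
    push_cast
    ring
  · right; right; right; right; left
    apply charDegree_eq_of_one_eq
    rw [h, D.deg₁, half_cast_add hodd]
  · right; right; right; right; left
    apply charDegree_eq_of_one_eq
    rw [h, D.deg₂, half_cast_add hodd]
  · right; right; right; left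
    apply charDegree_eq_of_one_eq
    rw [h1, Nat.cast_sub Fintype.card_pos]
    simp
  · right; right; right; right; right
    apply charDegree_eq_of_one_eq
    rw [h1, half_cast_sub hodd]

theorem charDegree_cases_even [CharP F 2]
    (χ : Cfsg.IrrCharacter (Matrix.SpecialLinearGroup (Fin 2) F)) :
    Cfsg.charDegree χ.1 = 1 ∨ Cfsg.charDegree χ.1 = Fintype.card F ∨
    Cfsg.charDegree χ.1 = Fintype.card F + 1 ∨ Cfsg.charDegree χ.1 = Fintype.card F - 1 := by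
  rcases SL2_even_irr_cases χ.2 with h | h | ⟨α, -, h⟩ | ⟨-, h1, -⟩
  · left
    apply charDegree_eq_of_one_eq
    rw [h]
    simp
  · right; left
    apply charDegree_eq_of_one_eq
    rw [h, stSL_one]
  · right; right; left
    apply charDegree_eq_of_one_eq
    rw [h, psSL_one]
    push_cast
    ring
  · right; right; right
    apply charDegree_eq_of_one_eq
    rw [h1, Nat.cast_sub Fintype.card_pos]
    simp

/-- The degrees of SL₂ are among `1, q, q + 1, q - 1` and divisors of `q ± 1`. -/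
theorem charDegree_cases (χ : Cfsg.IrrCharacter (Matrix.SpecialLinearGroup (Fin 2) F)) :
    Cfsg.charDegree χ.1 = 1 ∨ Cfsg.charDegree χ.1 = Fintype.card F ∨
    Cfsg.charDegree χ.1 ∣ Fintype.card F + 1 ∨ Cfsg.charDegree χ.1 ∣ Fintype.card F - 1 := by
  by_cases hodd : Odd (Fintype.card F)
  · rcases charDegree_cases_odd hodd χ with h | h | h | h | h | h
    · exact Or.inl h
    · exact Or.inr (Or.inl h)
    · exact Or.inr (Or.inr (Or.inl (h ▸ dvd_refl _)))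
    · exact Or.inr (Or.inr (Or.inr (h ▸ dvd_refl _)))
    · refine Or.inr (Or.inr (Or.inl ?_))
      rw [h]
      obtain ⟨k, hk⟩ := hodd
      exact ⟨2, by omega⟩
    · refine Or.inr (Or.inr (Or.inr ?_))
      rw [h]
      obtain ⟨k, hk⟩ := hodd
      exact ⟨2, by omega⟩
  · haveI : CharP F 2 := charP_two_of_not_odd hodd
    rcases charDegree_cases_even χ with h | h | h | h
    · exact Or.inl h
    · exact Or.inr (Or.inl h)
    · exact Or.inr (Or.inr (Or.inl (h ▸ dvd_refl _)))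
    · exact Or.inr (Or.inr (Or.inr (h ▸ dvd_refl _)))

theorem exists_irr_degree_q :
    ∃ χ : Cfsg.IrrCharacter (Matrix.SpecialLinearGroup (Fin 2) F),
      χ.1 (-1) = χ.1 1 ∧ Cfsg.charDegree χ.1 = Fintype.card F :=
  ⟨⟨stSL, isIrrCharacter_stSL⟩, by show stSL (-1) = stSL 1; rw [stSL_negOne, stSL_one],
    charDegree_eq_of_one_eq stSL_one⟩

theorem exists_irr_degree_add_one (hq : 4 ≤ Fintype.card F) (hq5 : Fintype.card F ≠ 5) :
    ∃ χ : Cfsg.IrrCharacter (Matrix.SpecialLinearGroup (Fin 2) F),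
      χ.1 (-1) = χ.1 1 ∧ Cfsg.charDegree χ.1 = Fintype.card F + 1 := by
  obtain ⟨α, hα, hα1⟩ := exists_mulChar_even hq hq5
  refine ⟨⟨psSL α, (isIrrCharacter_psSL_iff α).mpr hα⟩, ?_, ?_⟩
  · show psSL α (-1) = psSL α 1
    rw [psSL_negOne, psSL_one, hα1, mul_one]
  · apply charDegree_eq_of_one_eq
    show psSL α 1 = _
    rw [psSL_one]
    push_cast
    ring

theorem exists_irr_degree_sub_one (hq : 4 ≤ Fintype.card F) :
    ∃ χ : Cfsg.IrrCharacter (Matrix.SpecialLinearGroup (Fin 2) F),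
      χ.1 (-1) = χ.1 1 ∧ Cfsg.charDegree χ.1 = Fintype.card F - 1 := by
  classical
  by_cases hodd : Odd (Fintype.card F)
  · obtain ⟨α₀, ξ₁, ξ₂, D⟩ := exists_quadDecomp hodd
    have hq5 : 5 ≤ Fintype.card F := by
      obtain ⟨k, hk⟩ := hodd
      omega
    obtain ⟨χ, hirr, -, h1, h2⟩ := exists_cuspidal_trivial_center hodd hq5 D
    refine ⟨⟨χ, hirr⟩, h2, ?_⟩
    apply charDegree_eq_of_one_eq
    show χ 1 = _
    rw [h1, Nat.cast_sub Fintype.card_pos]
    simp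
  · haveI : CharP F 2 := charP_two_of_not_odd hodd
    have hex : ∃ χ : Cfsg.IrrCharacter (Matrix.SpecialLinearGroup (Fin 2) F), IsCuspidalSL χ.1 := by
      by_contra hne
      push Not at hne
      have h := card_cuspidal_SL2_even (F := F)
      rw [Finset.sum_congr rfl fun χ _ => if_neg (hne χ)] at h
      simp at h
      exact card_ne_zero_complex (F := F) (by linear_combination (-2 : ℂ) * h)
    obtain ⟨χ, hc⟩ := hex
    refine ⟨χ, ?_, ?_⟩
    · rw [negOne_eq_one_of_char_two]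
    · apply charDegree_eq_of_one_eq
      rw [(cuspidalSL_degree_eq_even χ.2 hc).1, Nat.cast_sub Fintype.card_pos]
      simp

omit [Fintype F] [Fintype (Matrix.SpecialLinearGroup (Fin 2) F)] [Fintype (MulChar F ℂ)]
  [Fintype (Cfsg.IrrCharacter (Matrix.SpecialLinearGroup (Fin 2) F))] [Field F] in
theorem sq_sub_one_eq (q : ℕ) (hq : 1 ≤ q) : q ^ 2 - 1 = (q - 1) * (q + 1) := by
  obtain ⟨k, rfl⟩ : ∃ k, q = k + 1 := ⟨q - 1, by omega⟩
  have h : (k + 1) ^ 2 = k * (k + 2) + 1 := by ring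
  rw [h]
  simp

section Graph

variable {S : Type*} [Group S]

omit [Fintype F] [Fintype (Matrix.SpecialLinearGroup (Fin 2) F)] [Fintype (MulChar F ℂ)]
  [Fintype (Cfsg.IrrCharacter (Matrix.SpecialLinearGroup (Fin 2) F))] [Field F] in
theorem degreePrimes_eq (q : ℕ) (hq : 1 ≤ q)
    (hsub : ∀ d ∈ Cfsg.charDegrees S, d = 1 ∨ d = q ∨ d ∣ q + 1 ∨ d ∣ q - 1)
    (h1 : q ∈ Cfsg.charDegrees S) (h2 : q + 1 ∈ Cfsg.charDegrees S) (h3 : q - 1 ∈ Cfsg.charDegrees S) :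
    Cfsg.degreePrimes S = {r : ℕ | r.Prime ∧ r ∣ q * (q ^ 2 - 1)} := by
  ext r
  simp only [Cfsg.degreePrimes, Set.mem_ofPred_eq]
  rw [sq_sub_one_eq q hq]
  constructor
  · rintro ⟨hr, d, hd, hrd⟩
    refine ⟨hr, ?_⟩
    rcases hsub d hd with h | h | h | h
    · rw [h] at hrd
      exact absurd (Nat.dvd_one.mp hrd) hr.ne_one
    · rw [h] at hrd
      exact Dvd.dvd.mul_right hrd _
    · exact Dvd.dvd.mul_left (Dvd.dvd.mul_left (hrd.trans h) _) _
    · exact Dvd.dvd.mul_left (Dvd.dvd.mul_right (hrd.trans h) _) _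
  · rintro ⟨hr, hrd⟩
    refine ⟨hr, ?_⟩
    rcases (Nat.Prime.dvd_mul hr).mp hrd with h | h
    · exact ⟨q, h1, h⟩
    · rcases (Nat.Prime.dvd_mul hr).mp h with h | h
      · exact ⟨q - 1, h3, h⟩
      · exact ⟨q + 1, h2, h⟩

omit [Fintype F] [Fintype (Matrix.SpecialLinearGroup (Fin 2) F)] [Fintype (MulChar F ℂ)]
  [Fintype (Cfsg.IrrCharacter (Matrix.SpecialLinearGroup (Fin 2) F))] [Field F] in
theorem degreeGraph_adj_iff (q t : ℕ) (ht : t.Prime) (hqt : ∃ n : ℕ, q = t ^ n)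
    (hsub : ∀ d ∈ Cfsg.charDegrees S, d = 1 ∨ d = q ∨ d ∣ q + 1 ∨ d ∣ q - 1)
    (h2 : q + 1 ∈ Cfsg.charDegrees S) (h3 : q - 1 ∈ Cfsg.charDegrees S) (r s : ℕ) :
    (Cfsg.degreeGraph S).Adj r s ↔ (r ≠ s ∧ r.Prime ∧ s.Prime ∧ (r * s ∣ q + 1 ∨ r * s ∣ q - 1)) := by
  show (r ≠ s ∧ r.Prime ∧ s.Prime ∧ ∃ d ∈ Cfsg.charDegrees S, r * s ∣ d) ↔ _
  constructor
  · rintro ⟨hne, hr, hs, d, hd, hrs⟩
    refine ⟨hne, hr, hs, ?_⟩
    have hr' : r ∣ d := (Dvd.intro _ rfl).trans hrs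
    have hs' : s ∣ d := (Dvd.intro_left _ rfl).trans hrs
    rcases hsub d hd with h | h | h | h
    · rw [h] at hr'
      exact absurd (Nat.dvd_one.mp hr') hr.ne_one
    · obtain ⟨n, hn⟩ := hqt
      rw [h, hn] at hr' hs'
      have e1 : r = t := (Nat.prime_dvd_prime_iff_eq hr ht).mp (hr.dvd_of_dvd_pow hr')
      have e2 : s = t := (Nat.prime_dvd_prime_iff_eq hs ht).mp (hs.dvd_of_dvd_pow hs')
      exact absurd (e1.trans e2.symm) hne
    · exact Or.inl (hrs.trans h)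
    · exact Or.inr (hrs.trans h)
  · rintro ⟨hne, hr, hs, h | h⟩
    · exact ⟨hne, hr, hs, q + 1, h2, h⟩
    · exact ⟨hne, hr, hs, q - 1, h3, h⟩

omit [Fintype F] [Fintype (Matrix.SpecialLinearGroup (Fin 2) F)] [Fintype (MulChar F ℂ)]
  [Fintype (Cfsg.IrrCharacter (Matrix.SpecialLinearGroup (Fin 2) F))] [Field F] in
theorem adj_rhs_odd (q : ℕ) (hodd : Odd q) (r s : ℕ) (hne : r ≠ s) (hr : r.Prime) (hs : s.Prime) :
    (r * s ∣ q + 1 ∨ r * s ∣ q - 1) ↔ (r ∣ q ^ 2 - 1 ∧ s ∣ q ^ 2 - 1 ∧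
      (r = 2 ∨ s = 2 ∨ (r ∣ q + 1 ∧ s ∣ q + 1) ∨ (r ∣ q - 1 ∧ s ∣ q - 1))) := by
  have hq1 : 1 ≤ q := by
    obtain ⟨k, hk⟩ := hodd
    omega
  have h2a : 2 ∣ q + 1 := by
    obtain ⟨k, hk⟩ := hodd
    exact ⟨k + 1, by omega⟩
  have h2b : 2 ∣ q - 1 := by
    obtain ⟨k, hk⟩ := hodd
    exact ⟨k, by omega⟩
  rw [sq_sub_one_eq q hq1]
  constructor
  · rintro (h | h)
    · have hr' : r ∣ q + 1 := (Dvd.intro _ rfl).trans h
      have hs' : s ∣ q + 1 := (Dvd.intro_left _ rfl).trans h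
      exact ⟨Dvd.dvd.mul_left hr' _, Dvd.dvd.mul_left hs' _, Or.inr (Or.inr (Or.inl ⟨hr', hs'⟩))⟩
    · have hr' : r ∣ q - 1 := (Dvd.intro _ rfl).trans h
      have hs' : s ∣ q - 1 := (Dvd.intro_left _ rfl).trans h
      exact ⟨Dvd.dvd.mul_right hr' _, Dvd.dvd.mul_right hs' _, Or.inr (Or.inr (Or.inr ⟨hr', hs'⟩))⟩
  · rintro ⟨hr', hs', h⟩
    rcases h with h | h | ⟨h1, h2⟩ | ⟨h1, h2⟩
    · subst h
      have hcop : Nat.Coprime 2 s := (Nat.coprime_primes Nat.prime_two hs).mpr hne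
      rcases (Nat.Prime.dvd_mul hs).mp hs' with h3 | h3
      · exact Or.inr (Nat.Coprime.mul_dvd_of_dvd_of_dvd hcop h2b h3)
      · exact Or.inl (Nat.Coprime.mul_dvd_of_dvd_of_dvd hcop h2a h3)
    · subst h
      have hcop : Nat.Coprime r 2 := (Nat.coprime_primes hr Nat.prime_two).mpr hne
      rcases (Nat.Prime.dvd_mul hr).mp hr' with h3 | h3
      · exact Or.inr (Nat.Coprime.mul_dvd_of_dvd_of_dvd hcop h3 h2b)
      · exact Or.inl (Nat.Coprime.mul_dvd_of_dvd_of_dvd hcop h3 h2a)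
    · exact Or.inl (Nat.Coprime.mul_dvd_of_dvd_of_dvd ((Nat.coprime_primes hr hs).mpr hne) h1 h2)
    · exact Or.inr (Nat.Coprime.mul_dvd_of_dvd_of_dvd ((Nat.coprime_primes hr hs).mpr hne) h1 h2)

omit [Fintype F] [Fintype (Matrix.SpecialLinearGroup (Fin 2) F)] [Fintype (MulChar F ℂ)]
  [Fintype (Cfsg.IrrCharacter (Matrix.SpecialLinearGroup (Fin 2) F))] [Field F] in
theorem adj_rhs_even (q : ℕ) (r s : ℕ) (hne : r ≠ s) (hr : r.Prime) (hs : s.Prime) :
    (r * s ∣ q + 1 ∨ r * s ∣ q - 1) ↔ ((r ∣ q + 1 ∧ s ∣ q + 1) ∨ (r ∣ q - 1 ∧ s ∣ q - 1)) := by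
  constructor
  · rintro (h | h)
    · exact Or.inl ⟨(Dvd.intro _ rfl).trans h, (Dvd.intro_left _ rfl).trans h⟩
    · exact Or.inr ⟨(Dvd.intro _ rfl).trans h, (Dvd.intro_left _ rfl).trans h⟩
  · rintro (⟨h1, h2⟩ | ⟨h1, h2⟩)
    · exact Or.inl (Nat.Coprime.mul_dvd_of_dvd_of_dvd ((Nat.coprime_primes hr hs).mpr hne) h1 h2)
    · exact Or.inr (Nat.Coprime.mul_dvd_of_dvd_of_dvd ((Nat.coprime_primes hr hs).mpr hne) h1 h2)

/-- The facts about the degrees of a group isomorphic to SL₂(F) or PSL₂(F) needed for the degree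
graph. -/
theorem charDegrees_facts [Finite S]
    (hS : Nonempty (S ≃* Matrix.ProjectiveSpecialLinearGroup (Fin 2) F) ∨
      Nonempty (S ≃* Matrix.SpecialLinearGroup (Fin 2) F))
    (hq : 4 ≤ Fintype.card F) (hq5 : Fintype.card F ≠ 5) :
    (∀ d ∈ Cfsg.charDegrees S, d = 1 ∨ d = Fintype.card F ∨ d ∣ Fintype.card F + 1 ∨
      d ∣ Fintype.card F - 1) ∧
    Fintype.card F ∈ Cfsg.charDegrees S ∧ Fintype.card F + 1 ∈ Cfsg.charDegrees S ∧
    Fintype.card F - 1 ∈ Cfsg.charDegrees S := by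
  obtain ⟨χ₁, hc₁, hd₁⟩ := exists_irr_degree_q (F := F)
  obtain ⟨χ₂, hc₂, hd₂⟩ := exists_irr_degree_add_one hq hq5
  obtain ⟨χ₃, hc₃, hd₃⟩ := exists_irr_degree_sub_one hq
  rcases hS with ⟨⟨e⟩⟩ | ⟨⟨e⟩⟩
  · rw [charDegrees_congr e, charDegrees_PSL2]
    refine ⟨?_, ⟨χ₁, hc₁, hd₁⟩, ⟨χ₂, hc₂, hd₂⟩, ⟨χ₃, hc₃, hd₃⟩⟩
    rintro d ⟨χ, -, rfl⟩
    exact charDegree_cases χ
  · rw [charDegrees_congr e]
    refine ⟨?_, ⟨χ₁, hd₁⟩, ⟨χ₂, hd₂⟩, ⟨χ₃, hd₃⟩⟩
    rintro d ⟨χ, rfl⟩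
    exact charDegree_cases χ

end Graph

/-- PSL₂(F) has exactly one irreducible character of degree divisible by the characteristic. -/
theorem PSL2_irr_degree_dvd (p : ℕ) (hp : p.Prime) (hpq : p ∣ Fintype.card F) :
    Nat.card {χ : Cfsg.IrrCharacter (Matrix.ProjectiveSpecialLinearGroup (Fin 2) F) //
      p ∣ Cfsg.charDegree (χ : Matrix.ProjectiveSpecialLinearGroup (Fin 2) F → ℂ)} = 1 ∧
    ∀ χ : Cfsg.IrrCharacter (Matrix.ProjectiveSpecialLinearGroup (Fin 2) F),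
      p ∣ Cfsg.charDegree (χ : Matrix.ProjectiveSpecialLinearGroup (Fin 2) F → ℂ) →
      Cfsg.charDegree (χ : Matrix.ProjectiveSpecialLinearGroup (Fin 2) F → ℂ) = Fintype.card F := by
  have key : ∀ χ : Cfsg.IrrCharacter (Matrix.SpecialLinearGroup (Fin 2) F),
      p ∣ Cfsg.charDegree χ.1 → Cfsg.charDegree χ.1 = Fintype.card F := by
    intro χ hχ
    rcases charDegree_cases χ with h | h | h | h
    · rw [h] at hχ
      exact absurd (Nat.dvd_one.mp hχ) hp.ne_one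
    · exact h
    · exfalso
      exact hp.ne_one (Nat.dvd_one.mp ((Nat.dvd_add_right hpq).mp (hχ.trans h)))
    · exfalso
      have h1 := Nat.dvd_sub hpq (hχ.trans h)
      have h2 : Fintype.card F - (Fintype.card F - 1) = 1 := by
        have := Fintype.card_pos (α := F)
        omega
      rw [h2] at h1
      exact hp.ne_one (Nat.dvd_one.mp h1)
  have key2 : ∀ χ : Cfsg.IrrCharacter (Matrix.ProjectiveSpecialLinearGroup (Fin 2) F),
      p ∣ Cfsg.charDegree χ.1 → Cfsg.charDegree χ.1 = Fintype.card F := by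
    intro χ hχ
    have h := key (Cfsg.Agent.H82.inflate _ χ) (by rw [Cfsg.Agent.H82.charDegree_inflate]; exact hχ)
    rwa [Cfsg.Agent.H82.charDegree_inflate] at h
  refine ⟨?_, key2⟩
  rw [Nat.card_eq_one_iff_unique]
  refine ⟨⟨fun a b => ?_⟩, ?_⟩
  · apply Subtype.ext
    apply Cfsg.Agent.H82.inflate_injective (Subgroup.center (Matrix.SpecialLinearGroup (Fin 2) F))
    have hst : ∀ c : {χ : Cfsg.IrrCharacter (Matrix.ProjectiveSpecialLinearGroup (Fin 2) F) //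
        p ∣ Cfsg.charDegree (χ : Matrix.ProjectiveSpecialLinearGroup (Fin 2) F → ℂ)},
        (Cfsg.Agent.H82.inflate (Subgroup.center (Matrix.SpecialLinearGroup (Fin 2) F)) c.1).1 = stSL := by
      intro c
      apply SL2_of_degree_q (Cfsg.Agent.H82.inflate _ c.1).2
      rw [Cfsg.Agent.H82.irr_one_eq_charDegree, Cfsg.Agent.H82.charDegree_inflate, key2 c.1 c.2]
    exact Subtype.ext ((hst a).trans (hst b).symm)
  · obtain ⟨χ', h'⟩ := Cfsg.Agent.H82.exists_deflate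
      (Subgroup.center (Matrix.SpecialLinearGroup (Fin 2) F)) ⟨stSL, isIrrCharacter_stSL⟩ (by
        intro x hx
        rcases (mem_center_SL2 x).mp hx with rfl | rfl
        · rfl
        · show stSL (-1) = stSL 1
          rw [stSL_negOne, stSL_one])
    refine ⟨⟨χ', ?_⟩⟩
    rw [← Cfsg.Agent.H82.charDegree_inflate, h']
    show p ∣ Cfsg.charDegree stSL
    rw [charDegree_eq_of_one_eq stSL_one]
    exact hpq

end Cfsg.Agent.H44
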