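import Cfsg.Agent.H44.MackeyGL2

/-!
# Principal series characters of GL₂(F) (helper44)
-/

set_option autoImplicit false

namespace Cfsg.Agent.H44

open Matrix
open scoped ComplexConjugate

variable {F : Type*} [Field F] [Fintype F] [Fintype (GL (Fin 2) F)]

/-- The principal series function `Ind_B^G (α ⊗ β)` of GL₂. -/
noncomputable def psGL (α β : MulChar F ℂ) : GL (Fin 2) F → ℂ :=
  Cfsg.indFun (Cfsg.upperTriangularGL 2 F)
    (fun b => α (((b : GL (Fin 2) F) : Matrix (Fin 2) (Fin 2) F) 0 0) * β (((b : GL (Fin 2) F) : Matrix (Fin 2) (Fin 2) F) 1 1))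

theorem isCharacter_psGL (α β : MulChar F ℂ) : Cfsg.IsCharacter (GL (Fin 2) F) (psGL α β) :=
  Cfsg.Agent.H4.isCharacter_indFun _ _
    (isCharacter_borelHom (MonoidHom.id (GL (Fin 2) F)) (Cfsg.upperTriangularGL 2 F) (fun _ => Iff.rfl) α β)

open Classical in
theorem classInner_psGL (α β α' β' : MulChar F ℂ) :
    Cfsg.classInner (psGL α β) (psGL α' β') =
      (if α = α' ∧ β = β' then 1 else 0) + (if α = β' ∧ β = α' then 1 else 0) :=
  mackey_GL2 α β α' β'

theorem isIrrCharacter_psGL {α β : MulChar F ℂ} (h : α ≠ β) : Cfsg.IsIrrCharacter (GL (Fin 2) F) (psGL α β) := by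
  apply Cfsg.Agent.H4.isIrrCharacter_of_norm_one (isCharacter_psGL α β)
  rw [classInner_psGL]
  simp [h]

theorem psGL_comm (α β : MulChar F ℂ) : psGL α β = psGL β α := by
  by_cases h : α = β
  · rw [h]
  · by_contra hne
    have h1 := isIrrCharacter_psGL h
    have h2 := isIrrCharacter_psGL (Ne.symm h)
    have h3 := Cfsg.Agent.H4.irr_inner_ne (χ := ⟨psGL α β, h1⟩) (ψ := ⟨psGL β α, h2⟩)
      (fun he => hne (congrArg Subtype.val he))
    rw [classInner_psGL] at h3
    simp [h] at h3

theorem psGL_eq_iff (α β α' β' : MulChar F ℂ) :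
    psGL α β = psGL α' β' ↔ (α = α' ∧ β = β') ∨ (α = β' ∧ β = α') := by
  constructor
  · intro h
    have h1 := classInner_psGL α β α β
    rw [h] at h1
    have h2 := classInner_psGL α β α' β'
    rw [h] at h2
    rw [h2] at h1
    by_contra hcon
    have hA : ¬ (α = α' ∧ β = β') := fun h => hcon (Or.inl h)
    have hB : ¬ (α = β' ∧ β = α') := fun h => hcon (Or.inr h)
    rw [if_neg hA, if_neg hB] at h1
    by_cases hab : α = β
    · simp [hab] at h1
      norm_num at h1
    · simp [hab] at h1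
  · rintro (⟨rfl, rfl⟩ | ⟨rfl, rfl⟩)
    · rfl
    · exact psGL_comm _ _

end Cfsg.Agent.H44
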