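import Mathlib

/-!
# S2953 (team project, KILL2): the abstract core R1-OUT

`T' = Q₁ ∪ Q₁ v`, `v` an involution with `[Q₁, v] ≤ ⟨z⟩`, `z ∈ Z(T') ∩ Q₁` an involution, `k` of
order 3 normalizing `Q₁`, not centralizing `z`, inverted by `v` modulo `Q₁`; `s` normalizes `T'`
and maps `v` into `{v, v z}`.  Then `s` normalizes `Q₁`.
(Signature = helper1's post; several hypotheses are not needed.)
-/

set_option autoImplicit false

namespace Cfsg.Agent.H44.R1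

universe u

/-- membership in the four-set `{1, z, z₁, z₂}` -/
abbrev inW44 {G : Type u} [Group G] (z z₁ z₂ x : G) : Prop := x = 1 ∨ x = z ∨ x = z₁ ∨ x = z₂

theorem r1_out {G : Type u} [Group G] [Finite G] (T' Q₁ K' O : Subgroup G) (z v k s : G)
    (hQT : Q₁ ≤ T') (hT2 : IsPGroup 2 ↥T') (hvT : v ∈ T') (hvQ : v ∉ Q₁)
    (hTQv : ∀ t ∈ T', t ∈ Q₁ ∨ t * v ∈ Q₁) (hv2 : v * v = 1) (hz2 : z * z = 1) (hzQ : z ∈ Q₁)
    (hzT : ∀ t ∈ T', t * z = z * t)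
    (hQv : ∀ q ∈ Q₁, v * q * v⁻¹ = q ∨ v * q * v⁻¹ = q * z)
    (hkK : k ∈ K') (hk3 : k ^ 3 = 1) (hkz : k * z * k⁻¹ ≠ z)
    (hkQ : ∀ q ∈ Q₁, k * q * k⁻¹ ∈ Q₁) (hOQ : O ≤ Q₁)
    (hKO : ∀ g ∈ K', ∃ o ∈ O, ∃ i : ℕ, g = o * k ^ i)
    (hKgen : Subgroup.closure {g : G | g ∈ K' ∧ Odd (orderOf g)} = K')
    (hvk : v * k * v⁻¹ ∈ K') (hvk' : v * k * v⁻¹ * k ∈ Q₁)
    (hsT : ∀ t ∈ T', s * t * s⁻¹ ∈ T') (hsv : s * v * s⁻¹ = v ∨ s * v * s⁻¹ = v * z) :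
    ∀ q ∈ Q₁, s * q * s⁻¹ ∈ Q₁ := by
  classical
  obtain ⟨z₁, hz₁⟩ : ∃ z₁ : G, z₁ = k * z * k⁻¹ := ⟨_, rfl⟩
  obtain ⟨z₂, hz₂⟩ : ∃ z₂ : G, z₂ = k * z₁ * k⁻¹ := ⟨_, rfl⟩
  obtain ⟨q₀, hq₀⟩ : ∃ q₀ : G, q₀ = v * k * v⁻¹ * k := ⟨_, rfl⟩
  have hq0Q : q₀ ∈ Q₁ := by rw [hq₀]; exact hvk'
  have hkkk : k * k * k = 1 := by
    have h := hk3
    rw [pow_succ, pow_two] at h
    exact h
  have hk2 : k * k = k⁻¹ := eq_inv_of_mul_eq_one_left hkkk
  have hkQ' : ∀ q ∈ Q₁, k⁻¹ * q * k ∈ Q₁ := by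
    intro q hq
    have h := hkQ _ (hkQ q hq)
    have e : k * (k * q * k⁻¹) * k⁻¹ = k⁻¹ * q * k := by
      calc k * (k * q * k⁻¹) * k⁻¹ = (k * k) * q * (k * k)⁻¹ := by group
        _ = k⁻¹ * q * k := by rw [hk2, inv_inv]
    rwa [e] at h
  have zQc : ∀ q ∈ Q₁, q * z = z * q := fun q hq => hzT q (hQT hq)
  have hz1Q : z₁ ∈ Q₁ := by rw [hz₁]; exact hkQ z hzQ
  have hz2Q : z₂ ∈ Q₁ := by rw [hz₂]; exact hkQ z₁ hz1Q
  have z1c : ∀ q ∈ Q₁, q * z₁ = z₁ * q := by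
    intro q hq
    have h := zQc _ (hkQ' q hq)
    calc q * z₁ = k * ((k⁻¹ * q * k) * z) * k⁻¹ := by rw [hz₁]; group
      _ = k * (z * (k⁻¹ * q * k)) * k⁻¹ := by rw [h]
      _ = z₁ * q := by rw [hz₁]; group
  have z2c : ∀ q ∈ Q₁, q * z₂ = z₂ * q := by
    intro q hq
    have h := z1c _ (hkQ' q hq)
    calc q * z₂ = k * ((k⁻¹ * q * k) * z₁) * k⁻¹ := by rw [hz₂]; group
      _ = k * (z₁ * (k⁻¹ * q * k)) * k⁻¹ := by rw [h]
      _ = z₂ * q := by rw [hz₂]; group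
  have kz2 : k * z₂ * k⁻¹ = z := by
    rw [hz₂, hz₁]
    calc k * (k * (k * z * k⁻¹) * k⁻¹) * k⁻¹ = (k * k * k) * z * (k * k * k)⁻¹ := by group
      _ = z := by rw [hkkk]; group
  have h11 : z₁ * z₁ = 1 := by
    rw [hz₁]
    calc k * z * k⁻¹ * (k * z * k⁻¹) = k * (z * z) * k⁻¹ := by group
      _ = 1 := by rw [hz2]; group
  have h22 : z₂ * z₂ = 1 := by
    rw [hz₂]
    calc k * z₁ * k⁻¹ * (k * z₁ * k⁻¹) = k * (z₁ * z₁) * k⁻¹ := by group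
      _ = 1 := by rw [h11]; group
  have hkiz : k⁻¹ * z * k = z₂ := by rw [← kz2]; group
  have hvz : v * z * v⁻¹ = z := by
    have := hzT v hvT
    rw [this]; group
  have vz1 : v * z₁ * v⁻¹ = z₂ := by
    have e : v * z₁ * v⁻¹ =
        (v * k * v⁻¹ * k) * (k⁻¹ * (v * z * v⁻¹) * k) * (v * k * v⁻¹ * k)⁻¹ := by
      rw [hz₁]; group
    rw [e, hvz, hkiz, z2c _ hvk']; group
  have vz2 : v * z₂ * v⁻¹ = z₁ := by
    rw [← vz1]
    calc v * (v * z₁ * v⁻¹) * v⁻¹ = (v * v) * z₁ * (v * v)⁻¹ := by group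
      _ = z₁ := by rw [hv2]; group
  have star : z₂ = z₁ * z := by
    rcases hQv z₁ hz1Q with h | h
    · exfalso
      have e : z₂ = z₁ := by rw [← vz1, h]
      apply hkz
      calc k * z * k⁻¹ = z₁ := hz₁.symm
        _ = z₂ := e.symm
        _ = k * z₁ * k⁻¹ := hz₂
        _ = k * z₂ * k⁻¹ := by rw [e]
        _ = z := kz2
    · rw [← vz1, h]
  have h10 : z₁ * z = z₂ := star.symm
  have h01 : z * z₁ = z₂ := by rw [← zQc z₁ hz1Q]; exact h10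
  have h02 : z * z₂ = z₁ := by rw [star, zQc z₁ hz1Q, ← mul_assoc, hz2, one_mul]
  have h20 : z₂ * z = z₁ := by rw [star, mul_assoc, hz2, mul_one]
  have h12 : z₁ * z₂ = z := by rw [star, ← mul_assoc, h11, one_mul]
  have h21 : z₂ * z₁ = z := by rw [z1c z₂ hz2Q]; exact h12
  have zne : z ≠ 1 := by
    intro h
    apply hkz
    rw [h]; group
  have Wmem : ∀ w, inW44 z z₁ z₂ w → w ∈ Q₁ := by
    intro w hw
    rcases hw with h | h | h | h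
    · rw [h]; exact Q₁.one_mem
    · rw [h]; exact hzQ
    · rw [h]; exact hz1Q
    · rw [h]; exact hz2Q
  have Wc : ∀ w, inW44 z z₁ z₂ w → ∀ q ∈ Q₁, q * w = w * q := by
    intro w hw q hq
    rcases hw with h | h | h | h
    · rw [h]; simp
    · rw [h]; exact zQc q hq
    · rw [h]; exact z1c q hq
    · rw [h]; exact z2c q hq
  have Wmul : ∀ x y, inW44 z z₁ z₂ x → inW44 z z₁ z₂ y → inW44 z z₁ z₂ (x * y) := by
    intro x y hx hy
    rcases hx with h | h | h | h <;> rcases hy with h' | h' | h' | h' <;> rw [h, h'] <;>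
      simp [inW44, hz2, h11, h22, h01, h10, h02, h20, h12, h21]
  have Wk : ∀ w, inW44 z z₁ z₂ w → inW44 z z₁ z₂ (k * w * k⁻¹) := by
    intro w hw
    rcases hw with h | h | h | h
    · left; rw [h]; group
    · right; right; left; rw [h]; exact hz₁.symm
    · right; right; right; rw [h]; exact hz₂.symm
    · right; left; rw [h]; exact kz2
  have Wsq : ∀ w, inW44 z z₁ z₂ w → w * w = 1 := by
    intro w hw
    rcases hw with h | h | h | h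
    · rw [h]; simp
    · rw [h]; exact hz2
    · rw [h]; exact h11
    · rw [h]; exact h22
  -- (A): `v k v k⁻¹` moves `Q₁` only by `W`
  have hF : ∀ q ∈ Q₁, ∃ w, inW44 z z₁ z₂ w ∧
      v * (k * (v * (k⁻¹ * q * k) * v⁻¹) * k⁻¹) * v⁻¹ = q * w := by
    intro q hq
    have e : k * (k⁻¹ * q * k) * k⁻¹ = q := by group
    have e2 : k * (k⁻¹ * q * k * z) * k⁻¹ = q * z₁ := by rw [hz₁]; group
    have e3 : v * (q * z₁) * v⁻¹ = (v * q * v⁻¹) * (v * z₁ * v⁻¹) := by group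
    rcases hQv _ (hkQ' q hq) with h | h <;> rcases hQv q hq with h' | h'
    · rw [h, e, h']; exact ⟨1, Or.inl rfl, (mul_one q).symm⟩
    · rw [h, e, h']; exact ⟨z, Or.inr (Or.inl rfl), rfl⟩
    · rw [h, e2, e3, h', vz1]; exact ⟨z₂, Or.inr (Or.inr (Or.inr rfl)), rfl⟩
    · rw [h, e2, e3, h', vz1]
      exact ⟨z₁, Or.inr (Or.inr (Or.inl rfl)), by rw [mul_assoc, h02]⟩
  -- (B)
  have hB : ∀ q ∈ Q₁, ∃ w, inW44 z z₁ z₂ w ∧ k * q * k⁻¹ = q₀⁻¹ * q * q₀ * w := by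
    intro q hq
    obtain ⟨w, hw, e⟩ := hF q hq
    refine ⟨w, hw, ?_⟩
    have e0 : k * q * k⁻¹ =
        q₀⁻¹ * (v * (k * (v * (k⁻¹ * q * k) * v⁻¹) * k⁻¹) * v⁻¹) * q₀ := by
      rw [hq₀]
      symm
      calc (v * k * v⁻¹ * k)⁻¹ * (v * (k * (v * (k⁻¹ * q * k) * v⁻¹) * k⁻¹) * v⁻¹) *
            (v * k * v⁻¹ * k)
          = k⁻¹ * (v * v) * k⁻¹ * q * k * (v * v)⁻¹ * k := by group
        _ = (k * k)⁻¹ * q * (k * k) := by rw [hv2]; group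
        _ = k * q * k⁻¹ := by rw [hk2, inv_inv]
    rw [e0, e]
    calc q₀⁻¹ * (q * w) * q₀ = q₀⁻¹ * q * (w * q₀) := by group
      _ = q₀⁻¹ * q * (q₀ * w) := by rw [Wc w hw q₀ hq0Q]
      _ = q₀⁻¹ * q * q₀ * w := by group
  have hι : ∀ q ∈ Q₁, q₀⁻¹ * q * q₀ ∈ Q₁ := fun q hq =>
    Q₁.mul_mem (Q₁.mul_mem (Q₁.inv_mem hq0Q) hq) hq0Q
  -- one step of the iteration
  have hstep : ∀ q ∈ Q₁, ∀ w, inW44 z z₁ z₂ w → ∃ w', inW44 z z₁ z₂ w' ∧
      k * (q * w) * k⁻¹ = q₀⁻¹ * q * q₀ * w' := by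
    intro q hq w hw
    obtain ⟨w₁, hw₁, e⟩ := hB q hq
    refine ⟨w₁ * (k * w * k⁻¹), Wmul _ _ hw₁ (Wk w hw), ?_⟩
    calc k * (q * w) * k⁻¹ = (k * q * k⁻¹) * (k * w * k⁻¹) := by group
      _ = q₀⁻¹ * q * q₀ * w₁ * (k * w * k⁻¹) := by rw [e]
      _ = q₀⁻¹ * q * q₀ * (w₁ * (k * w * k⁻¹)) := by group
  -- (C): `q₀³` is central modulo `W`
  have hC : ∀ q ∈ Q₁, ∃ w, inW44 z z₁ z₂ w ∧ (q₀ ^ 3)⁻¹ * q * q₀ ^ 3 = q * w := by
    intro q hq
    obtain ⟨w₁, hw₁, e₁⟩ := hB q hq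
    obtain ⟨w₂, hw₂, e₂⟩ := hstep _ (hι q hq) w₁ hw₁
    obtain ⟨w₃, hw₃, e₃⟩ := hstep _ (hι _ (hι q hq)) w₂ hw₂
    refine ⟨w₃, hw₃, ?_⟩
    have e4 : k * (k * (k * q * k⁻¹) * k⁻¹) * k⁻¹ = q := by
      calc k * (k * (k * q * k⁻¹) * k⁻¹) * k⁻¹ = (k * k * k) * q * (k * k * k)⁻¹ := by group
        _ = q := by rw [hkkk]; group
    rw [e₁, e₂, e₃] at e4
    -- e4 : q₀⁻¹ * (q₀⁻¹ * (q₀⁻¹ * q * q₀) * q₀) * q₀ * w₃ = q
    calc (q₀ ^ 3)⁻¹ * q * q₀ ^ 3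
        = q₀⁻¹ * (q₀⁻¹ * (q₀⁻¹ * q * q₀) * q₀) * q₀ * w₃ * w₃⁻¹ := by
          rw [pow_succ, pow_two]; group
      _ = q * w₃⁻¹ := by rw [e4]
      _ = q * w₃ := by rw [inv_eq_of_mul_eq_one_right (Wsq w₃ hw₃)]
  -- powers
  have hpow : ∀ c ∈ Q₁, (∀ q ∈ Q₁, ∃ w, inW44 z z₁ z₂ w ∧ c⁻¹ * q * c = q * w) →
      ∀ n : ℕ, ∀ q ∈ Q₁, ∃ w, inW44 z z₁ z₂ w ∧ (c ^ n)⁻¹ * q * c ^ n = q * w := by
    intro c hc hcen n
    induction n with
    | zero => intro q _; exact ⟨1, Or.inl rfl, by simp⟩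
    | succ n ih =>
      intro q hq
      obtain ⟨w, hw, e⟩ := ih q hq
      obtain ⟨w', hw', e'⟩ := hcen q hq
      refine ⟨w' * w, Wmul _ _ hw' hw, ?_⟩
      calc (c ^ (n + 1))⁻¹ * q * c ^ (n + 1) = c⁻¹ * ((c ^ n)⁻¹ * q * c ^ n) * c := by
            rw [pow_succ]; group
        _ = c⁻¹ * (q * w) * c := by rw [e]
        _ = c⁻¹ * q * (w * c) := by group
        _ = c⁻¹ * q * (c * w) := by rw [Wc w hw c hc]
        _ = (c⁻¹ * q * c) * w := by group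
        _ = q * w' * w := by rw [e']
        _ = q * (w' * w) := by group
  -- (D): `q₀` is central modulo `W`
  have hD : ∀ q ∈ Q₁, ∃ w, inW44 z z₁ z₂ w ∧ q₀⁻¹ * q * q₀ = q * w := by
    obtain ⟨a, ha⟩ := hT2 ⟨q₀, hQT hq0Q⟩
    have ha' : q₀ ^ (2 ^ a) = 1 := by simpa using congrArg Subtype.val ha
    have hd : orderOf q₀ ∣ 2 ^ a := orderOf_dvd_of_pow_eq_one ha'
    have hcop : Nat.Coprime 3 (orderOf q₀) :=
      Nat.Coprime.coprime_dvd_right hd (Nat.Coprime.pow_right _ (by norm_num))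
    obtain ⟨m, hm⟩ := exists_pow_eq_self_of_coprime hcop
    have := hpow (q₀ ^ 3) (Q₁.pow_mem hq0Q 3) hC m
    rw [hm] at this
    exact this
  -- (E)
  have hE : ∀ q ∈ Q₁, ∃ w, inW44 z z₁ z₂ w ∧ k * q * k⁻¹ = q * w := by
    intro q hq
    obtain ⟨w₁, hw₁, e₁⟩ := hB q hq
    obtain ⟨w₂, hw₂, e₂⟩ := hD q hq
    exact ⟨w₂ * w₁, Wmul _ _ hw₂ hw₁, by rw [e₁, e₂, mul_assoc]⟩
  -- the subgroup `R = C_{Q₁}(k)`
  obtain ⟨R, hR⟩ : ∃ R : Subgroup G, R = Q₁ ⊓ Subgroup.centralizer {k} := ⟨_, rfl⟩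
  have hRmem : ∀ r, r ∈ Q₁ → k * r * k⁻¹ = r → r ∈ R := by
    intro r hr h
    rw [hR]
    refine Subgroup.mem_inf.mpr ⟨hr, Subgroup.mem_centralizer_iff.mpr ?_⟩
    intro x hx
    rw [Set.mem_singleton_iff] at hx
    rw [hx]
    calc k * r = (k * r * k⁻¹) * k := by group
      _ = r * k := by rw [h]
  have hRQ : ∀ r ∈ R, r ∈ Q₁ := by
    intro r hr
    rw [hR] at hr
    exact hr.1
  have hRk : ∀ r ∈ R, k * r * k⁻¹ = r := by
    intro r hr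
    rw [hR] at hr
    have := (Subgroup.mem_centralizer_iff.mp hr.2) k (Set.mem_singleton k)
    rw [this]; group
  have znotR : z ∉ R := fun h => hkz (hRk z h)
  have z1notR : z₁ ∉ R := by
    intro h
    have e := hRk z₁ h
    rw [← hz₂] at e
    have : z₁ * z = z₁ * 1 := by rw [h10, mul_one]; exact e
    exact zne (mul_left_cancel this)
  have kmul : ∀ q w : G, k * (q * w) * k⁻¹ = (k * q * k⁻¹) * (k * w * k⁻¹) := by
    intro q w; group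
  -- (F): `Q₁ = R W`
  have hFd : ∀ q ∈ Q₁, ∃ r ∈ R, ∃ w, inW44 z z₁ z₂ w ∧ q = r * w := by
    intro q hq
    obtain ⟨w', hw', e⟩ := hE q hq
    rcases hw' with h | h | h | h
    · rw [h, mul_one] at e
      exact ⟨q, hRmem q hq e, 1, Or.inl rfl, (mul_one q).symm⟩
    · rw [h] at e
      refine ⟨q * z₁, hRmem _ (Q₁.mul_mem hq hz1Q) ?_, z₁, Or.inr (Or.inr (Or.inl rfl)), ?_⟩
      · rw [kmul, e, ← hz₂, mul_assoc, h02]
      · rw [mul_assoc, h11, mul_one]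
    · rw [h] at e
      refine ⟨q * z₂, hRmem _ (Q₁.mul_mem hq hz2Q) ?_, z₂, Or.inr (Or.inr (Or.inr rfl)), ?_⟩
      · rw [kmul, e, kz2, mul_assoc, h10]
      · rw [mul_assoc, h22, mul_one]
    · rw [h] at e
      refine ⟨q * z, hRmem _ (Q₁.mul_mem hq hzQ) ?_, z, Or.inr (Or.inl rfl), ?_⟩
      · rw [kmul, e, ← hz₁, mul_assoc, h21]
      · rw [mul_assoc, hz2, mul_one]
  -- (G): `v` centralizes `R`
  have hG : ∀ r ∈ R, v * r * v⁻¹ = r := by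
    intro r hr
    rcases hQv r (hRQ r hr) with h | h
    · exact h
    · exfalso
      have e1 : (v * k * v⁻¹) * (v * r * v⁻¹) * (v * k * v⁻¹)⁻¹ = v * (k * r * k⁻¹) * v⁻¹ := by
        group
      rw [hRk r hr, h] at e1
      have e2 : v * k * v⁻¹ = q₀ * k⁻¹ := by rw [hq₀]; group
      rw [e2] at e1
      have e3 : (q₀ * k⁻¹) * (r * z) * (q₀ * k⁻¹)⁻¹ =
          q₀ * ((k⁻¹ * r * k) * (k⁻¹ * z * k)) * q₀⁻¹ := by group
      have e4 : k⁻¹ * r * k = r := by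
        have h4 := hRk r hr
        calc k⁻¹ * r * k = k⁻¹ * (k * r * k⁻¹) * k := by rw [h4]
          _ = r := by group
      rw [e3, e4, hkiz] at e1
      obtain ⟨r₀, hr₀, w₀, hw₀, eq0⟩ := hFd q₀ hq0Q
      have e5 : q₀ * (r * z₂) * q₀⁻¹ = (q₀ * r * q₀⁻¹) * z₂ := by
        calc q₀ * (r * z₂) * q₀⁻¹ = q₀ * r * (z₂ * q₀⁻¹) := by group
          _ = q₀ * r * (q₀⁻¹ * z₂) := by rw [z2c q₀⁻¹ (Q₁.inv_mem hq0Q)]
          _ = (q₀ * r * q₀⁻¹) * z₂ := by group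
      have e6 : q₀ * r * q₀⁻¹ = r₀ * r * r₀⁻¹ := by
        rw [eq0]
        calc (r₀ * w₀) * r * (r₀ * w₀)⁻¹ = r₀ * (w₀ * r) * w₀⁻¹ * r₀⁻¹ := by group
          _ = r₀ * (r * w₀) * w₀⁻¹ * r₀⁻¹ := by rw [Wc w₀ hw₀ r (hRQ r hr)]
          _ = r₀ * r * r₀⁻¹ := by group
      rw [e5, e6] at e1
      have e7 : r⁻¹ * (r₀ * r * r₀⁻¹) = z₁ := by
        calc r⁻¹ * (r₀ * r * r₀⁻¹) = r⁻¹ * ((r₀ * r * r₀⁻¹ * z₂) * z₂) := by
              rw [mul_assoc (r₀ * r * r₀⁻¹) z₂ z₂, h22, mul_one]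
          _ = r⁻¹ * ((r * z) * z₂) := by rw [e1]
          _ = z * z₂ := by group
          _ = z₁ := h02
      apply z1notR
      rw [← e7]
      exact R.mul_mem (R.inv_mem hr) (R.mul_mem (R.mul_mem hr₀ hr) (R.inv_mem hr₀))
  -- decomposition of `T'`
  have hJ : ∀ t ∈ T', ∃ r ∈ R, ∃ w, inW44 z z₁ z₂ w ∧ (t = r * w ∨ t = r * w * v) := by
    intro t ht
    rcases hTQv t ht with h | h
    · obtain ⟨r, hr, w, hw, e⟩ := hFd t h
      exact ⟨r, hr, w, hw, Or.inl e⟩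
    · obtain ⟨r, hr, w, hw, e⟩ := hFd _ h
      refine ⟨r, hr, w, hw, Or.inr ?_⟩
      have : t = t * v * v := by rw [mul_assoc, hv2, mul_one]
      rw [this, e]
  have hvw : ∀ w, (w = z₁ ∨ w = z₂) → v * w * v⁻¹ = w * z := by
    intro w hw
    rcases hw with h | h
    · rw [h]; exact vz1.trans h10.symm
    · rw [h]; exact vz2.trans h20.symm
  have hKc : ∀ r ∈ R, ∀ w, inW44 z z₁ z₂ w →
      (v * (r * w) * v⁻¹ * (r * w)⁻¹ = 1) ∨
      (v * (r * w) * v⁻¹ * (r * w)⁻¹ = z ∧ (w = z₁ ∨ w = z₂)) := by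
    intro r hr w hw
    have e : v * (r * w) * v⁻¹ * (r * w)⁻¹ = (v * r * v⁻¹) * (v * w * v⁻¹) * w⁻¹ * r⁻¹ := by
      group
    rw [e, hG r hr]
    rcases hw with h | h | h | h
    · left; rw [h]; group
    · left; rw [h, hvz]; group
    · right
      refine ⟨?_, Or.inl h⟩
      rw [h, vz1, inv_eq_of_mul_eq_one_right h11, mul_assoc r, h21, zQc r (hRQ r hr)]; group
    · right
      refine ⟨?_, Or.inr h⟩
      rw [h, vz2, inv_eq_of_mul_eq_one_right h22, mul_assoc r, h12, zQc r (hRQ r hr)]; group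
  -- the conjugate of `v` by `s` acts on `T'` as `v`
  have hH : ∀ τ ∈ T', (s * v * s⁻¹) * τ * (s * v * s⁻¹)⁻¹ = v * τ * v⁻¹ := by
    intro τ hτ
    rcases hsv with h | h
    · rw [h]
    · rw [h]
      calc (v * z) * τ * (v * z)⁻¹ = v * (z * τ) * z⁻¹ * v⁻¹ := by group
        _ = v * (τ * z) * z⁻¹ * v⁻¹ := by rw [hzT τ hτ]
        _ = v * τ * v⁻¹ := by group
  have ht : s * z₁ * s⁻¹ ∈ T' := hsT z₁ (hQT hz1Q)
  have ez : z = v * z₁ * v⁻¹ * z₁⁻¹ := by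
    rw [vz1, inv_eq_of_mul_eq_one_right h11, h21]
  have szs : s * z * s⁻¹ = v * (s * z₁ * s⁻¹) * v⁻¹ * (s * z₁ * s⁻¹)⁻¹ := by
    calc s * z * s⁻¹ = s * (v * z₁ * v⁻¹ * z₁⁻¹) * s⁻¹ := by rw [← ez]
      _ = (s * v * s⁻¹) * (s * z₁ * s⁻¹) * (s * v * s⁻¹)⁻¹ * (s * z₁ * s⁻¹)⁻¹ := by group
      _ = v * (s * z₁ * s⁻¹) * v⁻¹ * (s * z₁ * s⁻¹)⁻¹ := by rw [hH _ ht]
  have szne : s * z * s⁻¹ ≠ 1 := by
    intro h
    apply zne
    have e : z = s⁻¹ * (s * z * s⁻¹) * s := by group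
    rw [e, h]; group
  obtain ⟨r, hr, w, hw, ht'⟩ := hJ _ ht
  have key : v * (s * z₁ * s⁻¹) * v⁻¹ * (s * z₁ * s⁻¹)⁻¹ = v * (r * w) * v⁻¹ * (r * w)⁻¹ := by
    rcases ht' with e | e
    · rw [e]
    · rw [e]; group
  rcases hKc r hr w hw with h1 | ⟨h1, hw12⟩
  · exfalso
    exact szne (by rw [szs, key, h1])
  · have c2 : v * w * v⁻¹ = w * z := hvw w hw12
    have c4 : w * w = 1 := Wsq w hw
    have htQ : s * z₁ * s⁻¹ = r * w := by
      rcases ht' with e | e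
      · exact e
      · exfalso
        have htt : (s * z₁ * s⁻¹) * (s * z₁ * s⁻¹) = 1 := by
          calc (s * z₁ * s⁻¹) * (s * z₁ * s⁻¹) = s * (z₁ * z₁) * s⁻¹ := by group
            _ = 1 := by rw [h11]; group
        rw [e] at htt
        have c1 : (r * w * v) * (r * w * v) =
            r * w * (v * r * v⁻¹) * (v * w * v⁻¹) * (v * v) := by group
        rw [c1, hG r hr, hv2, mul_one, c2] at htt
        have c3 : r * w * r * (w * z) = r * r * (w * w) * z := by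
          calc r * w * r * (w * z) = r * (w * r) * w * z := by group
            _ = r * (r * w) * w * z := by rw [← Wc w hw r (hRQ r hr)]
            _ = r * r * (w * w) * z := by group
        rw [c3, c4, mul_one] at htt
        apply znotR
        have e8 : z = (r * r)⁻¹ := eq_inv_of_mul_eq_one_right htt
        rw [e8]
        exact R.inv_mem (R.mul_mem hr hr)
    intro q hq
    have hx : s * q * s⁻¹ ∈ T' := hsT q (hQT hq)
    have hcomm : (s * q * s⁻¹) * (s * z₁ * s⁻¹) = (s * z₁ * s⁻¹) * (s * q * s⁻¹) := by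
      calc (s * q * s⁻¹) * (s * z₁ * s⁻¹) = s * (q * z₁) * s⁻¹ := by group
        _ = s * (z₁ * q) * s⁻¹ := by rw [z1c q hq]
        _ = (s * z₁ * s⁻¹) * (s * q * s⁻¹) := by group
    rcases hTQv _ hx with h | h
    · exact h
    · exfalso
      obtain ⟨r', hr', w', hw', e'⟩ := hFd _ h
      have ex : s * q * s⁻¹ = r' * w' * v := by
        have e9 : s * q * s⁻¹ = (s * q * s⁻¹ * v) * v := by rw [mul_assoc _ v v, hv2, mul_one]
        rw [e9, e']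
      rw [ex, htQ] at hcomm
      have d1 : (r' * w' * v) * (r * w) = r' * w' * (v * r * v⁻¹) * (v * w * v⁻¹) * v := by
        group
      rw [d1, hG r hr, c2] at hcomm
      have d2 : r' * w' * r * (w * z) = r * w * (r' * w') :=
        mul_right_cancel (hcomm.trans (by group))
      have d3 : r' * w' * r * (w * z) = r' * r * z * (w' * w) := by
        calc r' * w' * r * (w * z) = r' * (w' * r) * w * z := by group
          _ = r' * (r * w') * w * z := by rw [← Wc w' hw' r (hRQ r hr)]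
          _ = r' * r * (w' * w * z) := by group
          _ = r' * r * (z * (w' * w)) := by
              rw [zQc (w' * w) (Q₁.mul_mem (Wmem w' hw') (Wmem w hw))]
          _ = r' * r * z * (w' * w) := by group
      have d4 : r * w * (r' * w') = r * r' * (w' * w) := by
        calc r * w * (r' * w') = r * (w * r') * w' := by group
          _ = r * (r' * w) * w' := by rw [← Wc w hw r' (hRQ r' hr')]
          _ = r * r' * (w * w') := by group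
          _ = r * r' * (w' * w) := by rw [Wc w' hw' w (Wmem w hw)]
      rw [d3, d4] at d2
      have d5 : r' * r * z = r * r' := mul_right_cancel d2
      apply znotR
      have e10 : z = (r' * r)⁻¹ * (r * r') := by rw [← d5]; group
      rw [e10]
      exact R.mul_mem (R.inv_mem (R.mul_mem hr' hr)) (R.mul_mem hr hr')

end Cfsg.Agent.H44.R1
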