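import Mathlib
import Cfsg.Agent.H4.Irr
import Cfsg.Agent.H4.Integral

/-!
# Joint eigenspaces of commuting families and multiplicity formulas
-/

set_option autoImplicit false

namespace Cfsg.Agent.H44

open Module

universe u v

section EigSub

variable {A : Type*} {V : Type*} [AddCommGroup V] [Module ℂ V]

/-- Joint eigenspace of a family of operators. -/
def eigSub (T : A → V →ₗ[ℂ] V) (μ : A → ℂ) : Submodule ℂ V where
  carrier := {v | ∀ a, T a v = μ a • v}
  add_mem' := by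
    intro v w hv hw a
    rw [map_add, hv a, hw a, smul_add]
  zero_mem' := by
    intro a
    simp
  smul_mem' := by
    intro c v hv a
    rw [map_smul, hv a, smul_comm]

theorem mem_eigSub (T : A → V →ₗ[ℂ] V) (μ : A → ℂ) (v : V) :
    v ∈ eigSub T μ ↔ ∀ a, T a v = μ a • v := Iff.rfl

end EigSub

section Mult

variable {A : Type*} [AddCommGroup A] [Fintype A] {V : Type*} [AddCommGroup V] [Module ℂ V]

/-- The averaging projection onto a joint eigenspace. -/
noncomputable def eigProj (T : A → V →ₗ[ℂ] V) (μ : A → ℂ) : V →ₗ[ℂ] V :=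
  (Fintype.card A : ℂ)⁻¹ • ∑ a, (μ a)⁻¹ • T a

theorem addChar_ne_zero (μ : AddChar A ℂ) (a : A) : μ a ≠ 0 := by
  have h : μ a * μ (-a) = 1 := by
    rw [← AddChar.map_add_eq_mul, add_neg_cancel, AddChar.map_zero_eq_one]
  intro h0
  rw [h0, zero_mul] at h
  exact zero_ne_one h

theorem eigProj_isProj (T : A → V →ₗ[ℂ] V) (hTadd : ∀ a b, T (a + b) = T a * T b)
    (μ : AddChar A ℂ) : LinearMap.IsProj (eigSub T μ) (eigProj T μ) := by
  have hcard : (Fintype.card A : ℂ) ≠ 0 := by exact_mod_cast Fintype.card_ne_zero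
  have hμ := addChar_ne_zero μ
  constructor
  · intro v b
    have key : ∑ a, (μ a)⁻¹ • T b (T a v) = μ b • ∑ a, (μ a)⁻¹ • T a v := by
      rw [Finset.smul_sum, ← Equiv.sum_comp (Equiv.addLeft b) (fun a => μ b • (μ a)⁻¹ • T a v)]
      apply Finset.sum_congr rfl
      intro a _
      simp only [Equiv.coe_addLeft]
      rw [hTadd, Module.End.mul_apply, smul_smul]
      congr 1
      rw [AddChar.map_add_eq_mul]
      have := hμ a
      have := hμ b
      field_simp
    simp only [eigProj, LinearMap.smul_apply, LinearMap.sum_apply, map_smul, map_sum]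
    rw [key, smul_comm]
  · intro v hv
    simp only [eigProj, LinearMap.smul_apply, LinearMap.sum_apply]
    have h1 : ∀ a, (μ a)⁻¹ • T a v = v := fun a => by
      rw [hv a, smul_smul, inv_mul_cancel₀ (hμ a), one_smul]
    simp only [h1, Finset.sum_const, Finset.card_univ]
    rw [← Nat.cast_smul_eq_nsmul ℂ, smul_smul, inv_mul_cancel₀ hcard, one_smul]

theorem mult_formula [FiniteDimensional ℂ V] (T : A → V →ₗ[ℂ] V)
    (hTadd : ∀ a b, T (a + b) = T a * T b) (μ : AddChar A ℂ) :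
    (Fintype.card A : ℂ) * (finrank ℂ (eigSub T μ) : ℂ) =
      ∑ a, (μ a)⁻¹ * LinearMap.trace ℂ V (T a) := by
  have hcard : (Fintype.card A : ℂ) ≠ 0 := by exact_mod_cast Fintype.card_ne_zero
  have h := (eigProj_isProj T hTadd μ).trace
  rw [← h]
  simp only [eigProj, map_smul, map_sum, smul_eq_mul]
  field_simp

theorem sum_addChar_inv (μ : AddChar A ℂ) (hμ : μ ≠ 1) : ∑ a, (μ a)⁻¹ = 0 := by
  have h1 : ∀ a, (μ a)⁻¹ = μ (-a) := by
    intro a
    have h : μ a * μ (-a) = 1 := by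
      rw [← AddChar.map_add_eq_mul, add_neg_cancel, AddChar.map_zero_eq_one]
    exact (eq_inv_of_mul_eq_one_right h).symm
  simp only [h1]
  exact (Fintype.sum_equiv (Equiv.neg A) (fun a => μ (-a)) (fun a => μ a) (fun a => rfl)).trans
    (AddChar.sum_eq_zero_of_ne_one hμ)

theorem mult_fix [FiniteDimensional ℂ V] (T : A → V →ₗ[ℂ] V) (hT0 : T 0 = 1)
    (hTadd : ∀ a b, T (a + b) = T a * T b) (τ : ℂ)
    (hτ : ∀ a, a ≠ 0 → LinearMap.trace ℂ V (T a) = τ) :
    (Fintype.card A : ℂ) * (finrank ℂ (eigSub T (fun _ => (1 : ℂ))) : ℂ) =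
      (finrank ℂ V : ℂ) + ((Fintype.card A : ℂ) - 1) * τ := by
  classical
  have h := mult_formula T hTadd (1 : AddChar A ℂ)
  have h1 : ((1 : AddChar A ℂ) : A → ℂ) = fun _ => (1 : ℂ) := by
    ext a
    simp
  rw [h1] at h
  rw [h]
  simp only [inv_one, one_mul]
  rw [← Finset.add_sum_erase Finset.univ _ (Finset.mem_univ (0 : A)), hT0]
  have h2 : ∀ a ∈ (Finset.univ : Finset A).erase 0, LinearMap.trace ℂ V (T a) = τ := by
    intro a ha
    exact hτ a (Finset.ne_of_mem_erase ha)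
  rw [Finset.sum_congr rfl h2, Finset.sum_const, Finset.card_erase_of_mem (Finset.mem_univ _),
    Finset.card_univ]
  have h3 : (1 : V →ₗ[ℂ] V) = LinearMap.id := rfl
  rw [h3, LinearMap.trace_id, nsmul_eq_mul, Nat.cast_sub Fintype.card_pos]
  simp

theorem mult_nontriv [FiniteDimensional ℂ V] (T : A → V →ₗ[ℂ] V) (hT0 : T 0 = 1)
    (hTadd : ∀ a b, T (a + b) = T a * T b) (τ : ℂ)
    (hτ : ∀ a, a ≠ 0 → LinearMap.trace ℂ V (T a) = τ) (μ : AddChar A ℂ) (hμ : μ ≠ 1) :
    (Fintype.card A : ℂ) * (finrank ℂ (eigSub T μ) : ℂ) = (finrank ℂ V : ℂ) - τ := by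
  classical
  have h := mult_formula T hTadd μ
  rw [h]
  rw [← Finset.add_sum_erase Finset.univ _ (Finset.mem_univ (0 : A)), hT0]
  have h2 : ∀ a ∈ (Finset.univ : Finset A).erase 0,
      (μ a)⁻¹ * LinearMap.trace ℂ V (T a) = (μ a)⁻¹ * τ := by
    intro a ha
    rw [hτ a (Finset.ne_of_mem_erase ha)]
  rw [Finset.sum_congr rfl h2, ← Finset.sum_mul]
  have h4 := sum_addChar_inv μ hμ
  rw [← Finset.add_sum_erase Finset.univ _ (Finset.mem_univ (0 : A))] at h4
  have h5 : ∑ a ∈ (Finset.univ : Finset A).erase 0, (μ a)⁻¹ = -1 := by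
    rw [AddChar.map_zero_eq_one, inv_one] at h4
    linear_combination h4
  have h3 : (1 : V →ₗ[ℂ] V) = LinearMap.id := rfl
  rw [h5, h3, LinearMap.trace_id, AddChar.map_zero_eq_one]
  simp
  ring

theorem mult_numeric (Q D a b : ℕ) (τ : ℂ) (hQ : 0 < Q)
    (ha : (Q : ℂ) * (a : ℂ) = (D : ℂ) + ((Q : ℂ) - 1) * τ)
    (hb : (Q : ℂ) * (b : ℂ) = (D : ℂ) - τ) :
    D = a + (Q - 1) * b ∧ τ = (a : ℂ) - (b : ℂ) := by
  have hQ0 : (Q : ℂ) ≠ 0 := by exact_mod_cast hQ.ne'
  have h1 : τ = (a : ℂ) - (b : ℂ) := by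
    have : (Q : ℂ) * (τ - ((a : ℂ) - (b : ℂ))) = 0 := by linear_combination hb - ha
    rcases mul_eq_zero.mp this with h | h
    · exact absurd h hQ0
    · exact sub_eq_zero.mp h
  refine ⟨?_, h1⟩
  have h2 : (D : ℂ) = ((a + (Q - 1) * b : ℕ) : ℂ) := by
    push_cast
    rw [Nat.cast_sub hQ]
    push_cast
    rw [h1] at hb
    linear_combination -hb
  exact_mod_cast h2

end Mult

section Single

variable {V : Type*} [AddCommGroup V] [Module ℂ V]

theorem eig_of_single {ι : Type*} [Fintype ι] [DecidableEq ι] {R : Type*} [AddCommMonoid R]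
    (T : (ι → R) → V →ₗ[ℂ] V) (hT0 : T 0 = 1) (hTadd : ∀ a b, T (a + b) = T a * T b)
    (μ : (ι → R) → ℂ) (hμ0 : μ 0 = 1) (hμadd : ∀ a b, μ (a + b) = μ a * μ b) (w : V)
    (h : ∀ j s, T (Pi.single j s) w = μ (Pi.single j s) • w) : ∀ φ, T φ w = μ φ • w := by
  intro φ
  rw [← Finset.univ_sum_single φ]
  apply Finset.sum_induction (fun j => Pi.single j (φ j)) (fun φ => T φ w = μ φ • w)
  · intro a b ha hb
    rw [hTadd, Module.End.mul_apply, hb, map_smul, ha, hμadd, smul_smul, mul_comm]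
  · rw [hT0, hμ0]
    simp
  · intro j _
    exact h j (φ j)

end Single

section Res

variable {V : Type*} [AddCommGroup V] [Module ℂ V]

/-- Restriction of a representation along a group homomorphism to an invariant subspace. -/
def resRep {G H : Type*} [Monoid G] [Monoid H] (ρ : Representation ℂ G V) (f : H →* G)
    (C : Submodule ℂ V) (hC : ∀ h, ∀ v ∈ C, ρ (f h) v ∈ C) : Representation ℂ H C where
  toFun h := (ρ (f h)).restrict (hC h)
  map_one' := by
    ext v
    simp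
  map_mul' := by
    intro a b
    ext v
    simp

theorem resRep_apply {G H : Type*} [Monoid G] [Monoid H] (ρ : Representation ℂ G V) (f : H →* G)
    (C : Submodule ℂ V) (hC : ∀ h, ∀ v ∈ C, ρ (f h) v ∈ C) (h : H) (v : C) :
    ((resRep ρ f C hC h v : C) : V) = ρ (f h) (v : V) := rfl

/-- The stabilizer of a subspace. -/
def stabSub {G : Type*} [Group G] (ρ : Representation ℂ G V) (C : Submodule ℂ V) : Subgroup G where
  carrier := {g | (∀ v ∈ C, ρ g v ∈ C) ∧ (∀ v ∈ C, ρ g⁻¹ v ∈ C)}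
  mul_mem' := by
    intro a b ha hb
    refine ⟨fun v hv => ?_, fun v hv => ?_⟩
    · rw [map_mul, Module.End.mul_apply]
      exact ha.1 _ (hb.1 v hv)
    · rw [mul_inv_rev, map_mul, Module.End.mul_apply]
      exact hb.2 _ (ha.2 v hv)
  one_mem' := by
    refine ⟨fun v hv => ?_, fun v hv => ?_⟩
    · simpa using hv
    · simpa using hv
  inv_mem' := by
    intro a ha
    refine ⟨ha.2, ?_⟩
    rw [inv_inv]
    exact ha.1

theorem mem_stabSub {G : Type*} [Group G] (ρ : Representation ℂ G V) (C : Submodule ℂ V) (g : G) :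
    g ∈ stabSub ρ C ↔ (∀ v ∈ C, ρ g v ∈ C) ∧ (∀ v ∈ C, ρ g⁻¹ v ∈ C) := Iff.rfl

/-- The representation of the stabilizer of a subspace on that subspace. -/
def stabRep {G : Type*} [Group G] (ρ : Representation ℂ G V) (C : Submodule ℂ V) :
    Representation ℂ (stabSub ρ C) C :=
  resRep ρ (stabSub ρ C).subtype C (fun h v hv => (h.2).1 v hv)

theorem stabRep_apply {G : Type*} [Group G] (ρ : Representation ℂ G V) (C : Submodule ℂ V)
    (h : stabSub ρ C) (v : C) : ((stabRep ρ C h v : C) : V) = ρ (h : G) (v : V) := rfl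

theorem comm_smul_fix {G : Type*} [Group G] (ρ : Representation ℂ G V) (g h : G) (w : V)
    (hw : w ≠ 0) (c d : ℂ) (hg : ρ g w = c • w) (hh : ρ h w = d • w) :
    ρ (g * h * g⁻¹ * h⁻¹) w = w := by
  have key : ∀ (x : G) (e : ℂ), ρ x w = e • w → e ≠ 0 ∧ ρ x⁻¹ w = e⁻¹ • w := by
    intro x e hx
    have h1 : ρ x⁻¹ (ρ x w) = w := by
      rw [← Module.End.mul_apply, ← map_mul, inv_mul_cancel, map_one, Module.End.one_apply]
    rw [hx, map_smul] at h1
    have he : e ≠ 0 := by
      intro he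
      rw [he, zero_smul] at h1
      exact hw h1.symm
    refine ⟨he, ?_⟩
    calc ρ x⁻¹ w = e⁻¹ • (e • ρ x⁻¹ w) := by rw [smul_smul, inv_mul_cancel₀ he, one_smul]
      _ = e⁻¹ • w := by rw [h1]
  obtain ⟨hc, hg'⟩ := key g c hg
  obtain ⟨hd, hh'⟩ := key h d hh
  simp only [map_mul, Module.End.mul_apply, hh', map_smul, hg', hh, hg, smul_smul]
  have : d⁻¹ * (c⁻¹ * (d * c)) = 1 := by
    field_simp
  rw [this, one_smul]

end Res

section Triv

variable {G : Type*} [Group G] {V : Type*} [AddCommGroup V] [Module ℂ V] [FiniteDimensional ℂ V]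

theorem finrank_le_one_of_trivial (ρ : Representation ℂ G V) (hirr : ρ.IsIrreducible)
    (htriv : ∀ g, ρ g = 1) : finrank ℂ V ≤ 1 := by
  obtain ⟨hV, h⟩ := (Cfsg.Agent.H4.isIrreducible_iff ρ).mp hirr
  obtain ⟨v, hv⟩ := exists_ne (0 : V)
  have h1 := h (Submodule.span ℂ {v}) (by
    intro g w hw
    rw [htriv g]
    exact hw)
  rcases h1 with h1 | h1
  · exfalso
    have : v ∈ Submodule.span ℂ {v} := Submodule.mem_span_singleton_self v
    rw [h1, Submodule.mem_bot] at this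
    exact hv this
  · have h2 : finrank ℂ (Submodule.span ℂ {v}) = 1 := finrank_span_singleton hv
    rw [h1, finrank_top] at h2
    omega

end Triv

end Cfsg.Agent.H44
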