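import Mathlib
import Cfsg.Agent.H44.RepEig

/-!
# Picking an irreducible subrepresentation containing a joint eigenvector
-/

set_option autoImplicit false

namespace Cfsg.Agent.H44

open Module

universe u v

theorem exists_irr_sub_eig {G : Type u} [Group G] [Finite G] {V : Type v} [AddCommGroup V]
    [Module ℂ V] [FiniteDimensional ℂ V] (ρ : Representation ℂ G V) (S : Set (G × ℂ)) (w : V)
    (hw : w ≠ 0) (hS : ∀ p ∈ S, ρ p.1 w = p.2 • w) :
    ∃ U : Subrepresentation ρ, U.toRepresentation.IsIrreducible ∧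
      ∃ w' ∈ U.toSubmodule, w' ≠ 0 ∧ ∀ p ∈ S, ρ p.1 w' = p.2 • w' := by
  classical
  have hne : ∃ n, ∃ U : Subrepresentation ρ,
      (∃ w' ∈ U.toSubmodule, w' ≠ 0 ∧ ∀ p ∈ S, ρ p.1 w' = p.2 • w') ∧
        finrank ℂ U.toSubmodule = n :=
    ⟨_, ⊤, ⟨w, Submodule.mem_top, hw, hS⟩, rfl⟩
  obtain ⟨U, hU, hn⟩ := Nat.find_spec hne
  have hmin : ∀ U' : Subrepresentation ρ,
      (∃ w' ∈ U'.toSubmodule, w' ≠ 0 ∧ ∀ p ∈ S, ρ p.1 w' = p.2 • w') →
      finrank ℂ U.toSubmodule ≤ finrank ℂ U'.toSubmodule :=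
    fun U' hU' => hn ▸ Nat.find_min' hne ⟨U', hU', rfl⟩
  refine ⟨U, ?_, hU⟩
  obtain ⟨w', hw'U, hw'0, hw'S⟩ := hU
  have top_of : ∀ X : Submodule ℂ U.toSubmodule, (∀ g, ∀ x ∈ X, U.toRepresentation g x ∈ X) →
      (∃ x ∈ X, x ≠ 0 ∧ ∀ p ∈ S, U.toRepresentation p.1 x = p.2 • x) → X = ⊤ := by
    intro X hX ⟨x, hxX, hx0, hxS⟩
    let X' : Subrepresentation ρ := ⟨X.map U.toSubmodule.subtype, by
      rintro g _ ⟨y, hy, rfl⟩
      exact ⟨U.toRepresentation g y, hX g y hy, rfl⟩⟩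
    have h1 := hmin X' ⟨(x : V), ⟨x, hxX, rfl⟩, fun h => hx0 (Subtype.ext h), fun p hp => by
      have := congrArg Subtype.val (hxS p hp)
      exact this⟩
    have h2 : finrank ℂ X'.toSubmodule = finrank ℂ X :=
      (Submodule.equivMapOfInjective U.toSubmodule.subtype
        (Submodule.subtype_injective _) X).finrank_eq.symm
    rw [h2] at h1
    exact Submodule.eq_top_of_finrank_eq (le_antisymm (Submodule.finrank_le _) h1)
  rw [Cfsg.Agent.H4.isIrreducible_iff]
  refine ⟨⟨⟨⟨w', hw'U⟩, 0, fun h => hw'0 (congrArg Subtype.val h)⟩⟩, fun U' hU' => ?_⟩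
  haveI := Cfsg.Agent.H4.neZero_card_complex G
  let U's : Subrepresentation U.toRepresentation := ⟨U', fun g v hv => hU' g v hv⟩
  obtain ⟨W's, hW⟩ := exists_isCompl U's
  have hcompl : IsCompl U' W's.toSubmodule := Cfsg.Agent.H4.isCompl_toSubmodule hW
  obtain ⟨u, hu, v, hv, huv⟩ := Submodule.mem_sup.mp
    (show (⟨w', hw'U⟩ : U.toSubmodule) ∈ U' ⊔ W's.toSubmodule by
      rw [hcompl.sup_eq_top]; exact Submodule.mem_top)
  have heig : ∀ p ∈ S, U.toRepresentation p.1 u = p.2 • u ∧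
      U.toRepresentation p.1 v = p.2 • v := by
    intro p hp
    have h1 : U.toRepresentation p.1 (u + v) = p.2 • (u + v) := by
      rw [huv]
      apply Subtype.ext
      exact hw'S p hp
    have h2 : U.toRepresentation p.1 u - p.2 • u ∈ U' :=
      U'.sub_mem (hU' p.1 u hu) (U'.smul_mem _ hu)
    have h3 : U.toRepresentation p.1 v - p.2 • v ∈ W's.toSubmodule :=
      Submodule.sub_mem _ (W's.apply_mem_toSubmodule p.1 hv) (Submodule.smul_mem _ _ hv)
    have h4 : (U.toRepresentation p.1 u - p.2 • u) = -(U.toRepresentation p.1 v - p.2 • v) := by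
      rw [map_add, smul_add] at h1
      rw [eq_neg_iff_add_eq_zero]
      rw [← sub_eq_zero] at h1
      rw [← h1]
      abel
    have h5 : U.toRepresentation p.1 u - p.2 • u ∈ W's.toSubmodule := by
      rw [h4]
      exact Submodule.neg_mem _ h3
    have h6 : U.toRepresentation p.1 u - p.2 • u = 0 :=
      (Submodule.disjoint_def.mp hcompl.disjoint) _ h2 h5
    refine ⟨sub_eq_zero.mp h6, ?_⟩
    rw [h6] at h4
    exact sub_eq_zero.mp (neg_eq_zero.mp h4.symm)
  by_cases hu0 : u = 0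
  · left
    have hv0 : v ≠ 0 := by
      intro hv0
      rw [hu0, hv0, add_zero] at huv
      exact hw'0 (congrArg Subtype.val huv).symm
    have h1 := top_of W's.toSubmodule (fun g x hx => W's.apply_mem_toSubmodule g hx)
      ⟨v, hv, hv0, fun p hp => (heig p hp).2⟩
    have h2 := hcompl.disjoint
    rw [h1] at h2
    exact disjoint_top.mp h2
  · right
    exact top_of U' hU' ⟨u, hu, hu0, fun p hp => (heig p hp).1⟩

end Cfsg.Agent.H44
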