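import Cfsg.Agent.H44.SL2OddH
import Cfsg.Agent.H79.CentralOver

/-!
# The central element `-1` of SL₂(F) and the characters trivial on it (helper44)
-/

set_option autoImplicit false

namespace Cfsg.Agent.H44

open Matrix
open scoped ComplexConjugate

variable {F : Type*} [Field F]

theorem coe_negOne : ((-1 : Matrix.SpecialLinearGroup (Fin 2) F) : Matrix (Fin 2) (Fin 2) F) =
    (-1 : F) • (1 : Matrix (Fin 2) (Fin 2) F) := by
  rw [Matrix.SpecialLinearGroup.coe_neg, Matrix.SpecialLinearGroup.coe_one]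
  simp

theorem scalar_neg_one_eq : Matrix.scalar (Fin 2) (-1 : F) = (-1 : Matrix (Fin 2) (Fin 2) F) := by
  ext i j
  fin_cases i <;> fin_cases j <;> simp

theorem negOne_mem_center :
    (-1 : Matrix.SpecialLinearGroup (Fin 2) F) ∈ Subgroup.center (Matrix.SpecialLinearGroup (Fin 2) F) := by
  rw [Matrix.SpecialLinearGroup.mem_center_iff]
  refine ⟨-1, by simp, ?_⟩
  rw [Matrix.SpecialLinearGroup.coe_neg, Matrix.SpecialLinearGroup.coe_one, scalar_neg_one_eq]

theorem mem_center_SL2 (x : Matrix.SpecialLinearGroup (Fin 2) F) :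
    x ∈ Subgroup.center (Matrix.SpecialLinearGroup (Fin 2) F) ↔ x = 1 ∨ x = -1 := by
  constructor
  · intro hx
    rw [Matrix.SpecialLinearGroup.mem_center_iff] at hx
    obtain ⟨r, hr, hx⟩ := hx
    have hr2 : r ^ 2 = 1 := by simpa using hr
    rcases sq_eq_one_iff.mp hr2 with h | h
    · left
      apply Subtype.ext
      rw [← hx, h]
      simp
    · right
      apply Subtype.ext
      rw [← hx, h, Matrix.SpecialLinearGroup.coe_neg, Matrix.SpecialLinearGroup.coe_one, scalar_neg_one_eq]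
  · rintro (rfl | rfl)
    · exact Subgroup.one_mem _
    · exact negOne_mem_center

theorem negOne_ne_one (h2 : (2 : F) ≠ 0) : (-1 : Matrix.SpecialLinearGroup (Fin 2) F) ≠ 1 := by
  intro h
  have h1 := congrArg (fun m : Matrix.SpecialLinearGroup (Fin 2) F => (m : Matrix (Fin 2) (Fin 2) F) 0 0) h
  simp only [Matrix.SpecialLinearGroup.coe_neg, Matrix.SpecialLinearGroup.coe_one] at h1
  simp at h1
  apply h2
  linear_combination -h1

/-- The central character at `-1` of an irreducible character of SL₂. -/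
theorem irr_neg {χ : Matrix.SpecialLinearGroup (Fin 2) F → ℂ}
    (hirr : Cfsg.IsIrrCharacter (Matrix.SpecialLinearGroup (Fin 2) F) χ) :
    ∃ ω : ℂ, (ω = 1 ∨ ω = -1) ∧ ∀ g, χ (-g) = ω * χ g := by
  obtain ⟨lam, h1, hmul, hχ⟩ := Cfsg.Agent.H79.irr_central_fun ⟨χ, hirr⟩
  have hc := negOne_mem_center (F := F)
  refine ⟨lam (-1), ?_, fun g => ?_⟩
  · have h := hmul (-1) hc (-1) hc
    rw [neg_mul_neg, one_mul, h1] at h
    have h2 : (lam (-1) - 1) * (lam (-1) + 1) = 0 := by linear_combination -h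
    rcases mul_eq_zero.mp h2 with h3 | h3
    · left; linear_combination h3
    · right; linear_combination h3
  · have h := hχ (-1) hc g
    rw [neg_mul, one_mul] at h
    exact h

theorem twistSL_negOne (t : F) (ht : t ≠ 0) :
    twistSL t ht (-1 : Matrix.SpecialLinearGroup (Fin 2) F) = -1 := by
  apply Subtype.ext
  rw [coe_twistSL, Matrix.SpecialLinearGroup.coe_neg, Matrix.SpecialLinearGroup.coe_one]
  ext i j
  fin_cases i <;> fin_cases j <;> simp

variable [Fintype F] [Fintype (Matrix.SpecialLinearGroup (Fin 2) F)]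

theorem psSL_negOne (α : MulChar F ℂ) :
    psSL α (-1 : Matrix.SpecialLinearGroup (Fin 2) F) = ((Fintype.card F : ℂ) + 1) * α (-1) :=
  psSL_scalar α (-1) (-1) coe_negOne

theorem stSL_negOne : stSL (-1 : Matrix.SpecialLinearGroup (Fin 2) F) = (Fintype.card F : ℂ) := by
  unfold stSL
  rw [Pi.sub_apply, psSL_negOne, MulChar.one_apply (isUnit_iff_ne_zero.mpr (neg_ne_zero.mpr one_ne_zero))]
  ring

section WithData

variable {α₀ : MulChar F ℂ} {ξ₁ ξ₂ : Matrix.SpecialLinearGroup (Fin 2) F → ℂ}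

theorem QuadDecomp.negOne (D : QuadDecomp α₀ ξ₁ ξ₂) :
    ξ₁ (-1) = α₀ (-1) * (((Fintype.card F : ℂ) + 1) / 2) ∧
    ξ₂ (-1) = α₀ (-1) * (((Fintype.card F : ℂ) + 1) / 2) := by
  obtain ⟨ε, hε0, -, htw⟩ := D.twist
  have h1 : ξ₂ (-1) = ξ₁ (-1) := by rw [htw (-1), twistSL_negOne]
  have h2 := congrFun D.sum (-1)
  rw [psSL_negOne, Pi.add_apply, h1] at h2
  have h3 : ξ₁ (-1) = α₀ (-1) * (((Fintype.card F : ℂ) + 1) / 2) := by linear_combination -(1 / 2 : ℂ) * h2
  exact ⟨h3, h1.trans h3⟩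

end WithData

variable [Fintype (MulChar F ℂ)] [Fintype (Cfsg.IrrCharacter (Matrix.SpecialLinearGroup (Fin 2) F))]

omit [Fintype (MulChar F ℂ)] [Fintype F] in
/-- Column orthogonality between `-1` and `1`. -/
theorem sum_irr_negOne (h2 : (2 : F) ≠ 0) :
    ∑ χ : Cfsg.IrrCharacter (Matrix.SpecialLinearGroup (Fin 2) F), χ.1 (-1) * conj (χ.1 1) = 0 := by
  have h := Cfsg.Agent.H4.column_orthogonality (-1 : Matrix.SpecialLinearGroup (Fin 2) F) 1
  rw [finsum_eq_sum_of_fintype] at h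
  rw [h]
  have hemp : IsEmpty {c : Matrix.SpecialLinearGroup (Fin 2) F // c * (-1) * c⁻¹ = 1} := by
    refine ⟨fun c => ?_⟩
    have h3 := c.2
    rw [mul_neg, mul_one, neg_mul, mul_inv_cancel] at h3
    exact negOne_ne_one h2 h3
  rw [Nat.card_of_isEmpty]
  simp

open Classical in
omit [Fintype (Matrix.SpecialLinearGroup (Fin 2) F)]
  [Fintype (Cfsg.IrrCharacter (Matrix.SpecialLinearGroup (Fin 2) F))] in
theorem sum_ite_sq_ne_one_apply {α₀ : MulChar F ℂ} (hα : α₀ ^ 2 = 1) (hα1 : α₀ ≠ 1) (a : F) (ha : a ≠ 1)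
    (ha0 : a ≠ 0) (c : ℂ) :
    ∑ α : MulChar F ℂ, (if α ^ 2 ≠ 1 then c * α a else 0) = c * (-1 - α₀ a) := by
  have h1 : ∀ α : MulChar F ℂ, (if α ^ 2 ≠ 1 then c * α a else 0) =
      c * α a - (if α = 1 then c * α a else 0) - (if α = α₀ then c * α a else 0) := by
    intro α
    by_cases h : α = 1
    · subst h
      rw [if_neg (by simp), if_pos rfl, if_neg (Ne.symm hα1)]; ring
    · by_cases h' : α = α₀
      · subst h'
        rw [if_neg (not_not.mpr hα), if_neg h, if_pos rfl]; ring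
      · have h2 : α ^ 2 ≠ 1 := fun h2 => h' (mulChar_quadratic_unique α α₀ h2 h hα hα1)
        rw [if_pos h2, if_neg h, if_neg h']; ring
  rw [Finset.sum_congr rfl fun α _ => h1 α, Finset.sum_sub_distrib, Finset.sum_sub_distrib,
    Finset.sum_ite_eq', Finset.sum_ite_eq', ← Finset.mul_sum, sum_mulChar_apply, if_neg ha,
    if_pos (Finset.mem_univ _), if_pos (Finset.mem_univ _), MulChar.one_apply (isUnit_iff_ne_zero.mpr ha0)]
  ring

section WithData2

variable {α₀ : MulChar F ℂ} {ξ₁ ξ₂ : Matrix.SpecialLinearGroup (Fin 2) F → ℂ}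

open Classical in
theorem sum_cuspidal_negOne (hodd : Odd (Fintype.card F)) (D : QuadDecomp α₀ ξ₁ ξ₂) :
    (∑ χ : Cfsg.IrrCharacter (Matrix.SpecialLinearGroup (Fin 2) F),
      if IsCuspidalSL χ.1 then χ.1 (-1) * conj (χ.1 1) else 0) = -((Fintype.card F : ℂ) - 1) ^ 2 / 2 := by
  have h2 := two_ne_zero_of_odd hodd
  have hne : (-1 : F) ≠ 1 := by
    intro h
    apply h2
    linear_combination -h
  have h := SL2_odd_master D (fun f => f (-1) * conj (f 1))
  simp only [stSL_one, psSL_one, D.deg₁, D.deg₂, stSL_negOne, psSL_negOne, D.negOne.1, D.negOne.2] at h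
  rw [sum_irr_negOne h2] at h
  have h3 : ∀ α : MulChar F ℂ, (if α ^ 2 ≠ 1 then
      ((Fintype.card F : ℂ) + 1) * α (-1) * conj ((Fintype.card F : ℂ) + 1) / 2 else 0) =
      (if α ^ 2 ≠ 1 then (((Fintype.card F : ℂ) + 1) ^ 2 / 2) * α (-1) else 0) := by
    intro α
    by_cases hα : α ^ 2 ≠ 1
    · rw [if_pos hα, if_pos hα, map_add, Complex.conj_natCast, map_one]; ring
    · rw [if_neg hα, if_neg hα]
  rw [Finset.sum_congr rfl fun α _ => h3 α,
    sum_ite_sq_ne_one_apply D.sq D.ne_one (-1) hne (neg_ne_zero.mpr one_ne_zero)] at h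
  simp only [map_one, map_add, map_div₀, Complex.conj_natCast, Complex.conj_ofNat] at h
  linear_combination -h

end WithData2

omit [Fintype F] [Fintype (Matrix.SpecialLinearGroup (Fin 2) F)] [Fintype (MulChar F ℂ)]
  [Fintype (Cfsg.IrrCharacter (Matrix.SpecialLinearGroup (Fin 2) F))] [Field F] in
theorem exists_of_sum_indicator {ι : Type*} [Fintype ι] (P : ι → Prop) [DecidablePred P]
    (h : ∑ x : ι, (if P x then (1 : ℂ) else 0) = 1) :
    ∃ x₀, P x₀ ∧ ∀ f : ι → ℂ, ∑ x : ι, (if P x then f x else 0) = f x₀ := by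
  have hex : ∃ x₀, P x₀ := by
    by_contra hne
    push Not at hne
    rw [Finset.sum_congr rfl fun x _ => if_neg (hne x)] at h
    simp at h
  obtain ⟨x₀, hx₀⟩ := hex
  refine ⟨x₀, hx₀, fun f => ?_⟩
  have huniq := fun x hx => unique_of_sum_indicator P h x x₀ hx hx₀
  rw [Finset.sum_eq_single x₀]
  · rw [if_pos hx₀]
  · intro x _ hne
    rw [if_neg (fun hx => hne (huniq x hx))]
  · intro h'
    exact absurd (Finset.mem_univ _) h'

section WithData3

variable {α₀ : MulChar F ℂ} {ξ₁ ξ₂ : Matrix.SpecialLinearGroup (Fin 2) F → ℂ}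
  {ψ : AddChar F ℂ} {ε : F}

open Classical in
theorem sum_type01 (hodd : Odd (Fintype.card F)) (D : QuadDecomp α₀ ξ₁ ξ₂) (hψ : ψ.IsPrimitive)
    (hε : ¬ IsSquare ε) :
    (∑ χ : Cfsg.IrrCharacter (Matrix.SpecialLinearGroup (Fin 2) F),
      if IsCuspidalSL χ.1 ∧ mU ψ χ.1 = 0 ∧ mU (ψ.mulShift ε) χ.1 = 1 then (1 : ℂ) else 0) = 1 := by
  have hε0 : ε ≠ 0 := by rintro rfl; exact hε IsSquare.zero
  have hψ' := isPrimitive_mulShift hψ hε0
  have h1 : ∀ χ : Cfsg.IrrCharacter (Matrix.SpecialLinearGroup (Fin 2) F),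
      (if IsCuspidalSL χ.1 ∧ mU ψ χ.1 = 0 ∧ mU (ψ.mulShift ε) χ.1 = 1 then (1 : ℂ) else 0) =
      (if IsCuspidalSL χ.1 then mU (ψ.mulShift ε) χ.1 * conj (mU (ψ.mulShift ε) χ.1) else 0) -
      (if IsCuspidalSL χ.1 then mU ψ χ.1 * mU (ψ.mulShift ε) χ.1 else 0) := by
    intro χ
    by_cases hc : IsCuspidalSL χ.1
    · rcases cuspidal_type hodd D hψ hε χ.2 hc with ⟨ha, hb⟩ | ⟨ha, hb⟩ | ⟨ha, hb⟩
      · rw [if_neg (fun h => by rw [h.2.1] at ha; exact zero_ne_one ha), if_pos hc, if_pos hc, ha, hb]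
        simp
      · rw [if_neg (fun h => by rw [h.2.1] at ha; exact zero_ne_one ha), if_pos hc, if_pos hc, ha, hb]
        simp
      · rw [if_pos ⟨hc, ha, hb⟩, if_pos hc, if_pos hc, ha, hb]
        simp
    · rw [if_neg (fun h => hc h.1), if_neg hc, if_neg hc, sub_zero]
  rw [Finset.sum_congr rfl fun χ _ => h1 χ, Finset.sum_sub_distrib, sum_cuspidal_mU_norm hodd D hψ',
    sum_cuspidal_mU_mul hodd D hψ hε]
  ring

open Classical in
/-- For odd `q ≥ 5` there is a cuspidal irreducible character of degree `q - 1` of SL₂ that is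
trivial on the centre. -/
theorem exists_cuspidal_trivial_center (hodd : Odd (Fintype.card F)) (hq : 5 ≤ Fintype.card F)
    (D : QuadDecomp α₀ ξ₁ ξ₂) :
    ∃ χ : Matrix.SpecialLinearGroup (Fin 2) F → ℂ,
      Cfsg.IsIrrCharacter (Matrix.SpecialLinearGroup (Fin 2) F) χ ∧ IsCuspidalSL χ ∧
      χ 1 = (Fintype.card F : ℂ) - 1 ∧ χ (-1) = χ 1 := by
  by_contra hcon
  push Not at hcon
  obtain ⟨ψ, hψ⟩ := exists_primitive_addChar (F := F)
  obtain ⟨ε, hε⟩ := FiniteField.exists_nonsquare (ringChar_ne_two_of_odd hodd)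
  have hq1 := card_sub_one_ne_zero (F := F)
  obtain ⟨χa, hPa, hsa⟩ := exists_of_sum_indicator _ (sum_type10 hodd D hψ hε)
  obtain ⟨χb, hPb, hsb⟩ := exists_of_sum_indicator _ (sum_type01 hodd D hψ hε)
  obtain ⟨ωa, hωa, hna⟩ := irr_neg χa.2
  obtain ⟨ωb, hωb, hnb⟩ := irr_neg χb.2
  have key := sum_cuspidal_negOne hodd D
  have hterm : ∀ χ : Cfsg.IrrCharacter (Matrix.SpecialLinearGroup (Fin 2) F),
      (if IsCuspidalSL χ.1 then χ.1 (-1) * conj (χ.1 1) else 0) =
      -((Fintype.card F : ℂ) - 1) ^ 2 *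
        (if IsCuspidalSL χ.1 ∧ mU ψ χ.1 = 1 ∧ mU (ψ.mulShift ε) χ.1 = 1 then (1 : ℂ) else 0) +
      (if IsCuspidalSL χ.1 ∧ mU ψ χ.1 = 1 ∧ mU (ψ.mulShift ε) χ.1 = 0 then χ.1 (-1) * conj (χ.1 1) else 0) +
      (if IsCuspidalSL χ.1 ∧ mU ψ χ.1 = 0 ∧ mU (ψ.mulShift ε) χ.1 = 1 then χ.1 (-1) * conj (χ.1 1) else 0) := by
    intro χ
    by_cases hc : IsCuspidalSL χ.1
    · rcases cuspidal_values hodd D hψ hε χ.2 hc with ⟨ha, hb, h1, -⟩ | ⟨ha, hb, h1, -⟩ | ⟨ha, hb, h1, -⟩
      · obtain ⟨ω, hω, hn⟩ := irr_neg χ.2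
        have hneg : χ.1 (-1) = ω * χ.1 1 := hn 1
        have hω' : ω = -1 := by
          rcases hω with h | h
          · exfalso
            exact hcon χ.1 χ.2 hc h1 (by rw [hneg, h, one_mul])
          · exact h
        rw [if_pos hc, if_pos ⟨hc, ha, hb⟩,
          if_neg (fun h => by rw [h.2.2] at hb; exact zero_ne_one hb),
          if_neg (fun h => by rw [h.2.1] at ha; exact zero_ne_one ha), hneg, hω', h1,
          map_sub, Complex.conj_natCast, map_one]
        ring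
      · rw [if_pos hc, if_neg (fun h => by rw [h.2.2] at hb; exact one_ne_zero hb),
          if_pos ⟨hc, ha, hb⟩, if_neg (fun h => by rw [h.2.1] at ha; exact zero_ne_one ha)]
        ring
      · rw [if_pos hc, if_neg (fun h => by rw [h.2.1] at ha; exact one_ne_zero ha),
          if_neg (fun h => by rw [h.2.1] at ha; exact one_ne_zero ha), if_pos ⟨hc, ha, hb⟩]
        ring
    · rw [if_neg hc, if_neg (fun h => hc h.1), if_neg (fun h => hc h.1), if_neg (fun h => hc h.1)]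
      ring
  have hsa' := hsa (fun χ => χ.1 (-1) * conj (χ.1 1))
  have hsb' := hsb (fun χ => χ.1 (-1) * conj (χ.1 1))
  beta_reduce at hsa' hsb'
  rw [Finset.sum_congr rfl fun χ _ => hterm χ, Finset.sum_add_distrib, Finset.sum_add_distrib,
    ← Finset.mul_sum, sum_type11 hodd D hψ hε, hsa', hsb'] at key
  have hda : χa.1 1 = ((Fintype.card F : ℂ) - 1) / 2 := by
    rcases cuspidal_values hodd D hψ hε χa.2 hPa.1 with ⟨ha, hb, h1, -⟩ | ⟨ha, hb, h1, -⟩ | ⟨ha, hb, h1, -⟩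
    · exfalso
      rw [hPa.2.2] at hb
      exact zero_ne_one hb
    · exact h1
    · exact h1
  have hdb : χb.1 1 = ((Fintype.card F : ℂ) - 1) / 2 := by
    rcases cuspidal_values hodd D hψ hε χb.2 hPb.1 with ⟨ha, hb, h1, -⟩ | ⟨ha, hb, h1, -⟩ | ⟨ha, hb, h1, -⟩
    · exfalso
      rw [hPb.2.1] at ha
      exact zero_ne_one ha
    · exact h1
    · exact h1
  rw [show χa.1 (-1) = ωa * χa.1 1 from hna 1, show χb.1 (-1) = ωb * χb.1 1 from hnb 1, hda, hdb] at key
  simp only [map_div₀, map_sub, Complex.conj_natCast, map_one, Complex.conj_ofNat] at key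
  have hfin : ∀ c : ℕ, c ≤ 3 → ((Fintype.card F : ℂ) - 1) ^ 2 * ((Fintype.card F : ℂ) - (c : ℂ)) = 0 → False := by
    intro c hc h
    rcases mul_eq_zero.mp h with h | h
    · exact hq1 ((pow_eq_zero_iff (two_ne_zero)).mp h)
    · have h2 : (Fintype.card F : ℂ) = (c : ℂ) := by linear_combination h
      have h3 : Fintype.card F = c := by exact_mod_cast h2
      omega
  rcases hωa with rfl | rfl <;> rcases hωb with rfl | rfl
  · exact hfin 3 (by norm_num) (by push_cast; linear_combination (-2 : ℂ) * key)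
  · exact hfin 2 (by norm_num) (by push_cast; linear_combination (-2 : ℂ) * key)
  · exact hfin 2 (by norm_num) (by push_cast; linear_combination (-2 : ℂ) * key)
  · exact hfin 1 (by norm_num) (by push_cast; linear_combination (-2 : ℂ) * key)

end WithData3

end Cfsg.Agent.H44
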