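import Cfsg.Agent.H44.SL2OddG

/-!
# Irreducible characters of SL₂(F) of a given degree, any characteristic (helper44)
-/

set_option autoImplicit false

namespace Cfsg.Agent.H44

open Matrix
open scoped ComplexConjugate

variable {F : Type*} [Field F] [Fintype F]

theorem charP_two_of_not_odd (h : ¬ Odd (Fintype.card F)) : CharP F 2 := by
  have h2 : ringChar F = 2 := FiniteField.even_card_iff_char_two.mpr (by
    rcases Nat.even_or_odd (Fintype.card F) with he | ho
    · exact Nat.even_iff.mp he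
    · exact absurd ho h)
  exact ringChar.eq_iff.mp h2

variable [Fintype (Matrix.SpecialLinearGroup (Fin 2) F)]

/-- A sum over the upper unitriangular elements. -/
theorem sum_unitriangular [DecidableEq F] (χ : Matrix.SpecialLinearGroup (Fin 2) F → ℂ) :
    (∑ g : Matrix.SpecialLinearGroup (Fin 2) F,
      if (g : Matrix (Fin 2) (Fin 2) F) 1 0 = 0 ∧ (g : Matrix (Fin 2) (Fin 2) F) 0 0 = 1 ∧
        (g : Matrix (Fin 2) (Fin 2) F) 1 1 = 1 then χ g else 0) = ∑ x : F, χ (uSL x) := by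
  rw [← Finset.sum_filter]
  refine Finset.sum_nbij' (fun g => (g : Matrix (Fin 2) (Fin 2) F) 0 1) (fun x => uSL x) ?_ ?_ ?_ ?_ ?_
  · intro g _
    exact Finset.mem_univ _
  · intro x _
    rw [Finset.mem_filter]
    refine ⟨Finset.mem_univ _, ?_, ?_, ?_⟩ <;> simp [coe_uSL, uMat]
  · intro g hg
    rw [Finset.mem_filter] at hg
    obtain ⟨-, h10, h00, h11⟩ := hg
    apply Subtype.ext
    rw [coe_uSL]
    ext i j
    fin_cases i <;> fin_cases j <;> simp [uMat, h10, h00, h11]
  · intro x _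
    simp [coe_uSL, uMat]
  · intro g hg
    rw [Finset.mem_filter] at hg
    obtain ⟨-, h10, h00, h11⟩ := hg
    congr 1
    apply Subtype.ext
    rw [coe_uSL]
    ext i j
    fin_cases i <;> fin_cases j <;> simp [uMat, h10, h00, h11]

variable [Fintype (MulChar F ℂ)] [Fintype (Cfsg.IrrCharacter (Matrix.SpecialLinearGroup (Fin 2) F))]

section Even

variable [CharP F 2]

theorem SL2_even_of_degree_q {χ : Matrix.SpecialLinearGroup (Fin 2) F → ℂ}
    (hirr : Cfsg.IsIrrCharacter (Matrix.SpecialLinearGroup (Fin 2) F) χ)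
    (hd : χ 1 = (Fintype.card F : ℂ)) : χ = stSL := by
  have hq2 : 1 < Fintype.card F := Fintype.one_lt_card
  rcases SL2_even_irr_cases hirr with h | h | ⟨α, hα, h⟩ | ⟨hc, h1, h2⟩
  · exact absurd (by rw [h] at hd; exact hd)
      (ne_of_lin (q := Fintype.card F) (-2) (2) (by push_cast; ring) (by omega) :
        (1 : ℂ) ≠ (Fintype.card F : ℂ))
  · exact h
  · exact absurd (by rw [h, psSL_one] at hd; exact hd)
      (ne_of_lin (q := Fintype.card F) (0) (2) (by push_cast; ring) (by omega) :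
        (Fintype.card F : ℂ) + 1 ≠ (Fintype.card F : ℂ))
  · exact absurd (h1.symm.trans hd)
      (ne_of_lin (q := Fintype.card F) (0) (-2) (by push_cast; ring) (by omega) :
        (Fintype.card F : ℂ) - 1 ≠ (Fintype.card F : ℂ))

theorem SL2_even_of_degree_add_one {χ : Matrix.SpecialLinearGroup (Fin 2) F → ℂ}
    (hirr : Cfsg.IsIrrCharacter (Matrix.SpecialLinearGroup (Fin 2) F) χ)
    (hd : χ 1 = (Fintype.card F : ℂ) + 1) : ∃ α : MulChar F ℂ, α ≠ 1 ∧ χ = psSL α := by
  have hq2 : 1 < Fintype.card F := Fintype.one_lt_card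
  rcases SL2_even_irr_cases hirr with h | h | ⟨α, hα, h⟩ | ⟨hc, h1, h2⟩
  · exact absurd (by rw [h] at hd; exact hd)
      (ne_of_lin (q := Fintype.card F) (-2) (0) (by push_cast; ring) (by omega) :
        (1 : ℂ) ≠ (Fintype.card F : ℂ) + 1)
  · exact absurd (by rw [h, stSL_one] at hd; exact hd)
      (ne_of_lin (q := Fintype.card F) (0) (-2) (by push_cast; ring) (by omega) :
        (Fintype.card F : ℂ) ≠ (Fintype.card F : ℂ) + 1)
  · exact ⟨α, hα, h⟩
  · exact absurd (h1.symm.trans hd)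
      (ne_of_lin (q := Fintype.card F) (0) (-4) (by push_cast; ring) (by omega) :
        (Fintype.card F : ℂ) - 1 ≠ (Fintype.card F : ℂ) + 1)

theorem SL2_even_of_degree_sub_one (hq : 4 ≤ Fintype.card F)
    {χ : Matrix.SpecialLinearGroup (Fin 2) F → ℂ}
    (hirr : Cfsg.IsIrrCharacter (Matrix.SpecialLinearGroup (Fin 2) F) χ)
    (hd : χ 1 = (Fintype.card F : ℂ) - 1) : IsCuspidalSL χ ∧ χ (uSL 1) = -1 := by
  rcases SL2_even_irr_cases hirr with h | h | ⟨α, hα, h⟩ | ⟨hc, h1, h2⟩
  · exact absurd (by rw [h] at hd; exact hd)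
      (ne_of_lin (q := Fintype.card F) (-2) (4) (by push_cast; ring) (by omega) :
        (1 : ℂ) ≠ (Fintype.card F : ℂ) - 1)
  · exact absurd (by rw [h, stSL_one] at hd; exact hd)
      (ne_of_lin (q := Fintype.card F) (0) (2) (by push_cast; ring) (by omega) :
        (Fintype.card F : ℂ) ≠ (Fintype.card F : ℂ) - 1)
  · exact absurd (by rw [h, psSL_one] at hd; exact hd)
      (ne_of_lin (q := Fintype.card F) (0) (4) (by push_cast; ring) (by omega) :
        (Fintype.card F : ℂ) + 1 ≠ (Fintype.card F : ℂ) - 1)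
  · exact ⟨hc, by rw [uSL_eq_triSL']; exact h2⟩

end Even

/-- The irreducible character of degree `q` of SL₂ is the Steinberg character. -/
theorem SL2_of_degree_q {χ : Matrix.SpecialLinearGroup (Fin 2) F → ℂ}
    (hirr : Cfsg.IsIrrCharacter (Matrix.SpecialLinearGroup (Fin 2) F) χ)
    (hd : χ 1 = (Fintype.card F : ℂ)) : χ = stSL := by
  by_cases hodd : Odd (Fintype.card F)
  · obtain ⟨α₀, ξ₁, ξ₂, D⟩ := exists_quadDecomp hodd
    exact SL2_odd_of_degree_q hodd D hirr hd
  · haveI : CharP F 2 := charP_two_of_not_odd hodd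
    exact SL2_even_of_degree_q hirr hd

/-- The irreducible characters of degree `q + 1` of SL₂, `q ≥ 4`, are principal series
characters. -/
theorem SL2_of_degree_add_one (hq : 4 ≤ Fintype.card F) {χ : Matrix.SpecialLinearGroup (Fin 2) F → ℂ}
    (hirr : Cfsg.IsIrrCharacter (Matrix.SpecialLinearGroup (Fin 2) F) χ)
    (hd : χ 1 = (Fintype.card F : ℂ) + 1) : ∃ α : MulChar F ℂ, α ^ 2 ≠ 1 ∧ χ = psSL α := by
  by_cases hodd : Odd (Fintype.card F)
  · obtain ⟨α₀, ξ₁, ξ₂, D⟩ := exists_quadDecomp hodd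
    have hq5 : 5 ≤ Fintype.card F := by
      obtain ⟨k, hk⟩ := hodd
      omega
    exact SL2_odd_of_degree_add_one hodd hq5 D hirr hd
  · haveI : CharP F 2 := charP_two_of_not_odd hodd
    obtain ⟨α, hα, h⟩ := SL2_even_of_degree_add_one hirr hd
    exact ⟨α, fun h2 => hα (mulChar_eq_one_of_sq_even α h2), h⟩

/-- The irreducible characters of degree `q - 1` of SL₂, `q ≥ 4`, are cuspidal. -/
theorem SL2_of_degree_sub_one (hq : 4 ≤ Fintype.card F) {χ : Matrix.SpecialLinearGroup (Fin 2) F → ℂ}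
    (hirr : Cfsg.IsIrrCharacter (Matrix.SpecialLinearGroup (Fin 2) F) χ)
    (hd : χ 1 = (Fintype.card F : ℂ) - 1) : IsCuspidalSL χ ∧ χ (uSL 1) = -1 := by
  by_cases hodd : Odd (Fintype.card F)
  · obtain ⟨α₀, ξ₁, ξ₂, D⟩ := exists_quadDecomp hodd
    have hq5 : 5 ≤ Fintype.card F := by
      obtain ⟨k, hk⟩ := hodd
      omega
    exact SL2_odd_of_degree_sub_one hodd hq5 D hirr hd
  · haveI : CharP F 2 := charP_two_of_not_odd hodd
    exact SL2_even_of_degree_sub_one hq hirr hd

end Cfsg.Agent.H44
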