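import Cfsg.Agent.H44.SL2Lin
import Cfsg.Agent.H44.SL2Classes

/-!
# Irreducible characters of SL₂(F) in characteristic 2 (helper44)
-/

set_option autoImplicit false

namespace Cfsg.Agent.H44

open Matrix
open scoped ComplexConjugate

/-- If `χ(1) + N χ(u) = 0` for an irreducible character, then `χ(1) = m N` and `χ(u) = -m`. -/
theorem degree_of_unip_relation {G : Type*} [Group G] [Finite G] {χ : G → ℂ}
    (hirr : Cfsg.IsIrrCharacter G χ) (u : G) (N : ℕ) (hN : 0 < N) (h : χ 1 + (N : ℂ) * χ u = 0) :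
    ∃ m : ℕ, 0 < m ∧ χ 1 = (m : ℂ) * (N : ℂ) ∧ χ u = -(m : ℂ) := by
  obtain ⟨n, hn, h1⟩ := Cfsg.Agent.H4.irr_one_eq_natCast ⟨χ, hirr⟩
  have h1' : χ 1 = (n : ℂ) := h1
  rw [h1'] at h
  have hint : IsIntegral ℤ (χ u) := by
    obtain ⟨k, ρ, -, rfl⟩ := hirr
    exact Cfsg.Agent.H4.character_isIntegral ρ _
  have hNC : (N : ℂ) ≠ 0 := by exact_mod_cast hN.ne'
  have hNQ : (N : ℚ) ≠ 0 := by exact_mod_cast hN.ne'
  have hval : χ u = ((-(n : ℚ) / (N : ℚ) : ℚ) : ℂ) := by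
    push_cast
    field_simp
    linear_combination h
  rw [hval] at hint
  have hint2 : IsIntegral ℤ (-(n : ℚ) / (N : ℚ) : ℚ) :=
    (isIntegral_algebraMap_iff (algebraMap ℚ ℂ).injective).mp hint
  obtain ⟨z, hz⟩ := IsIntegrallyClosed.isIntegral_iff.mp hint2
  have hz2 : (z : ℚ) * (N : ℚ) = -(n : ℚ) := by
    have : (z : ℚ) = -(n : ℚ) / (N : ℚ) := hz
    rw [this]
    field_simp
  have hz3 : z * (N : ℤ) = -(n : ℤ) := by exact_mod_cast hz2
  have hzneg : z < 0 := by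
    by_contra hcon
    push Not at hcon
    have h3 : (0 : ℤ) ≤ z * (N : ℤ) := mul_nonneg hcon (by omega)
    omega
  obtain ⟨m, hm⟩ := Int.eq_ofNat_of_zero_le (show (0 : ℤ) ≤ -z by omega)
  have hzm : z = -(m : ℤ) := by omega
  have hzC : ((z : ℚ) : ℂ) = -(m : ℂ) := by rw [hzm]; push_cast; ring
  have hzval : ((z : ℚ) : ℂ) = ((-(n : ℚ) / (N : ℚ) : ℚ) : ℂ) := by
    have : (z : ℚ) = -(n : ℚ) / (N : ℚ) := hz
    rw [this]
  refine ⟨m, by omega, ?_, ?_⟩
  · rw [h1']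
    have h6 : ((z : ℚ) : ℂ) * (N : ℂ) = -(n : ℂ) := by
      have : ((((z : ℚ) * (N : ℚ) : ℚ)) : ℂ) = ((-(n : ℚ) : ℚ) : ℂ) := by rw [hz2]
      push_cast at this
      exact this
    rw [hzC] at h6
    linear_combination h6
  · rw [hval, ← hzval, hzC]

variable {F : Type*} [Field F] [Fintype F]

section Even

variable [CharP F 2]

omit [Fintype F] in
theorem sq_eq_one_char_two (a : F) (h : a ^ 2 = 1) : a = 1 := by
  have h20 : (2 : F) = 0 := by exact_mod_cast CharP.cast_eq_zero F 2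
  have h2 : (a - 1) ^ 2 = 0 := by linear_combination h - (a - 1) * h20
  have h3 := pow_eq_zero_iff (two_ne_zero) |>.mp h2
  linear_combination h3

theorem mulChar_eq_one_of_sq_even (α : MulChar F ℂ) (h : α ^ 2 = 1) : α = 1 := by
  ext a
  obtain ⟨b, hb⟩ := FiniteField.isSquare_of_char_two (ringChar_eq_two_of_charP (F := F)) (a : F)
  have hb0 : IsUnit b := by
    rw [isUnit_iff_ne_zero]
    rintro rfl
    simp at hb
  rw [hb, map_mul, MulChar.one_apply (hb0.mul hb0), ← pow_two, ← MulChar.pow_apply' α two_ne_zero, h,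
    MulChar.one_apply hb0]

omit [Fintype F] in
theorem triSL'_nonScalar_even (a : Fˣ) (ha : a ≠ 1) (x : F) :
    NonScalar (triSL' a x : Matrix (Fin 2) (Fin 2) F) := by
  right; right
  rw [triSL'_00, triSL'_11]
  intro h
  apply ha
  apply Units.ext
  rw [Units.val_one]
  apply sq_eq_one_char_two
  rw [pow_two]
  nth_rw 2 [h]
  simp

omit [Fintype F] in
theorem triSL'_trace (a : Fˣ) (x : F) :
    (triSL' a x : Matrix (Fin 2) (Fin 2) F).trace = (a : F) + ((a⁻¹ : Fˣ) : F) := by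
  rw [Matrix.trace_fin_two, triSL'_00, triSL'_11]

theorem triSL'_isConj_even (a : Fˣ) (ha : a ≠ 1) (x : F) : IsConj (triSL' a x) (triSL' a 0) :=
  SL2_isConj_of_trace_char_two _ _ (triSL'_nonScalar_even a ha x) (triSL'_nonScalar_even a ha 0)
    (by rw [triSL'_trace, triSL'_trace])

theorem triSL'_one_isConj_even (x : F) (hx : x ≠ 0) : IsConj (triSL' 1 x) (triSL' (1 : Fˣ) (1 : F)) := by
  apply SL2_isConj_of_trace_char_two
  · left; rw [triSL'_01]; exact hx
  · left; rw [triSL'_01]; exact one_ne_zero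
  · rw [triSL'_trace, triSL'_trace]

variable [Fintype (Matrix.SpecialLinearGroup (Fin 2) F)]

theorem cuspidalSL_diag_even {χ : Matrix.SpecialLinearGroup (Fin 2) F → ℂ}
    (hχ : Cfsg.IsClassFunction (Matrix.SpecialLinearGroup (Fin 2) F) χ) (hc : IsCuspidalSL χ)
    (a : Fˣ) (ha : a ≠ 1) : χ (triSL' a 0) = 0 := by
  have h := cuspidalSL_sum_triSL' hχ hc a
  have h1 : ∀ x, χ (triSL' a x) = χ (triSL' a 0) := fun x =>
    Cfsg.Agent.H4.isClassFunction_iff_isConj.mp hχ _ _ (triSL'_isConj_even a ha x)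
  rw [Finset.sum_congr rfl fun x _ => h1 x, Finset.sum_const, Finset.card_univ, nsmul_eq_mul] at h
  rcases mul_eq_zero.mp h with h2 | h2
  · exact absurd h2 card_ne_zero_complex
  · exact h2

theorem cuspidalSL_unip_even {χ : Matrix.SpecialLinearGroup (Fin 2) F → ℂ}
    (hχ : Cfsg.IsClassFunction (Matrix.SpecialLinearGroup (Fin 2) F) χ) (hc : IsCuspidalSL χ) :
    χ (triSL' 1 0) + ((Fintype.card F - 1 : ℕ) : ℂ) * χ (triSL' 1 1) = 0 := by
  classical
  have h := cuspidalSL_sum_triSL' hχ hc 1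
  rw [← Finset.add_sum_erase _ _ (Finset.mem_univ (0 : F))] at h
  have h1 : ∀ x ∈ Finset.univ.erase (0 : F), χ (triSL' 1 x) = χ (triSL' 1 1) := fun x hx =>
    Cfsg.Agent.H4.isClassFunction_iff_isConj.mp hχ _ _ (triSL'_one_isConj_even x (Finset.ne_of_mem_erase hx))
  rw [Finset.sum_congr rfl h1, Finset.sum_const, Finset.card_erase_of_mem (Finset.mem_univ _),
    Finset.card_univ, nsmul_eq_mul] at h
  exact h

end Even

omit [Fintype F] in
theorem triSL'_one_zero : triSL' (1 : Fˣ) (0 : F) = 1 := by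
  apply Subtype.ext
  rw [coe_triSL']
  ext i j
  fin_cases i <;> fin_cases j <;> simp

section Even2

variable [CharP F 2] [Fintype (Matrix.SpecialLinearGroup (Fin 2) F)]

theorem cuspidalSL_degree_even {χ : Matrix.SpecialLinearGroup (Fin 2) F → ℂ}
    (hirr : Cfsg.IsIrrCharacter (Matrix.SpecialLinearGroup (Fin 2) F) χ) (hc : IsCuspidalSL χ) :
    ∃ m : ℕ, 0 < m ∧ χ 1 = (m : ℂ) * ((Fintype.card F : ℂ) - 1) ∧ χ (triSL' 1 1) = -(m : ℂ) := by
  have hχ : Cfsg.IsClassFunction (Matrix.SpecialLinearGroup (Fin 2) F) χ :=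
    Cfsg.Agent.H4.isClassFunction_of_isCharacter (Cfsg.Agent.H4.isCharacter_of_isIrrCharacter hirr)
  have hu := cuspidalSL_unip_even hχ hc
  rw [triSL'_one_zero] at hu
  have hq : 2 ≤ Fintype.card F := Fintype.one_lt_card
  obtain ⟨m, hm, h1, h2⟩ := degree_of_unip_relation hirr (triSL' 1 1) (Fintype.card F - 1) (by omega) hu
  refine ⟨m, hm, ?_, h2⟩
  rw [h1, Nat.cast_sub Fintype.card_pos, Nat.cast_one]

/-- A non-cuspidal irreducible character of SL₂ in characteristic 2. -/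
theorem irr_of_not_cuspidalSL_even {χ : Matrix.SpecialLinearGroup (Fin 2) F → ℂ}
    (hirr : Cfsg.IsIrrCharacter (Matrix.SpecialLinearGroup (Fin 2) F) χ) (hc : ¬ IsCuspidalSL χ) :
    χ = (fun _ => (1 : ℂ)) ∨ χ = stSL ∨ (∃ α : MulChar F ℂ, α ≠ 1 ∧ χ = psSL α) := by
  unfold IsCuspidalSL at hc
  push Not at hc
  obtain ⟨α, h⟩ := hc
  by_cases hα : α = 1
  · subst hα
    rw [psSL_one_eq, Cfsg.Agent.H4.classInner_add_left] at h
    by_cases h1 : Cfsg.classInner (fun _ : Matrix.SpecialLinearGroup (Fin 2) F => (1 : ℂ)) χ = 0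
    · rw [h1, zero_add] at h
      exact Or.inr (Or.inl (eq_of_irr_inner_ne_zero isIrrCharacter_stSL hirr h))
    · exact Or.inl (eq_of_irr_inner_ne_zero Cfsg.Agent.H4.isIrrCharacter_one hirr h1)
  · have h2 : α ^ 2 ≠ 1 := fun h2 => hα (mulChar_eq_one_of_sq_even α h2)
    exact Or.inr (Or.inr ⟨α, hα, eq_of_irr_inner_ne_zero ((isIrrCharacter_psSL_iff α).mpr h2) hirr h⟩)

variable [Fintype (MulChar F ℂ)] [Fintype (Cfsg.IrrCharacter (Matrix.SpecialLinearGroup (Fin 2) F))]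

open Classical in
/-- The master formula for SL₂ in characteristic 2. -/
theorem SL2_even_master (h : (Matrix.SpecialLinearGroup (Fin 2) F → ℂ) → ℂ) :
    ∑ χ : Cfsg.IrrCharacter (Matrix.SpecialLinearGroup (Fin 2) F), h χ.1 =
      (∑ χ : Cfsg.IrrCharacter (Matrix.SpecialLinearGroup (Fin 2) F), if IsCuspidalSL χ.1 then h χ.1 else 0) +
      ((h (fun _ => (1 : ℂ)) + h stSL) +
      ∑ α : MulChar F ℂ, (if α ≠ 1 then h (psSL α) / 2 else 0)) := by
  set H' : Cfsg.IrrCharacter (Matrix.SpecialLinearGroup (Fin 2) F) → ℂ := fun χ => h χ.1 / nSL χ.1 with hH'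
  have h1 : ∀ χ : Cfsg.IrrCharacter (Matrix.SpecialLinearGroup (Fin 2) F),
      h χ.1 = (if IsCuspidalSL χ.1 then h χ.1 else 0) + nSL χ.1 * H' χ := by
    intro χ
    by_cases hc : IsCuspidalSL χ.1
    · rw [if_pos hc, nSL_cuspidal hc, zero_mul, add_zero]
    · rw [if_neg hc, zero_add]
      have hn : nSL χ.1 ≠ 0 := by
        rcases irr_of_not_cuspidalSL_even χ.2 hc with hα | hα | ⟨α, -, hα⟩
        · rw [hα, nSL_one]; exact one_ne_zero
        · rw [hα, nSL_stSL]; exact one_ne_zero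
        · rw [hα, nSL_psSL]; exact two_ne_zero
      rw [hH']
      field_simp
  rw [Finset.sum_congr rfl fun χ _ => h1 χ, Finset.sum_add_distrib]
  congr 1
  have h2 : ∑ χ : Cfsg.IrrCharacter (Matrix.SpecialLinearGroup (Fin 2) F), nSL χ.1 * H' χ =
      ∑ α : MulChar F ℂ, ∑ χ : Cfsg.IrrCharacter (Matrix.SpecialLinearGroup (Fin 2) F),
        Cfsg.classInner (psSL α) χ.1 * H' χ := by
    unfold nSL
    simp_rw [Finset.sum_mul]
    rw [Finset.sum_comm]
  rw [h2]
  have h3 : ∀ α : MulChar F ℂ, ∑ χ : Cfsg.IrrCharacter (Matrix.SpecialLinearGroup (Fin 2) F),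
      Cfsg.classInner (psSL α) χ.1 * H' χ =
        (if α = 1 then h (fun _ => (1 : ℂ)) + h stSL else 0) + (if α ≠ 1 then h (psSL α) / 2 else 0) := by
    intro α
    by_cases hα : α = 1
    · subst hα
      rw [if_pos rfl, if_neg (by simp), add_zero, psSL_one_eq]
      simp_rw [Cfsg.Agent.H4.classInner_add_left, add_mul]
      rw [Finset.sum_add_distrib, sum_irr_inner_mul Cfsg.Agent.H4.isIrrCharacter_one,
        sum_irr_inner_mul isIrrCharacter_stSL]
      simp only [hH', nSL_one, nSL_stSL, div_one]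
    · have h2 : α ^ 2 ≠ 1 := fun h2 => hα (mulChar_eq_one_of_sq_even α h2)
      rw [if_neg hα, if_pos hα, zero_add, sum_irr_inner_mul ((isIrrCharacter_psSL_iff α).mpr h2)]
      simp only [hH', nSL_psSL]
  rw [Finset.sum_congr rfl fun α _ => h3 α, Finset.sum_add_distrib]
  congr 1
  rw [Finset.sum_ite_eq']
  simp

end Even2

theorem sum_ite_ne_const' {ι : Type*} [Fintype ι] (a₀ : ι) (c : ℂ) [∀ b, Decidable (b ≠ a₀)] :
    ∑ b : ι, (if b ≠ a₀ then c else 0) = ((Fintype.card ι : ℂ) - 1) * c := by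
  classical
  have h1 : ∀ b : ι, (if b ≠ a₀ then c else 0) = c - (if b = a₀ then c else 0) := by
    intro b
    by_cases h : b = a₀
    · subst h; simp
    · rw [if_pos h, if_neg h, sub_zero]
  rw [Finset.sum_congr rfl fun b _ => h1 b, Finset.sum_sub_distrib, Finset.sum_const, Finset.card_univ,
    Finset.sum_ite_eq']
  simp
  ring

section Count

variable [Fintype (Matrix.SpecialLinearGroup (Fin 2) F)]
  [Fintype (Cfsg.IrrCharacter (Matrix.SpecialLinearGroup (Fin 2) F))]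

theorem sum_irr_sq_SL2 :
    ∑ χ : Cfsg.IrrCharacter (Matrix.SpecialLinearGroup (Fin 2) F), χ.1 1 ^ 2 =
      (Fintype.card F : ℂ) * ((Fintype.card F : ℂ) ^ 2 - 1) := by
  have h := Cfsg.Agent.H4.sum_irr_sq (G := Matrix.SpecialLinearGroup (Fin 2) F)
  rw [finsum_eq_sum_of_fintype] at h
  rw [h, card_SL2]
  have h1 : 1 ≤ Fintype.card F ^ 2 := Nat.one_le_pow _ _ Fintype.card_pos
  rw [Nat.cast_mul, Nat.cast_sub h1]
  push_cast
  ring

variable [CharP F 2] [Fintype (MulChar F ℂ)]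

omit [Fintype (MulChar F ℂ)] in
theorem card_irr_SL2_even :
    (Fintype.card (Cfsg.IrrCharacter (Matrix.SpecialLinearGroup (Fin 2) F)) : ℂ) = (Fintype.card F : ℂ) + 1 := by
  have h := Cfsg.Agent.H4.card_irr_eq_card_conjClasses (G := Matrix.SpecialLinearGroup (Fin 2) F)
  rw [card_conjClasses_SL2_even, Nat.card_eq_fintype_card] at h
  rw [h]
  push_cast
  ring

open Classical in
theorem card_cuspidal_SL2_even :
    (∑ χ : Cfsg.IrrCharacter (Matrix.SpecialLinearGroup (Fin 2) F), if IsCuspidalSL χ.1 then (1 : ℂ) else 0) =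
      (Fintype.card F : ℂ) / 2 := by
  have h := SL2_even_master (F := F) (fun _ => (1 : ℂ))
  simp only [Finset.sum_const, Finset.card_univ, nsmul_eq_mul, mul_one] at h
  rw [card_irr_SL2_even, sum_ite_ne_const', card_mulChar_cast] at h
  linear_combination -h

open Classical in
theorem sum_cuspidal_sq_SL2_even :
    (∑ χ : Cfsg.IrrCharacter (Matrix.SpecialLinearGroup (Fin 2) F), if IsCuspidalSL χ.1 then χ.1 1 ^ 2 else 0) =
      (Fintype.card F : ℂ) * ((Fintype.card F : ℂ) - 1) ^ 2 / 2 := by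
  have h := SL2_even_master (F := F) (fun f => f 1 ^ 2)
  simp only [stSL_one, psSL_one] at h
  rw [sum_irr_sq_SL2, sum_ite_ne_const', card_mulChar_cast] at h
  linear_combination -h

/-- Every cuspidal irreducible character of SL₂ in characteristic 2 has degree `q - 1`. -/
theorem cuspidalSL_degree_eq_even {χ : Matrix.SpecialLinearGroup (Fin 2) F → ℂ}
    (hirr : Cfsg.IsIrrCharacter (Matrix.SpecialLinearGroup (Fin 2) F) χ)
    (hc : IsCuspidalSL χ) : χ 1 = (Fintype.card F : ℂ) - 1 ∧ χ (triSL' 1 1) = -1 := by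
  classical
  have hex : ∀ ψ : Cfsg.IrrCharacter (Matrix.SpecialLinearGroup (Fin 2) F), ∃ m : ℕ, IsCuspidalSL ψ.1 →
      (0 < m ∧ ψ.1 1 = (m : ℂ) * ((Fintype.card F : ℂ) - 1) ∧ ψ.1 (triSL' 1 1) = -(m : ℂ)) := by
    intro ψ
    by_cases hψ : IsCuspidalSL ψ.1
    · obtain ⟨m, hm⟩ := cuspidalSL_degree_even ψ.2 hψ
      exact ⟨m, fun _ => hm⟩
    · exact ⟨0, fun h => absurd h hψ⟩
  choose m hm using hex
  set k : Cfsg.IrrCharacter (Matrix.SpecialLinearGroup (Fin 2) F) → ℕ :=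
    fun ψ => if IsCuspidalSL ψ.1 then m ψ ^ 2 - 1 else 0 with hk
  have hq1 := card_sub_one_ne_zero (F := F)
  have hkC : ∀ ψ : Cfsg.IrrCharacter (Matrix.SpecialLinearGroup (Fin 2) F),
      (k ψ : ℂ) * ((Fintype.card F : ℂ) - 1) ^ 2 =
      (if IsCuspidalSL ψ.1 then ψ.1 1 ^ 2 else 0) -
        ((Fintype.card F : ℂ) - 1) ^ 2 * (if IsCuspidalSL ψ.1 then (1 : ℂ) else 0) := by
    intro ψ
    by_cases hψ : IsCuspidalSL ψ.1
    · obtain ⟨hpos, h1, -⟩ := hm ψ hψ
      have h2 : 1 ≤ m ψ ^ 2 := Nat.one_le_pow _ _ hpos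
      simp only [hk, if_pos hψ]
      rw [Nat.cast_sub h2, h1]
      push_cast
      ring
    · simp only [hk, if_neg hψ]
      simp
  have hsum : ∑ ψ : Cfsg.IrrCharacter (Matrix.SpecialLinearGroup (Fin 2) F),
      (k ψ : ℂ) * ((Fintype.card F : ℂ) - 1) ^ 2 = 0 := by
    rw [Finset.sum_congr rfl fun ψ _ => hkC ψ, Finset.sum_sub_distrib, ← Finset.mul_sum,
      sum_cuspidal_sq_SL2_even, card_cuspidal_SL2_even]
    ring
  rw [← Finset.sum_mul] at hsum
  have hsum2 : ∑ ψ : Cfsg.IrrCharacter (Matrix.SpecialLinearGroup (Fin 2) F), (k ψ : ℂ) = 0 := by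
    rcases mul_eq_zero.mp hsum with h | h
    · exact h
    · exact absurd ((pow_eq_zero_iff (by norm_num)).mp h) hq1
  have hsum3 : ∑ ψ : Cfsg.IrrCharacter (Matrix.SpecialLinearGroup (Fin 2) F), k ψ = 0 := by
    have : ((∑ ψ : Cfsg.IrrCharacter (Matrix.SpecialLinearGroup (Fin 2) F), k ψ : ℕ) : ℂ) = 0 := by
      rw [Nat.cast_sum]; exact hsum2
    exact_mod_cast this
  have hk0 : k ⟨χ, hirr⟩ = 0 := (Finset.sum_eq_zero_iff.mp hsum3) ⟨χ, hirr⟩ (Finset.mem_univ _)
  obtain ⟨hpos, h1, h2⟩ := hm ⟨χ, hirr⟩ hc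
  have hm1 : m ⟨χ, hirr⟩ = 1 := by
    simp only [hk, if_pos hc] at hk0
    have h3 : m ⟨χ, hirr⟩ ^ 2 ≤ 1 := by omega
    have h4 : m ⟨χ, hirr⟩ ≤ 1 := by
      by_contra h5
      push Not at h5
      have : 2 ^ 2 ≤ m ⟨χ, hirr⟩ ^ 2 := Nat.pow_le_pow_left h5 2
      omega
    omega
  rw [hm1] at h1 h2
  refine ⟨?_, ?_⟩
  · refine h1.trans ?_; simp
  · refine h2.trans ?_; simp

/-- Classification of the irreducible characters of SL₂ in characteristic 2. -/
theorem SL2_even_irr_cases {χ : Matrix.SpecialLinearGroup (Fin 2) F → ℂ}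
    (hirr : Cfsg.IsIrrCharacter (Matrix.SpecialLinearGroup (Fin 2) F) χ) :
    χ = (fun _ => (1 : ℂ)) ∨ χ = stSL ∨ (∃ α : MulChar F ℂ, α ≠ 1 ∧ χ = psSL α) ∨
      (IsCuspidalSL χ ∧ χ 1 = (Fintype.card F : ℂ) - 1 ∧ χ (triSL' 1 1) = -1) := by
  by_cases hc : IsCuspidalSL χ
  · exact Or.inr (Or.inr (Or.inr ⟨hc, cuspidalSL_degree_eq_even hirr hc⟩))
  · rcases irr_of_not_cuspidalSL_even hirr hc with h | h | h
    · exact Or.inl h
    · exact Or.inr (Or.inl h)
    · exact Or.inr (Or.inr (Or.inl h))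

open Classical in
/-- The number of irreducible characters of SL₂ of a given degree, characteristic 2. -/
theorem SL2_even_degree_count (c : ℂ) :
    (∑ χ : Cfsg.IrrCharacter (Matrix.SpecialLinearGroup (Fin 2) F), if χ.1 1 = c then (1 : ℂ) else 0) =
      (if (Fintype.card F : ℂ) - 1 = c then (Fintype.card F : ℂ) / 2 else 0) +
      (((if (1 : ℂ) = c then 1 else 0) + (if (Fintype.card F : ℂ) = c then 1 else 0)) +
      (if (Fintype.card F : ℂ) + 1 = c then ((Fintype.card F : ℂ) - 2) / 2 else 0)) := by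
  have h := SL2_even_master (F := F) (fun f => if f 1 = c then (1 : ℂ) else 0)
  simp only [stSL_one, psSL_one] at h
  rw [h]
  congr 1
  · have h1 : ∀ χ : Cfsg.IrrCharacter (Matrix.SpecialLinearGroup (Fin 2) F),
        (if IsCuspidalSL χ.1 then (if χ.1 1 = c then (1 : ℂ) else 0) else 0) =
          (if (Fintype.card F : ℂ) - 1 = c then (1 : ℂ) else 0) * (if IsCuspidalSL χ.1 then (1 : ℂ) else 0) := by
      intro χ
      by_cases hc : IsCuspidalSL χ.1
      · rw [if_pos hc, if_pos hc, mul_one, (cuspidalSL_degree_eq_even χ.2 hc).1]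
      · rw [if_neg hc, if_neg hc, mul_zero]
    rw [Finset.sum_congr rfl fun χ _ => h1 χ, ← Finset.mul_sum, card_cuspidal_SL2_even]
    split_ifs <;> simp
  · congr 1
    rw [sum_ite_ne_const', card_mulChar_cast]
    split_ifs <;> ring

end Count

end Cfsg.Agent.H44
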