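import Cfsg.Agent.H44.GL2Count
import Cfsg.Agent.H4.PaQb

/-!
# Trivial and Steinberg characters of SL₂(F), cuspidality (helper44)
-/

set_option autoImplicit false

namespace Cfsg.Agent.H44

open Matrix
open scoped ComplexConjugate

theorem card_mulChar_cast {F : Type*} [Field F] [Fintype F] [Fintype (MulChar F ℂ)] :
    (Fintype.card (MulChar F ℂ) : ℂ) = (Fintype.card F : ℂ) - 1 := by
  rw [card_mulChar, Nat.cast_sub Fintype.card_pos, Nat.cast_one]

variable {F : Type*} [Field F] [Fintype F] [Fintype (Matrix.SpecialLinearGroup (Fin 2) F)]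

/-- Frobenius reciprocity for the principal series of SL₂, written out on the Borel subgroup. -/
theorem classInner_psSL_left [Fintype Fˣ] (α : MulChar F ℂ) (χ : Matrix.SpecialLinearGroup (Fin 2) F → ℂ)
    (hχ : Cfsg.IsClassFunction (Matrix.SpecialLinearGroup (Fin 2) F) χ) :
    Cfsg.classInner (psSL α) χ =
      ((Fintype.card F : ℂ) * ((Fintype.card F : ℂ) - 1))⁻¹ *
        ∑ a : Fˣ, α (a : F) * conj (∑ x : F, χ (triSL' a x)) := by
  classical
  letI : Fintype (borelSL F) := Fintype.ofFinite _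
  unfold psSL
  rw [Cfsg.Agent.H4.frobenius_reciprocity _ _ _ hχ]
  unfold Cfsg.classInner
  congr 1
  · rw [Nat.card_congr borelSLEquiv, Nat.card_prod, Nat.card_units, Nat.card_eq_fintype_card]
    push_cast [Nat.cast_sub (Fintype.card_pos (α := F))]
    ring
  · rw [← Equiv.sum_comp (borelSLEquiv (F := F)).symm, Fintype.sum_prod_type]
    refine Finset.sum_congr rfl fun a _ => ?_
    rw [map_sum, Finset.mul_sum]
    refine Finset.sum_congr rfl fun x _ => ?_
    beta_reduce
    rw [coe_borelSLEquiv_symm, triSL'_00]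

omit [Fintype (Matrix.SpecialLinearGroup (Fin 2) F)] in
theorem sum_units_mulChar [Fintype Fˣ] [DecidableEq (MulChar F ℂ)] (α : MulChar F ℂ) :
    ∑ a : Fˣ, α (a : F) = if α = 1 then ((Fintype.card F : ℂ) - 1) else 0 := by
  classical
  have h := mulChar_orth α (1 : MulChar F ℂ)
  have h1 : ∀ a : Fˣ, α (a : F) * conj ((1 : MulChar F ℂ) (a : F)) = α (a : F) := by
    intro a
    rw [MulChar.one_apply a.isUnit, map_one, mul_one]
  rw [Finset.sum_congr rfl fun a _ => h1 a] at h
  rw [h, ← Nat.card_eq_fintype_card, Nat.card_units, Nat.card_eq_fintype_card,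
    Nat.cast_sub Fintype.card_pos, Nat.cast_one]
  by_cases h2 : α = 1
  · rw [if_pos h2, if_pos h2]
  · rw [if_neg h2, if_neg h2]

open Classical in
theorem classInner_psSL_one (α : MulChar F ℂ) :
    Cfsg.classInner (psSL α) (fun _ : Matrix.SpecialLinearGroup (Fin 2) F => (1 : ℂ)) =
      if α = 1 then 1 else 0 := by
  rw [classInner_psSL_left α _ (fun _ _ => rfl)]
  have h1 : ∀ a : Fˣ, α (a : F) * conj (∑ x : F, (1 : ℂ)) = (Fintype.card F : ℂ) * α (a : F) := by
    intro a
    rw [Finset.sum_const, Finset.card_univ, nsmul_eq_mul, mul_one, Complex.conj_natCast]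
    ring
  rw [Finset.sum_congr rfl fun a _ => h1 a, ← Finset.mul_sum, sum_units_mulChar]
  have hq := card_ne_zero_complex (F := F)
  have hq1 := card_sub_one_ne_zero (F := F)
  split_ifs
  · field_simp
  · simp

/-- The Steinberg character of SL₂. -/
noncomputable def stSL : Matrix.SpecialLinearGroup (Fin 2) F → ℂ :=
  psSL 1 - fun _ => (1 : ℂ)

theorem psSL_one_eq : psSL (1 : MulChar F ℂ) = (fun _ : Matrix.SpecialLinearGroup (Fin 2) F => (1 : ℂ)) + stSL := by
  unfold stSL; ring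

theorem isIrrCharacter_stSL : Cfsg.IsIrrCharacter (Matrix.SpecialLinearGroup (Fin 2) F) (stSL (F := F)) := by
  classical
  have hone : Cfsg.IsIrrCharacter (Matrix.SpecialLinearGroup (Fin 2) F) (fun _ => (1 : ℂ)) :=
    Cfsg.Agent.H4.isIrrCharacter_one
  have h1 : Cfsg.classInner (psSL (1 : MulChar F ℂ)) (fun _ : Matrix.SpecialLinearGroup (Fin 2) F => (1 : ℂ)) = 1 := by
    rw [classInner_psSL_one]; simp
  have h2 : Cfsg.classInner (fun _ : Matrix.SpecialLinearGroup (Fin 2) F => (1 : ℂ)) (psSL (1 : MulChar F ℂ)) = 1 := by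
    rw [← Cfsg.Agent.H4.classInner_conj_symm, h1, map_one]
  have hchar : Cfsg.IsCharacter (Matrix.SpecialLinearGroup (Fin 2) F) (stSL (F := F)) :=
    Cfsg.Agent.H4.isCharacter_sub_irr (isCharacter_psSL 1) ⟨_, hone⟩ (by rw [h1]; exact one_ne_zero)
  apply Cfsg.Agent.H4.isIrrCharacter_of_norm_one hchar
  unfold stSL
  rw [Cfsg.Agent.H4.classInner_sub_left, Cfsg.Agent.H4.classInner_sub_right,
    Cfsg.Agent.H4.classInner_sub_right, classInner_psSL, h1, h2,
    Cfsg.Agent.H4.irr_inner_self ⟨_, hone⟩]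
  simp

open Classical in
theorem classInner_psSL_stSL (α : MulChar F ℂ) :
    Cfsg.classInner (psSL α) (stSL (F := F)) = if α = 1 then 1 else 0 := by
  unfold stSL
  rw [Cfsg.Agent.H4.classInner_sub_right, classInner_psSL, classInner_psSL_one, mul_one]
  split_ifs <;> norm_num

theorem stSL_one : stSL (F := F) 1 = (Fintype.card F : ℂ) := by
  unfold stSL
  rw [Pi.sub_apply, psSL_one]
  ring

theorem stSL_diag (g : Matrix.SpecialLinearGroup (Fin 2) F)
    (h01 : (g : Matrix (Fin 2) (Fin 2) F) 0 1 = 0) (h10 : (g : Matrix (Fin 2) (Fin 2) F) 1 0 = 0)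
    (hne : (g : Matrix (Fin 2) (Fin 2) F) 0 0 ≠ (g : Matrix (Fin 2) (Fin 2) F) 1 1) :
    stSL g = 1 := by
  have h := borelSL_entries g h10
  have h00 : (g : Matrix (Fin 2) (Fin 2) F) 0 0 ≠ 0 := left_ne_zero_of_mul_eq_one h
  have h11 : (g : Matrix (Fin 2) (Fin 2) F) 1 1 ≠ 0 := right_ne_zero_of_mul_eq_one h
  unfold stSL
  rw [Pi.sub_apply, psSL_diag 1 g h01 h10 hne, MulChar.one_apply (isUnit_iff_ne_zero.mpr h00),
    MulChar.one_apply (isUnit_iff_ne_zero.mpr h11)]
  ring

theorem stSL_elliptic (g : Matrix.SpecialLinearGroup (Fin 2) F)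
    (hg : Elliptic (g : Matrix (Fin 2) (Fin 2) F)) : stSL g = -1 := by
  unfold stSL
  rw [Pi.sub_apply, psSL_elliptic 1 g hg, zero_sub]

theorem stSL_jordan (g : Matrix.SpecialLinearGroup (Fin 2) F)
    (h10 : (g : Matrix (Fin 2) (Fin 2) F) 1 0 = 0)
    (h00 : (g : Matrix (Fin 2) (Fin 2) F) 0 0 = (g : Matrix (Fin 2) (Fin 2) F) 1 1)
    (h01 : (g : Matrix (Fin 2) (Fin 2) F) 0 1 ≠ 0) : stSL g = 0 := by
  have h := borelSL_entries g h10
  have h00' : (g : Matrix (Fin 2) (Fin 2) F) 0 0 ≠ 0 := left_ne_zero_of_mul_eq_one h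
  unfold stSL
  rw [Pi.sub_apply, psSL_jordan 1 g h10 h00 h01, MulChar.one_apply (isUnit_iff_ne_zero.mpr h00'), sub_self]

/-- A function on SL₂ is cuspidal if it is orthogonal to all principal series. -/
def IsCuspidalSL (χ : Matrix.SpecialLinearGroup (Fin 2) F → ℂ) : Prop :=
  ∀ α : MulChar F ℂ, Cfsg.classInner (psSL α) χ = 0

theorem cuspidalSL_sum_triSL' {χ : Matrix.SpecialLinearGroup (Fin 2) F → ℂ}
    (hχ : Cfsg.IsClassFunction (Matrix.SpecialLinearGroup (Fin 2) F) χ)
    (hc : IsCuspidalSL χ) (a : Fˣ) : ∑ x : F, χ (triSL' a x) = 0 := by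
  classical
  have h := eq_zero_of_sum_mulChar_mul (fun a => conj (∑ x : F, χ (triSL' a x))) ?_ a
  · exact (map_eq_zero _).mp h
  · intro α
    have h1 := hc α
    rw [classInner_psSL_left α χ hχ] at h1
    rcases mul_eq_zero.mp h1 with h2 | h2
    · exfalso
      rw [inv_eq_zero] at h2
      rcases mul_eq_zero.mp h2 with h3 | h3
      · exact card_ne_zero_complex h3
      · exact card_sub_one_ne_zero h3
    · exact h2

variable [Fintype (MulChar F ℂ)]

/-- The total multiplicity of a character in the principal series of SL₂. -/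
noncomputable def nSL (χ : Matrix.SpecialLinearGroup (Fin 2) F → ℂ) : ℂ :=
  ∑ α : MulChar F ℂ, Cfsg.classInner (psSL α) χ

theorem nSL_one : nSL (fun _ : Matrix.SpecialLinearGroup (Fin 2) F => (1 : ℂ)) = 1 := by
  classical
  unfold nSL
  simp_rw [classInner_psSL_one]
  rw [Finset.sum_ite_eq']
  simp

theorem nSL_stSL : nSL (stSL (F := F)) = 1 := by
  classical
  unfold nSL
  simp_rw [classInner_psSL_stSL]
  rw [Finset.sum_ite_eq']
  simp

theorem nSL_psSL (α₁ : MulChar F ℂ) : nSL (psSL α₁) = 2 := by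
  classical
  unfold nSL
  simp_rw [classInner_psSL, mul_eq_one_iff_eq_inv]
  rw [Finset.sum_add_distrib, Finset.sum_ite_eq', Finset.sum_ite_eq']
  simp
  norm_num

theorem nSL_cuspidal {χ : Matrix.SpecialLinearGroup (Fin 2) F → ℂ} (hc : IsCuspidalSL χ) : nSL χ = 0 := by
  unfold nSL
  exact Finset.sum_eq_zero fun α _ => hc α

end Cfsg.Agent.H44
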