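import Cfsg.Agent.H44.SL2Twist

/-!
# The principal series of SL₂ at the quadratic character (helper44)
-/

set_option autoImplicit false

namespace Cfsg.Agent.H44

open Matrix
open scoped ComplexConjugate

variable {F : Type*} [Field F] [Fintype F]

theorem exists_primitive_addChar : ∃ ψ : AddChar F ℂ, ψ.IsPrimitive := by
  obtain ⟨ψ, hψ⟩ := (AddChar.exists_apply_ne_zero (α := F) (a := 1)).mpr one_ne_zero
  refine ⟨ψ, AddChar.IsPrimitive.of_ne_one ?_⟩
  intro h
  rw [h] at hψ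
  simp at hψ

theorem sum_addChar_neg {ψ : AddChar F ℂ} (hψ : ψ.IsPrimitive) : ∑ x : F, ψ (-x) = 0 := by
  classical
  have h := AddChar.sum_mulShift (-1 : F) hψ
  rw [if_neg (by simp)] at h
  simp only [mul_neg, mul_one] at h
  exact_mod_cast h

open Classical in
/-- The values of a character of order two. -/
theorem mulChar_quadratic_apply (α : MulChar F ℂ) (hα : α ^ 2 = 1) (hα1 : α ≠ 1) (a : F) (ha : a ≠ 0) :
    α a = if IsSquare a then 1 else -1 := by
  have hmul : ∀ d : F, d ≠ 0 → α (d * d) = 1 := by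
    intro d hd
    rw [map_mul, ← pow_two, ← MulChar.pow_apply' α two_ne_zero, hα,
      MulChar.one_apply (isUnit_iff_ne_zero.mpr hd)]
  obtain ⟨c, hc⟩ := MulChar.ne_one_iff.mp hα1
  have hc0 : (c : F) ≠ 0 := c.ne_zero
  have hcsq : ¬ IsSquare (c : F) := by
    rintro ⟨d, hd⟩
    have hd0 : d ≠ 0 := by rintro rfl; simp at hd
    rw [hd] at hc
    exact hc (hmul d hd0)
  have hc1 : α (c : F) = -1 := by
    have h2 : α (c : F) ^ 2 = 1 := by
      rw [← MulChar.pow_apply' α two_ne_zero, hα, MulChar.one_apply c.isUnit]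
    have h3 : (α (c : F) - 1) * (α (c : F) + 1) = 0 := by linear_combination h2
    rcases mul_eq_zero.mp h3 with h4 | h4
    · exact absurd (sub_eq_zero.mp h4) hc
    · linear_combination h4
  by_cases hsq : IsSquare a
  · rw [if_pos hsq]
    obtain ⟨d, hd⟩ := hsq
    have hd0 : d ≠ 0 := by rintro rfl; simp at hd; exact ha hd
    rw [hd]
    exact hmul d hd0
  · rw [if_neg hsq]
    obtain ⟨d, hd⟩ := isSquare_mul_of_not_isSquare hsq hcsq
    have hd0 : d ≠ 0 := by
      rintro rfl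
      rw [mul_zero] at hd
      rcases mul_eq_zero.mp hd with h | h
      · exact ha h
      · exact hc0 h
    have h5 : α (a * (c : F)) = 1 := by rw [hd]; exact hmul d hd0
    rw [map_mul, hc1] at h5
    linear_combination -h5

/-- The character of order two is unique. -/
theorem mulChar_quadratic_unique (α β : MulChar F ℂ) (hα : α ^ 2 = 1) (hα1 : α ≠ 1)
    (hβ : β ^ 2 = 1) (hβ1 : β ≠ 1) : α = β := by
  classical
  ext a
  rw [mulChar_quadratic_apply α hα hα1 a a.ne_zero, mulChar_quadratic_apply β hβ hβ1 a a.ne_zero]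

variable [Fintype (Matrix.SpecialLinearGroup (Fin 2) F)]

theorem psSL_uSL (α : MulChar F ℂ) (x : F) (hx : x ≠ 0) : psSL α (uSL x) = 1 := by
  rw [psSL_jordan α (uSL x) (by simp [coe_uSL, uMat]) (by simp [coe_uSL, uMat])
    (by simpa [coe_uSL, uMat] using hx)]
  simp [coe_uSL, uMat]

theorem mU_psSL (α : MulChar F ℂ) {ψ : AddChar F ℂ} (hψ : ψ.IsPrimitive) : mU ψ (psSL α) = 1 := by
  classical
  unfold mU
  have h1 : ∀ x : F, psSL α (uSL x) * ψ (-x) = ψ (-x) + (if x = 0 then (Fintype.card F : ℂ) else 0) := by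
    intro x
    by_cases hx : x = 0
    · rw [hx, uSL_zero, psSL_one, if_pos rfl]
      simp
      ring
    · rw [psSL_uSL α x hx, if_neg hx, one_mul, add_zero]
  rw [Finset.sum_congr rfl fun x _ => h1 x, Finset.sum_add_distrib, sum_addChar_neg hψ,
    Finset.sum_ite_eq', if_pos (Finset.mem_univ _), zero_add]
  exact inv_mul_cancel₀ card_ne_zero_complex

/-- The principal series at the character of order two is the sum of two distinct irreducible
characters that are swapped by the diagonal automorphism. -/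
theorem psSL_quadratic_decomp (α : MulChar F ℂ) (hα : α ^ 2 = 1) (hα1 : α ≠ 1)
    (ε : F) (hε : ¬ IsSquare ε) (hε0 : ε ≠ 0) :
    ∃ ξ₁ ξ₂ : Matrix.SpecialLinearGroup (Fin 2) F → ℂ,
      Cfsg.IsIrrCharacter (Matrix.SpecialLinearGroup (Fin 2) F) ξ₁ ∧
      Cfsg.IsIrrCharacter (Matrix.SpecialLinearGroup (Fin 2) F) ξ₂ ∧ ξ₁ ≠ ξ₂ ∧
      psSL α = ξ₁ + ξ₂ ∧ ∀ g, ξ₂ g = ξ₁ (twistSL ε hε0 g) := by
  classical
  have hnorm : Cfsg.classInner (psSL α) (psSL α) = 2 := by
    rw [classInner_psSL, if_pos rfl, if_pos (by rw [← pow_two]; exact hα)]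
    norm_num
  obtain ⟨ξ₁, ξ₂, h1, h2, hne, hsum⟩ := exists_irr_add_of_norm_two (isCharacter_psSL α) hnorm
  set σ := twistSL ε hε0 with hσ
  have hc1 := Cfsg.Agent.H4.isClassFunction_of_isCharacter (Cfsg.Agent.H4.isCharacter_of_isIrrCharacter h1)
  have hc2 := Cfsg.Agent.H4.isClassFunction_of_isCharacter (Cfsg.Agent.H4.isCharacter_of_isIrrCharacter h2)
  have hσ1 : Cfsg.IsIrrCharacter (Matrix.SpecialLinearGroup (Fin 2) F) (fun g => ξ₁ (σ g)) :=
    isIrrCharacter_comp_mulEquiv σ h1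
  have hσsum : ∀ g, ξ₁ (σ g) + ξ₂ (σ g) = ξ₁ g + ξ₂ g := by
    intro g
    have := psSL_twistSL α ε hε0 g
    rw [hsum] at this
    exact this
  have h12 : Cfsg.classInner ξ₁ ξ₂ = 0 :=
    Cfsg.Agent.H4.irr_inner_ne (χ := ⟨ξ₁, h1⟩) (ψ := ⟨ξ₂, h2⟩) (fun he => hne (congrArg Subtype.val he))
  have h21 : Cfsg.classInner ξ₂ ξ₁ = 0 :=
    Cfsg.Agent.H4.irr_inner_ne (χ := ⟨ξ₂, h2⟩) (ψ := ⟨ξ₁, h1⟩) (fun he => hne (congrArg Subtype.val he).symm)
  have h11 : Cfsg.classInner ξ₁ ξ₁ = 1 := Cfsg.Agent.H4.irr_inner_self ⟨ξ₁, h1⟩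
  have h22 : Cfsg.classInner ξ₂ ξ₂ = 1 := Cfsg.Agent.H4.irr_inner_self ⟨ξ₂, h2⟩
  have hinner : Cfsg.classInner (fun g => ξ₁ (σ g)) (ξ₁ + ξ₂) = 1 := by
    have hfun : (ξ₁ + ξ₂) = fun g => (ξ₁ + ξ₂) (σ g) := by
      ext g
      simp only [Pi.add_apply]
      exact (hσsum g).symm
    rw [hfun, classInner_comp_mulEquiv σ ξ₁ (ξ₁ + ξ₂), Cfsg.Agent.H4.classInner_add_right, h11, h12,
      add_zero]
  rw [Cfsg.Agent.H4.classInner_add_right] at hinner
  by_cases hA : Cfsg.classInner (fun g => ξ₁ (σ g)) ξ₂ = 0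
  · exfalso
    rw [hA, add_zero] at hinner
    have hinv1 : ξ₁ = fun g => ξ₁ (σ g) :=
      eq_of_irr_inner_ne_zero hσ1 h1 (by rw [hinner]; exact one_ne_zero)
    have hinv1' : ∀ g, ξ₁ (σ g) = ξ₁ g := fun g => (congrFun hinv1 g).symm
    have hinv2' : ∀ g, ξ₂ (σ g) = ξ₂ g := by
      intro g
      have := hσsum g
      rw [hinv1' g] at this
      exact add_left_cancel this
    obtain ⟨ψ, hψ⟩ := exists_primitive_addChar (F := F)
    have hconst : ∀ ξ : Matrix.SpecialLinearGroup (Fin 2) F → ℂ,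
        Cfsg.IsClassFunction (Matrix.SpecialLinearGroup (Fin 2) F) ξ → (∀ g, ξ (σ g) = ξ g) →
        ∀ c : F, c ≠ 0 → mU (ψ.mulShift c) ξ = mU (ψ.mulShift 1) ξ := by
      intro ξ hcl hinv c hc
      have hinvU : ∀ x : F, ξ (uSL (ε * x)) = ξ (uSL x) := by
        intro x
        rw [← twistSL_uSL ε hε0 x]
        exact hinv _
      by_cases hsq : IsSquare c
      · obtain ⟨s, rfl⟩ := hsq
        have hs : s ≠ 0 := by rintro rfl; simp at hc
        have := mU_mulShift_sq ψ hcl 1 s hs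
        rw [one_mul, pow_two] at this
        exact this
      · obtain ⟨s, hs⟩ := isSquare_mul_of_not_isSquare hsq hε
        have hs0 : s ≠ 0 := by
          rintro rfl
          rw [mul_zero] at hs
          rcases mul_eq_zero.mp hs with h | h
          · exact hc h
          · exact hε0 h
        have hc' : c = (1 * (s / ε) ^ 2) * ε := by
          field_simp
          linear_combination hs
        rw [hc', mU_mulShift_of_invariant ψ ξ _ ε hε0 hinvU,
          mU_mulShift_sq ψ hcl 1 (s / ε) (div_ne_zero hs0 hε0)]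
    have hps : mU (ψ.mulShift 1) (psSL α) = 1 := by
      rw [AddChar.mulShift_one]; exact mU_psSL α hψ
    rw [hsum, mU_add] at hps
    obtain ⟨n₁, hn₁⟩ := mU_nat (ψ.mulShift 1) (Cfsg.Agent.H4.isCharacter_of_isIrrCharacter h1)
    obtain ⟨n₂, hn₂⟩ := mU_nat (ψ.mulShift 1) (Cfsg.Agent.H4.isCharacter_of_isIrrCharacter h2)
    rw [hn₁, hn₂] at hps
    have hnn : n₁ + n₂ = 1 := by exact_mod_cast hps
    have hcontra : ∀ ξ : Matrix.SpecialLinearGroup (Fin 2) F → ℂ,
        Cfsg.IsIrrCharacter (Matrix.SpecialLinearGroup (Fin 2) F) ξ → (∀ g, ξ (σ g) = ξ g) →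
        mU (ψ.mulShift 1) ξ = 0 → Cfsg.classInner (psSL α) ξ = 1 → False := by
      intro ξ hirr hinv h0 hin
      have hch := Cfsg.Agent.H4.isCharacter_of_isIrrCharacter hirr
      have hcl := Cfsg.Agent.H4.isClassFunction_of_isCharacter hch
      have hvan : ∀ c : F, c ≠ 0 → mU (ψ.mulShift c) ξ = 0 := fun c hc => by
        rw [hconst ξ hcl hinv c hc, h0]
      have hU0 : ∀ x : F, ξ (uSL x) = mU (ψ.mulShift 0) ξ := by
        intro x
        rw [uSL_eq_sum_mU hψ ξ x, Finset.sum_eq_single (0 : F)]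
        · simp
        · intro c _ hc
          rw [hvan c hc, zero_mul]
        · intro h; exact absurd (Finset.mem_univ _) h
      have hU : ∀ x : F, ξ (uSL x) = ξ 1 := by
        intro x
        rw [hU0 x, ← uSL_zero, hU0 0]
      have hB := character_const_on_borel hch hU
      rw [classInner_psSL_left α ξ hcl] at hin
      have h3 : ∀ a : Fˣ, α (a : F) * conj (∑ x : F, ξ (triSL' a x)) =
          α (a : F) * conj ((Fintype.card F : ℂ) * ξ 1) := by
        intro a
        rw [Finset.sum_congr rfl fun x _ => hB a x, Finset.sum_const, Finset.card_univ, nsmul_eq_mul]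
      rw [Finset.sum_congr rfl fun a _ => h3 a, ← Finset.sum_mul, sum_units_mulChar, if_neg hα1,
        zero_mul, mul_zero] at hin
      exact zero_ne_one hin
    have hp1 : Cfsg.classInner (psSL α) ξ₁ = 1 := by
      rw [hsum, Cfsg.Agent.H4.classInner_add_left, h11, h21, add_zero]
    have hp2 : Cfsg.classInner (psSL α) ξ₂ = 1 := by
      rw [hsum, Cfsg.Agent.H4.classInner_add_left, h12, h22, zero_add]
    rcases Nat.eq_zero_or_pos n₁ with hz | hz
    · exact hcontra ξ₁ h1 hinv1' (by rw [hn₁, hz]; simp) hp1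
    · have hz2 : n₂ = 0 := by omega
      exact hcontra ξ₂ h2 hinv2' (by rw [hn₂, hz2]; simp) hp2
  · have heq : ξ₂ = fun g => ξ₁ (σ g) := eq_of_irr_inner_ne_zero hσ1 h2 hA
    exact ⟨ξ₁, ξ₂, h1, h2, hne, hsum, fun g => congrFun heq g⟩

end Cfsg.Agent.H44
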