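import Cfsg.Agent.H44.SL2OddA
import Cfsg.Agent.H44.SL2Card

/-!
# Gelfand–Graev multiplicities for SL₂(F), odd characteristic (helper44)
-/

set_option autoImplicit false

namespace Cfsg.Agent.H44

open Matrix
open scoped ComplexConjugate

open Classical in
theorem card_conj_eq {G : Type*} [Group G] [Finite G] (g h : G) :
    Nat.card {c : G // c * g * c⁻¹ = h} =
      if IsConj g h then Nat.card (Subgroup.centralizer ({g} : Set G)) else 0 := by
  by_cases hc : IsConj g h
  · rw [if_pos hc]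
    obtain ⟨c₀, hc₀⟩ := isConj_iff.mp hc
    rw [← hc₀]
    exact Cfsg.Agent.H4.card_conj_fiber g c₀
  · rw [if_neg hc]
    have : IsEmpty {c : G // c * g * c⁻¹ = h} := ⟨fun c => hc (isConj_iff.mpr ⟨c.1, c.2⟩)⟩
    exact Nat.card_of_isEmpty

variable {F : Type*} [Field F] [Fintype F]

/-- Existence of the multiplicative character of order two. -/
theorem exists_quadratic_mulChar (hodd : Odd (Fintype.card F)) :
    ∃ α : MulChar F ℂ, α ^ 2 = 1 ∧ α ≠ 1 := by
  classical
  refine ⟨(quadraticChar F).ringHomComp (Int.castRingHom ℂ), ?_, ?_⟩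
  · exact ((quadraticChar_isQuadratic F).comp _).sq_eq_one
  · exact (MulChar.ringHomComp_ne_one_iff (RingHom.injective_int _)).mpr
      (quadraticChar_ne_one (ringChar_ne_two_of_odd hodd))

theorem mulChar_quadratic_inv (α : MulChar F ℂ) (hα : α ^ 2 = 1) : α⁻¹ = α := by
  rw [inv_eq_iff_eq_inv, eq_inv_iff_mul_eq_one, ← pow_two, hα]

/-- The product of the two Gauss sums of the quadratic character. -/
theorem gauss_mul_gauss (α : MulChar F ℂ) (hα : α ^ 2 = 1) (hα1 : α ≠ 1) {ψ : AddChar F ℂ}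
    (hψ : ψ.IsPrimitive) :
    (∑ x : F, α x * ψ (-x)) * (∑ y : F, α y * ψ y) = (Fintype.card F : ℂ) := by
  have h := gaussSum_mul_gaussSum_eq_card hα1 hψ
  rw [mulChar_quadratic_inv α hα] at h
  rw [mul_comm]
  exact h

open Classical in
theorem gauss_sq (α : MulChar F ℂ) (hα : α ^ 2 = 1) (hα1 : α ≠ 1) {ψ : AddChar F ℂ}
    (hψ : ψ.IsPrimitive) :
    (∑ y : F, α y * ψ y) ^ 2 = α (-1) * (Fintype.card F : ℂ) := by
  have hq : α.IsQuadratic := by
    intro a
    by_cases ha : a = 0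
    · left; rw [ha]; exact MulChar.map_zero α
    · rw [mulChar_quadratic_apply α hα hα1 a ha]
      by_cases hs : IsSquare a
      · right; left; rw [if_pos hs]
      · right; right; rw [if_neg hs]
  exact gaussSum_sq hα1 hq hψ

theorem sum_one_mulChar_addChar {ψ : AddChar F ℂ} (hψ : ψ.IsPrimitive) :
    ∑ x : F, (1 : MulChar F ℂ) x * ψ x = -1 := by
  classical
  have h1 : ∀ x : F, (1 : MulChar F ℂ) x * ψ x = ψ x - (if x = 0 then 1 else 0) := by
    intro x
    by_cases hx : x = 0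
    · rw [hx, MulChar.map_zero, if_pos rfl, AddChar.map_zero_eq_one]; ring
    · rw [MulChar.one_apply (isUnit_iff_ne_zero.mpr hx), if_neg hx]; ring
  rw [Finset.sum_congr rfl fun x _ => h1 x, Finset.sum_sub_distrib, Finset.sum_ite_eq',
    if_pos (Finset.mem_univ _)]
  have h2 : ∑ x : F, ψ x = 0 := by
    have := AddChar.sum_mulShift (1 : F) hψ
    rw [if_neg one_ne_zero] at this
    simp only [mul_one] at this
    exact_mod_cast this
  rw [h2]; ring

theorem sum_one_mulChar_addChar_neg {ψ : AddChar F ℂ} (hψ : ψ.IsPrimitive) :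
    ∑ x : F, (1 : MulChar F ℂ) x * ψ (-x) = -1 := by
  classical
  have h1 : ∀ x : F, (1 : MulChar F ℂ) x * ψ (-x) = ψ (-x) - (if x = 0 then 1 else 0) := by
    intro x
    by_cases hx : x = 0
    · rw [hx, MulChar.map_zero, if_pos rfl, neg_zero, AddChar.map_zero_eq_one]; ring
    · rw [MulChar.one_apply (isUnit_iff_ne_zero.mpr hx), if_neg hx]; ring
  rw [Finset.sum_congr rfl fun x _ => h1 x, Finset.sum_sub_distrib, Finset.sum_ite_eq',
    if_pos (Finset.mem_univ _), sum_addChar_neg hψ]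
  ring

omit [Fintype F] in
theorem uSL_ne_one (x : F) (hx : x ≠ 0) : uSL x ≠ 1 := by
  intro h
  have := congrArg (fun g : Matrix.SpecialLinearGroup (Fin 2) F => (g : Matrix (Fin 2) (Fin 2) F) 0 1) h
  simp [coe_uSL, uMat] at this
  exact hx this

variable [Fintype (Matrix.SpecialLinearGroup (Fin 2) F)]

open Classical in
/-- The number of elements conjugating one upper unitriangular element to another. -/
theorem card_conj_uSL (hodd : Odd (Fintype.card F)) (α : MulChar F ℂ) (hα : α ^ 2 = 1) (hα1 : α ≠ 1)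
    (x y : F) :
    (Nat.card {k : Matrix.SpecialLinearGroup (Fin 2) F // k * uSL x * k⁻¹ = uSL y} : ℂ) =
      (if x = 0 ∧ y = 0 then (Fintype.card F : ℂ) * ((Fintype.card F : ℂ) ^ 2 - 1) else 0) +
      (Fintype.card F : ℂ) * ((1 : MulChar F ℂ) x * (1 : MulChar F ℂ) y + α x * α y) := by
  rw [card_conj_eq]
  by_cases hx : x = 0
  · subst hx
    by_cases hy : y = 0
    · subst hy
      rw [if_pos (IsConj.refl _), if_pos ⟨rfl, rfl⟩, uSL_zero]
      have h1 : Subgroup.centralizer ({1} : Set (Matrix.SpecialLinearGroup (Fin 2) F)) = ⊤ := by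
        ext k
        simp [Subgroup.mem_centralizer_iff]
      rw [h1, Nat.card_congr Subgroup.topEquiv.toEquiv, card_SL2,
        MulChar.map_zero, MulChar.map_zero]
      have h2 : 1 ≤ Fintype.card F ^ 2 := Nat.one_le_pow _ _ Fintype.card_pos
      rw [Nat.cast_mul, Nat.cast_sub h2]
      push_cast
      ring
    · have hnc : ¬ IsConj (uSL (0 : F)) (uSL y) := by
        rw [uSL_zero, isConj_one_right]
        exact uSL_ne_one y hy
      rw [if_neg hnc, if_neg (fun h : (0 : F) = 0 ∧ y = 0 => hy h.2), MulChar.map_zero, MulChar.map_zero]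
      simp
  · by_cases hy : y = 0
    · subst hy
      have hnc : ¬ IsConj (uSL x) (uSL (0 : F)) := by
        rw [uSL_zero, isConj_one_left]
        exact uSL_ne_one x hx
      rw [if_neg hnc, if_neg (fun h : x = 0 ∧ (0 : F) = 0 => hx h.1), MulChar.map_zero, MulChar.map_zero]
      simp
    · rw [if_neg (fun h : x = 0 ∧ y = 0 => hx h.1), zero_add, card_centralizer_uSL_odd hodd x hx,
        MulChar.one_apply (isUnit_iff_ne_zero.mpr hx), MulChar.one_apply (isUnit_iff_ne_zero.mpr hy),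
        ← map_mul, mulChar_quadratic_apply α hα hα1 (x * y) (mul_ne_zero hx hy)]
      by_cases hs : IsSquare (x * y)
      · rw [if_pos ((uSL_isConj_iff hx hy).mpr hs), if_pos hs]; push_cast; ring
      · rw [if_neg (fun h => hs ((uSL_isConj_iff hx hy).mp h)), if_neg hs]; push_cast; ring

variable [Fintype (Cfsg.IrrCharacter (Matrix.SpecialLinearGroup (Fin 2) F))]

/-- The Gelfand–Graev character of SL₂ (odd characteristic) has norm `q + 1`. -/
theorem sum_mU_norm (hodd : Odd (Fintype.card F)) {ψ : AddChar F ℂ} (hψ : ψ.IsPrimitive) :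
    ∑ χ : Cfsg.IrrCharacter (Matrix.SpecialLinearGroup (Fin 2) F), mU ψ χ.1 * conj (mU ψ χ.1) =
      (Fintype.card F : ℂ) + 1 := by
  classical
  obtain ⟨α, hα, hα1⟩ := exists_quadratic_mulChar hodd
  have hq := card_ne_zero_complex (F := F)
  have hcol : ∀ x y : F, ∑ χ : Cfsg.IrrCharacter (Matrix.SpecialLinearGroup (Fin 2) F),
      χ.1 (uSL x) * conj (χ.1 (uSL y)) =
      (if x = 0 ∧ y = 0 then (Fintype.card F : ℂ) * ((Fintype.card F : ℂ) ^ 2 - 1) else 0) +
      (Fintype.card F : ℂ) * ((1 : MulChar F ℂ) x * (1 : MulChar F ℂ) y + α x * α y) := by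
    intro x y
    rw [← card_conj_uSL hodd α hα hα1 x y, ← Cfsg.Agent.H4.column_orthogonality, finsum_eq_sum_of_fintype]
  have hexp : ∀ χ : Cfsg.IrrCharacter (Matrix.SpecialLinearGroup (Fin 2) F),
      mU ψ χ.1 * conj (mU ψ χ.1) = ((Fintype.card F : ℂ)⁻¹) ^ 2 *
        ∑ x : F, ∑ y : F, ψ (-x) * ψ y * (χ.1 (uSL x) * conj (χ.1 (uSL y))) := by
    intro χ
    unfold mU
    rw [map_mul, map_inv₀, Complex.conj_natCast, map_sum, mul_mul_mul_comm, ← pow_two,
      Finset.sum_mul_sum]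
    congr 1
    refine Finset.sum_congr rfl fun x _ => Finset.sum_congr rfl fun y _ => ?_
    rw [map_mul, AddChar.map_neg_eq_conj ψ y, Complex.conj_conj]
    ring
  rw [Finset.sum_congr rfl fun χ _ => hexp χ, ← Finset.mul_sum, Finset.sum_comm]
  have h3 : ∀ x : F, ∑ χ : Cfsg.IrrCharacter (Matrix.SpecialLinearGroup (Fin 2) F),
      ∑ y : F, ψ (-x) * ψ y * (χ.1 (uSL x) * conj (χ.1 (uSL y))) =
      ∑ y : F, ψ (-x) * ψ y *
        ((if x = 0 ∧ y = 0 then (Fintype.card F : ℂ) * ((Fintype.card F : ℂ) ^ 2 - 1) else 0) +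
        (Fintype.card F : ℂ) * ((1 : MulChar F ℂ) x * (1 : MulChar F ℂ) y + α x * α y)) := by
    intro x
    rw [Finset.sum_comm]
    refine Finset.sum_congr rfl fun y _ => ?_
    rw [← Finset.mul_sum, hcol]
  rw [Finset.sum_congr rfl fun x _ => h3 x]
  have h4 : ∀ x y : F, ψ (-x) * ψ y *
        ((if x = 0 ∧ y = 0 then (Fintype.card F : ℂ) * ((Fintype.card F : ℂ) ^ 2 - 1) else 0) +
        (Fintype.card F : ℂ) * ((1 : MulChar F ℂ) x * (1 : MulChar F ℂ) y + α x * α y)) =
      (if x = 0 ∧ y = 0 then (Fintype.card F : ℂ) * ((Fintype.card F : ℂ) ^ 2 - 1) else 0) +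
      (Fintype.card F : ℂ) * (((1 : MulChar F ℂ) x * ψ (-x)) * ((1 : MulChar F ℂ) y * ψ y) +
        (α x * ψ (-x)) * (α y * ψ y)) := by
    intro x y
    by_cases hxy : x = 0 ∧ y = 0
    · rw [if_pos hxy, hxy.1, hxy.2]
      simp
    · rw [if_neg hxy]
      ring
  rw [Finset.sum_congr rfl fun x _ => Finset.sum_congr rfl fun y _ => h4 x y]
  simp only [Finset.sum_add_distrib, ← Finset.mul_sum]
  rw [sum_sum_ite_pair, ← Finset.sum_mul, ← Finset.sum_mul, sum_one_mulChar_addChar hψ,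
    sum_one_mulChar_addChar_neg hψ, gauss_mul_gauss α hα hα1 hψ]
  field_simp
  ring

end Cfsg.Agent.H44
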