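import Cfsg.Agent.H44.SL2OddB
import Cfsg.Agent.H44.SL2Even

/-!
# The master formula for the irreducible characters of SL₂(F), odd characteristic (helper44)
-/

set_option autoImplicit false

namespace Cfsg.Agent.H44

open Matrix
open scoped ComplexConjugate

variable {F : Type*} [Field F] [Fintype F] [Fintype (Matrix.SpecialLinearGroup (Fin 2) F)]

/-- The data of the decomposition of the principal series at the quadratic character. -/
structure QuadDecomp (α₀ : MulChar F ℂ) (ξ₁ ξ₂ : Matrix.SpecialLinearGroup (Fin 2) F → ℂ) : Prop where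
  sq : α₀ ^ 2 = 1
  ne_one : α₀ ≠ 1
  irr₁ : Cfsg.IsIrrCharacter (Matrix.SpecialLinearGroup (Fin 2) F) ξ₁
  irr₂ : Cfsg.IsIrrCharacter (Matrix.SpecialLinearGroup (Fin 2) F) ξ₂
  ne : ξ₁ ≠ ξ₂
  sum : psSL α₀ = ξ₁ + ξ₂
  deg₁ : ξ₁ 1 = ((Fintype.card F : ℂ) + 1) / 2
  deg₂ : ξ₂ 1 = ((Fintype.card F : ℂ) + 1) / 2
  twist : ∃ (ε : F) (hε0 : ε ≠ 0), ¬ IsSquare ε ∧ ∀ g, ξ₂ g = ξ₁ (twistSL ε hε0 g)

theorem exists_quadDecomp (hodd : Odd (Fintype.card F)) :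
    ∃ (α₀ : MulChar F ℂ) (ξ₁ ξ₂ : Matrix.SpecialLinearGroup (Fin 2) F → ℂ), QuadDecomp α₀ ξ₁ ξ₂ := by
  obtain ⟨α₀, hα, hα1⟩ := exists_quadratic_mulChar hodd
  obtain ⟨ε, hε⟩ := FiniteField.exists_nonsquare (ringChar_ne_two_of_odd hodd)
  have hε0 : ε ≠ 0 := by
    rintro rfl
    exact hε IsSquare.zero
  obtain ⟨ξ₁, ξ₂, h1, h2, hne, hsum, htw⟩ := psSL_quadratic_decomp α₀ hα hα1 ε hε hε0
  have hdeg2 : ξ₂ 1 = ξ₁ 1 := by rw [htw 1, map_one]
  have hdegsum : ξ₁ 1 + ξ₂ 1 = (Fintype.card F : ℂ) + 1 := by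
    have := congrFun hsum 1
    rw [psSL_one] at this
    exact this.symm
  have hdeg1 : ξ₁ 1 = ((Fintype.card F : ℂ) + 1) / 2 := by
    rw [hdeg2] at hdegsum
    linear_combination hdegsum / 2
  exact ⟨α₀, ξ₁, ξ₂, hα, hα1, h1, h2, hne, hsum, hdeg1, hdeg2.trans hdeg1, ε, hε0, hε, htw⟩

section WithData

variable {α₀ : MulChar F ℂ} {ξ₁ ξ₂ : Matrix.SpecialLinearGroup (Fin 2) F → ℂ}

theorem QuadDecomp.inner₁₂ (D : QuadDecomp α₀ ξ₁ ξ₂) : Cfsg.classInner ξ₁ ξ₂ = 0 :=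
  Cfsg.Agent.H4.irr_inner_ne (χ := ⟨ξ₁, D.irr₁⟩) (ψ := ⟨ξ₂, D.irr₂⟩) (fun he => D.ne (congrArg Subtype.val he))

theorem QuadDecomp.inner₂₁ (D : QuadDecomp α₀ ξ₁ ξ₂) : Cfsg.classInner ξ₂ ξ₁ = 0 :=
  Cfsg.Agent.H4.irr_inner_ne (χ := ⟨ξ₂, D.irr₂⟩) (ψ := ⟨ξ₁, D.irr₁⟩) (fun he => D.ne (congrArg Subtype.val he).symm)

theorem QuadDecomp.inner₁₁ (D : QuadDecomp α₀ ξ₁ ξ₂) : Cfsg.classInner ξ₁ ξ₁ = 1 :=
  Cfsg.Agent.H4.irr_inner_self ⟨ξ₁, D.irr₁⟩

theorem QuadDecomp.inner₂₂ (D : QuadDecomp α₀ ξ₁ ξ₂) : Cfsg.classInner ξ₂ ξ₂ = 1 :=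
  Cfsg.Agent.H4.irr_inner_self ⟨ξ₂, D.irr₂⟩

theorem QuadDecomp.sq_eq_one_iff (D : QuadDecomp α₀ ξ₁ ξ₂) (α : MulChar F ℂ) :
    α ^ 2 = 1 ↔ α = 1 ∨ α = α₀ := by
  constructor
  · intro h
    by_cases h1 : α = 1
    · exact Or.inl h1
    · exact Or.inr (mulChar_quadratic_unique α α₀ h h1 D.sq D.ne_one)
  · rintro (rfl | rfl)
    · simp
    · exact D.sq

open Classical in
theorem QuadDecomp.inner_ps (D : QuadDecomp α₀ ξ₁ ξ₂) (α : MulChar F ℂ) :
    Cfsg.classInner (psSL α) ξ₁ = (if α = α₀ then 1 else 0) ∧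
    Cfsg.classInner (psSL α) ξ₂ = (if α = α₀ then 1 else 0) := by
  by_cases h : α = α₀
  · subst h
    rw [if_pos rfl, D.sum, Cfsg.Agent.H4.classInner_add_left, Cfsg.Agent.H4.classInner_add_left,
      D.inner₁₁, D.inner₂₁, D.inner₁₂, D.inner₂₂]
    simp
  · rw [if_neg h]
    have h0 : Cfsg.classInner (psSL α) (psSL α₀) = 0 := by
      rw [classInner_psSL, if_neg h, if_neg]
      · simp
      · intro h2
        apply h
        rw [mul_eq_one_iff_eq_inv, mulChar_quadratic_inv α₀ D.sq] at h2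
        exact h2
    rw [D.sum, Cfsg.Agent.H4.classInner_add_right] at h0
    obtain ⟨n₁, hn₁⟩ := Cfsg.Agent.H4.classInner_isCharacter_nat (isCharacter_psSL α)
      (Cfsg.Agent.H4.isCharacter_of_isIrrCharacter D.irr₁)
    obtain ⟨n₂, hn₂⟩ := Cfsg.Agent.H4.classInner_isCharacter_nat (isCharacter_psSL α)
      (Cfsg.Agent.H4.isCharacter_of_isIrrCharacter D.irr₂)
    rw [hn₁, hn₂] at h0 ⊢
    have h3 : n₁ + n₂ = 0 := by exact_mod_cast h0
    have h4 : n₁ = 0 := by omega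
    have h5 : n₂ = 0 := by omega
    rw [h4, h5]
    simp

variable [Fintype (MulChar F ℂ)]

theorem QuadDecomp.nSL₁ (D : QuadDecomp α₀ ξ₁ ξ₂) : nSL ξ₁ = 1 := by
  classical
  unfold nSL
  rw [Finset.sum_congr rfl fun α _ => (D.inner_ps α).1, Finset.sum_ite_eq']
  simp

theorem QuadDecomp.nSL₂ (D : QuadDecomp α₀ ξ₁ ξ₂) : nSL ξ₂ = 1 := by
  classical
  unfold nSL
  rw [Finset.sum_congr rfl fun α _ => (D.inner_ps α).2, Finset.sum_ite_eq']
  simp

omit [Fintype (MulChar F ℂ)] in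
/-- A non-cuspidal irreducible character of SL₂ in odd characteristic. -/
theorem irr_of_not_cuspidalSL_odd (D : QuadDecomp α₀ ξ₁ ξ₂)
    {χ : Matrix.SpecialLinearGroup (Fin 2) F → ℂ}
    (hirr : Cfsg.IsIrrCharacter (Matrix.SpecialLinearGroup (Fin 2) F) χ) (hc : ¬ IsCuspidalSL χ) :
    χ = (fun _ => (1 : ℂ)) ∨ χ = stSL ∨ (∃ α : MulChar F ℂ, α ^ 2 ≠ 1 ∧ χ = psSL α) ∨ χ = ξ₁ ∨ χ = ξ₂ := by
  unfold IsCuspidalSL at hc
  push Not at hc
  obtain ⟨α, h⟩ := hc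
  by_cases hα2 : α ^ 2 = 1
  · rcases (D.sq_eq_one_iff α).mp hα2 with hα | hα
    · subst hα
      rw [psSL_one_eq, Cfsg.Agent.H4.classInner_add_left] at h
      by_cases h1 : Cfsg.classInner (fun _ : Matrix.SpecialLinearGroup (Fin 2) F => (1 : ℂ)) χ = 0
      · rw [h1, zero_add] at h
        exact Or.inr (Or.inl (eq_of_irr_inner_ne_zero isIrrCharacter_stSL hirr h))
      · exact Or.inl (eq_of_irr_inner_ne_zero Cfsg.Agent.H4.isIrrCharacter_one hirr h1)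
    · subst hα
      rw [D.sum, Cfsg.Agent.H4.classInner_add_left] at h
      by_cases h1 : Cfsg.classInner ξ₁ χ = 0
      · rw [h1, zero_add] at h
        exact Or.inr (Or.inr (Or.inr (Or.inr (eq_of_irr_inner_ne_zero D.irr₂ hirr h))))
      · exact Or.inr (Or.inr (Or.inr (Or.inl (eq_of_irr_inner_ne_zero D.irr₁ hirr h1))))
  · exact Or.inr (Or.inr (Or.inl ⟨α, hα2,
      eq_of_irr_inner_ne_zero ((isIrrCharacter_psSL_iff α).mpr hα2) hirr h⟩))

variable [Fintype (Cfsg.IrrCharacter (Matrix.SpecialLinearGroup (Fin 2) F))]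

open Classical in
/-- The master formula for SL₂ in odd characteristic. -/
theorem SL2_odd_master (D : QuadDecomp α₀ ξ₁ ξ₂) (h : (Matrix.SpecialLinearGroup (Fin 2) F → ℂ) → ℂ) :
    ∑ χ : Cfsg.IrrCharacter (Matrix.SpecialLinearGroup (Fin 2) F), h χ.1 =
      (∑ χ : Cfsg.IrrCharacter (Matrix.SpecialLinearGroup (Fin 2) F), if IsCuspidalSL χ.1 then h χ.1 else 0) +
      ((h (fun _ => (1 : ℂ)) + h stSL) + ((h ξ₁ + h ξ₂) +
      ∑ α : MulChar F ℂ, (if α ^ 2 ≠ 1 then h (psSL α) / 2 else 0))) := by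
  set H' : Cfsg.IrrCharacter (Matrix.SpecialLinearGroup (Fin 2) F) → ℂ := fun χ => h χ.1 / nSL χ.1 with hH'
  have h1 : ∀ χ : Cfsg.IrrCharacter (Matrix.SpecialLinearGroup (Fin 2) F),
      h χ.1 = (if IsCuspidalSL χ.1 then h χ.1 else 0) + nSL χ.1 * H' χ := by
    intro χ
    by_cases hc : IsCuspidalSL χ.1
    · rw [if_pos hc, nSL_cuspidal hc, zero_mul, add_zero]
    · rw [if_neg hc, zero_add]
      have hn : nSL χ.1 ≠ 0 := by
        rcases irr_of_not_cuspidalSL_odd D χ.2 hc with hα | hα | ⟨α, -, hα⟩ | hα | hα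
        · rw [hα, nSL_one]; exact one_ne_zero
        · rw [hα, nSL_stSL]; exact one_ne_zero
        · rw [hα, nSL_psSL]; exact two_ne_zero
        · rw [hα, D.nSL₁]; exact one_ne_zero
        · rw [hα, D.nSL₂]; exact one_ne_zero
      rw [hH']
      field_simp
  rw [Finset.sum_congr rfl fun χ _ => h1 χ, Finset.sum_add_distrib]
  congr 1
  have h2 : ∑ χ : Cfsg.IrrCharacter (Matrix.SpecialLinearGroup (Fin 2) F), nSL χ.1 * H' χ =
      ∑ α : MulChar F ℂ, ∑ χ : Cfsg.IrrCharacter (Matrix.SpecialLinearGroup (Fin 2) F),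
        Cfsg.classInner (psSL α) χ.1 * H' χ := by
    unfold nSL
    simp_rw [Finset.sum_mul]
    rw [Finset.sum_comm]
  rw [h2]
  have h3 : ∀ α : MulChar F ℂ, ∑ χ : Cfsg.IrrCharacter (Matrix.SpecialLinearGroup (Fin 2) F),
      Cfsg.classInner (psSL α) χ.1 * H' χ =
        (if α = 1 then h (fun _ => (1 : ℂ)) + h stSL else 0) +
        ((if α = α₀ then h ξ₁ + h ξ₂ else 0) + (if α ^ 2 ≠ 1 then h (psSL α) / 2 else 0)) := by
    intro α
    by_cases hα2 : α ^ 2 = 1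
    · rw [if_neg (not_not.mpr hα2), add_zero]
      rcases (D.sq_eq_one_iff α).mp hα2 with hα | hα
      · subst hα
        rw [if_pos rfl, if_neg (Ne.symm D.ne_one), add_zero, psSL_one_eq]
        simp_rw [Cfsg.Agent.H4.classInner_add_left, add_mul]
        rw [Finset.sum_add_distrib, sum_irr_inner_mul Cfsg.Agent.H4.isIrrCharacter_one,
          sum_irr_inner_mul isIrrCharacter_stSL]
        simp only [hH', nSL_one, nSL_stSL, div_one]
      · subst hα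
        rw [if_neg D.ne_one, if_pos rfl, zero_add, D.sum]
        simp_rw [Cfsg.Agent.H4.classInner_add_left, add_mul]
        rw [Finset.sum_add_distrib, sum_irr_inner_mul D.irr₁, sum_irr_inner_mul D.irr₂]
        simp only [hH', D.nSL₁, D.nSL₂, div_one]
    · have hne1 : α ≠ 1 := fun h => hα2 ((D.sq_eq_one_iff α).mpr (Or.inl h))
      have hne0 : α ≠ α₀ := fun h => hα2 ((D.sq_eq_one_iff α).mpr (Or.inr h))
      rw [if_neg hne1, if_neg hne0, if_pos hα2, zero_add, zero_add,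
        sum_irr_inner_mul ((isIrrCharacter_psSL_iff α).mpr hα2)]
      simp only [hH', nSL_psSL]
  rw [Finset.sum_congr rfl fun α _ => h3 α, Finset.sum_add_distrib, Finset.sum_add_distrib,
    Finset.sum_ite_eq', Finset.sum_ite_eq']
  simp

open Classical in
omit [Fintype (Matrix.SpecialLinearGroup (Fin 2) F)] [Fintype (Cfsg.IrrCharacter (Matrix.SpecialLinearGroup (Fin 2) F))] in
theorem sum_ite_sq_ne_one (hα : α₀ ^ 2 = 1) (hα1 : α₀ ≠ 1) (c : ℂ) :
    ∑ α : MulChar F ℂ, (if α ^ 2 ≠ 1 then c else 0) = ((Fintype.card F : ℂ) - 3) * c := by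
  have h1 : ∀ α : MulChar F ℂ, (if α ^ 2 ≠ 1 then c else 0) =
      c - (if α = 1 then c else 0) - (if α = α₀ then c else 0) := by
    intro α
    by_cases h : α = 1
    · subst h
      rw [if_neg (by simp), if_pos rfl, if_neg (Ne.symm hα1)]; ring
    · by_cases h' : α = α₀
      · subst h'
        rw [if_neg (not_not.mpr hα), if_neg h, if_pos rfl]; ring
      · have h2 : α ^ 2 ≠ 1 := fun h2 => h' (mulChar_quadratic_unique α α₀ h2 h hα hα1)
        rw [if_pos h2, if_neg h, if_neg h']; ring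
  rw [Finset.sum_congr rfl fun α _ => h1 α, Finset.sum_sub_distrib, Finset.sum_sub_distrib,
    Finset.sum_ite_eq', Finset.sum_ite_eq', Finset.sum_const, Finset.card_univ, nsmul_eq_mul,
    card_mulChar_cast]
  simp
  ring

end WithData

end Cfsg.Agent.H44
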