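import Cfsg.Agent.H44.SL2OddC

/-!
# Cuspidal characters of SL₂(F), odd characteristic: types and counting (helper44)
-/

set_option autoImplicit false

namespace Cfsg.Agent.H44

open Matrix
open scoped ComplexConjugate

variable {F : Type*} [Field F] [Fintype F] [Fintype (Matrix.SpecialLinearGroup (Fin 2) F)]

omit [Fintype (Matrix.SpecialLinearGroup (Fin 2) F)] in
theorem mU_const_one {ψ : AddChar F ℂ} (hψ : ψ.IsPrimitive) :
    mU ψ (fun _ : Matrix.SpecialLinearGroup (Fin 2) F => (1 : ℂ)) = 0 := by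
  unfold mU
  simp only [one_mul]
  rw [sum_addChar_neg hψ, mul_zero]

theorem mU_stSL {ψ : AddChar F ℂ} (hψ : ψ.IsPrimitive) : mU ψ (stSL (F := F)) = 1 := by
  unfold stSL
  rw [mU_sub, mU_psSL 1 hψ, mU_const_one hψ, sub_zero]

/-- The multiplicity of the trivial character of the unipotent subgroup is the total
multiplicity in the principal series. -/
theorem mU_one_eq [Fintype (MulChar F ℂ)] {χ : Matrix.SpecialLinearGroup (Fin 2) F → ℂ}
    (hχ : Cfsg.IsClassFunction (Matrix.SpecialLinearGroup (Fin 2) F) χ) :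
    mU (1 : AddChar F ℂ) χ = conj (nSL χ) := by
  classical
  unfold nSL
  simp_rw [classInner_psSL_left _ χ hχ]
  rw [← Finset.mul_sum, Finset.sum_comm]
  simp_rw [← Finset.sum_mul, sum_mulChar_apply]
  have h1 : ∀ a : Fˣ, (if (a : F) = 1 then (Fintype.card F : ℂ) - 1 else 0) *
      conj (∑ x : F, χ (triSL' a x)) =
      if a = 1 then ((Fintype.card F : ℂ) - 1) * conj (∑ x : F, χ (triSL' 1 x)) else 0 := by
    intro a
    by_cases ha : a = 1
    · subst ha; simp
    · have : (a : F) ≠ 1 := fun h => ha (Units.ext h)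
      rw [if_neg this, if_neg ha, zero_mul]
  rw [Finset.sum_congr rfl fun a _ => h1 a, Finset.sum_ite_eq', if_pos (Finset.mem_univ _)]
  unfold mU
  simp only [AddChar.one_apply, mul_one]
  rw [map_mul, map_mul, Complex.conj_conj, map_inv₀, map_mul, map_sub, Complex.conj_natCast, map_one]
  have hq := card_ne_zero_complex (F := F)
  have hq1 := card_sub_one_ne_zero (F := F)
  simp_rw [uSL_eq_triSL']
  field_simp

theorem mU_one_cuspidal {χ : Matrix.SpecialLinearGroup (Fin 2) F → ℂ}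
    (hχ : Cfsg.IsClassFunction (Matrix.SpecialLinearGroup (Fin 2) F) χ) (hc : IsCuspidalSL χ) :
    mU (1 : AddChar F ℂ) χ = 0 := by
  classical
  letI : Fintype (MulChar F ℂ) := Fintype.ofFinite _
  rw [mU_one_eq hχ, nSL_cuspidal hc, map_zero]

section Types

variable {α₀ : MulChar F ℂ} {ψ : AddChar F ℂ} {ε : F}

open Classical in
omit [Fintype (Matrix.SpecialLinearGroup (Fin 2) F)] in
/-- The multiplicities of a class function at the shifts of a primitive character, in terms of
the two basic multiplicities. -/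
theorem mU_mulShift_eq (hα : α₀ ^ 2 = 1) (hα1 : α₀ ≠ 1) (hε : ¬ IsSquare ε)
    {χ : Matrix.SpecialLinearGroup (Fin 2) F → ℂ}
    (hχ : Cfsg.IsClassFunction (Matrix.SpecialLinearGroup (Fin 2) F) χ) (c : F) :
    mU (ψ.mulShift c) χ = (if c = 0 then mU (1 : AddChar F ℂ) χ else 0) +
      ((1 : MulChar F ℂ) c * ((mU ψ χ + mU (ψ.mulShift ε) χ) / 2) +
        α₀ c * ((mU ψ χ - mU (ψ.mulShift ε) χ) / 2)) := by
  have hε0 : ε ≠ 0 := by rintro rfl; exact hε IsSquare.zero
  by_cases hc : c = 0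
  · subst hc
    rw [if_pos rfl, AddChar.mulShift_zero, MulChar.map_zero, MulChar.map_zero]
    ring
  · rw [if_neg hc, zero_add, MulChar.one_apply (isUnit_iff_ne_zero.mpr hc),
      mulChar_quadratic_apply α₀ hα hα1 c hc]
    by_cases hsq : IsSquare c
    · rw [if_pos hsq]
      obtain ⟨s, rfl⟩ := hsq
      have hs : s ≠ 0 := by rintro rfl; simp at hc
      have := mU_mulShift_sq ψ hχ 1 s hs
      rw [one_mul, pow_two, AddChar.mulShift_one] at this
      rw [this]; ring
    · rw [if_neg hsq]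
      obtain ⟨s, hs⟩ := isSquare_mul_of_not_isSquare hsq hε
      have hs0 : s ≠ 0 := by
        rintro rfl
        rw [mul_zero] at hs
        rcases mul_eq_zero.mp hs with h | h
        · exact hc h
        · exact hε0 h
      have hc' : c = ε * (s / ε) ^ 2 := by
        field_simp
        linear_combination hs
      have := mU_mulShift_sq ψ hχ ε (s / ε) (div_ne_zero hs0 hε0)
      rw [← hc'] at this
      rw [this]; ring

omit [Fintype (Matrix.SpecialLinearGroup (Fin 2) F)] in
/-- The degree in terms of the multiplicities. -/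
theorem degree_eq_mU (hα : α₀ ^ 2 = 1) (hα1 : α₀ ≠ 1) (hψ : ψ.IsPrimitive) (hε : ¬ IsSquare ε)
    {χ : Matrix.SpecialLinearGroup (Fin 2) F → ℂ}
    (hχ : Cfsg.IsClassFunction (Matrix.SpecialLinearGroup (Fin 2) F) χ) :
    χ 1 = mU (1 : AddChar F ℂ) χ +
      (((Fintype.card F : ℂ) - 1) / 2) * (mU ψ χ + mU (ψ.mulShift ε) χ) := by
  classical
  rw [← sum_mU_mulShift hψ χ, Finset.sum_congr rfl fun c _ => mU_mulShift_eq hα hα1 hε hχ c,
    Finset.sum_add_distrib, Finset.sum_add_distrib, Finset.sum_ite_eq', if_pos (Finset.mem_univ _),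
    ← Finset.sum_mul, ← Finset.sum_mul, MulChar.sum_eq_zero_of_ne_one hα1, MulChar.sum_one_eq_card_units,
    ← Nat.card_eq_fintype_card (α := Fˣ), Nat.card_units, Nat.card_eq_fintype_card,
    Nat.cast_sub Fintype.card_pos]
  push_cast
  ring

omit [Fintype (Matrix.SpecialLinearGroup (Fin 2) F)] in
/-- The value at the transvection in terms of the multiplicities and the Gauss sum. -/
theorem uSL_one_eq_mU (hα : α₀ ^ 2 = 1) (hα1 : α₀ ≠ 1) (hψ : ψ.IsPrimitive) (hε : ¬ IsSquare ε)
    {χ : Matrix.SpecialLinearGroup (Fin 2) F → ℂ}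
    (hχ : Cfsg.IsClassFunction (Matrix.SpecialLinearGroup (Fin 2) F) χ) :
    χ (uSL 1) = mU (1 : AddChar F ℂ) χ - (mU ψ χ + mU (ψ.mulShift ε) χ) / 2 +
      ((mU ψ χ - mU (ψ.mulShift ε) χ) / 2) * ∑ y : F, α₀ y * ψ y := by
  classical
  rw [uSL_eq_sum_mU hψ χ 1]
  simp only [mul_one]
  rw [Finset.sum_congr rfl fun c _ => by rw [mU_mulShift_eq hα hα1 hε hχ c, add_mul, add_mul]]
  rw [Finset.sum_add_distrib, Finset.sum_add_distrib]
  have h1 : ∀ c : F, (if c = 0 then mU (1 : AddChar F ℂ) χ else 0) * ψ c =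
      if c = 0 then mU (1 : AddChar F ℂ) χ else 0 := by
    intro c
    by_cases hc : c = 0
    · rw [if_pos hc, hc, AddChar.map_zero_eq_one, mul_one]
    · rw [if_neg hc, zero_mul]
  have h2 : ∀ c : F, (1 : MulChar F ℂ) c * ((mU ψ χ + mU (ψ.mulShift ε) χ) / 2) * ψ c =
      ((mU ψ χ + mU (ψ.mulShift ε) χ) / 2) * ((1 : MulChar F ℂ) c * ψ c) := fun c => by ring
  have h3 : ∀ c : F, α₀ c * ((mU ψ χ - mU (ψ.mulShift ε) χ) / 2) * ψ c =
      ((mU ψ χ - mU (ψ.mulShift ε) χ) / 2) * (α₀ c * ψ c) := fun c => by ring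
  rw [Finset.sum_congr rfl fun c _ => h1 c, Finset.sum_congr rfl fun c _ => h2 c,
    Finset.sum_congr rfl fun c _ => h3 c, Finset.sum_ite_eq', if_pos (Finset.mem_univ _),
    ← Finset.mul_sum, ← Finset.mul_sum, sum_one_mulChar_addChar hψ]
  ring

end Types

end Cfsg.Agent.H44
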