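import Cfsg.Agent.H44.SL2OddD
import Cfsg.Agent.H44.GL2Final

/-!
# Cuspidal characters of SL₂(F), odd characteristic: counting the types (helper44)
-/

set_option autoImplicit false

namespace Cfsg.Agent.H44

open Matrix
open scoped ComplexConjugate

variable {F : Type*} [Field F] [Fintype F] [Fintype (Matrix.SpecialLinearGroup (Fin 2) F)]
  [Fintype (MulChar F ℂ)] [Fintype (Cfsg.IrrCharacter (Matrix.SpecialLinearGroup (Fin 2) F))]
  {α₀ : MulChar F ℂ} {ξ₁ ξ₂ : Matrix.SpecialLinearGroup (Fin 2) F → ℂ}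

omit [Fintype (MulChar F ℂ)] in
theorem card_irr_SL2_odd (hodd : Odd (Fintype.card F)) :
    (Fintype.card (Cfsg.IrrCharacter (Matrix.SpecialLinearGroup (Fin 2) F)) : ℂ) = (Fintype.card F : ℂ) + 4 := by
  have h := Cfsg.Agent.H4.card_irr_eq_card_conjClasses (G := Matrix.SpecialLinearGroup (Fin 2) F)
  rw [card_conjClasses_SL2_odd hodd, Nat.card_eq_fintype_card] at h
  rw [h]
  push_cast
  ring

open Classical in
theorem card_cuspidal_SL2_odd (hodd : Odd (Fintype.card F)) (D : QuadDecomp α₀ ξ₁ ξ₂) :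
    (∑ χ : Cfsg.IrrCharacter (Matrix.SpecialLinearGroup (Fin 2) F), if IsCuspidalSL χ.1 then (1 : ℂ) else 0) =
      ((Fintype.card F : ℂ) + 3) / 2 := by
  have h := SL2_odd_master D (fun _ => (1 : ℂ))
  simp only [Finset.sum_const, Finset.card_univ, nsmul_eq_mul, mul_one] at h
  rw [card_irr_SL2_odd hodd, sum_ite_sq_ne_one D.sq D.ne_one] at h
  linear_combination -h

open Classical in
theorem sum_cuspidal_sq_SL2_odd (D : QuadDecomp α₀ ξ₁ ξ₂) :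
    (∑ χ : Cfsg.IrrCharacter (Matrix.SpecialLinearGroup (Fin 2) F), if IsCuspidalSL χ.1 then χ.1 1 ^ 2 else 0) =
      (Fintype.card F : ℂ) * ((Fintype.card F : ℂ) - 1) ^ 2 / 2 := by
  have h := SL2_odd_master D (fun f => f 1 ^ 2)
  simp only [stSL_one, psSL_one, D.deg₁, D.deg₂] at h
  rw [sum_irr_sq_SL2, sum_ite_sq_ne_one D.sq D.ne_one] at h
  linear_combination -h

omit [Fintype (MulChar F ℂ)] [Fintype (Cfsg.IrrCharacter (Matrix.SpecialLinearGroup (Fin 2) F))] in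
theorem QuadDecomp.mU_sum (D : QuadDecomp α₀ ξ₁ ξ₂) {ψ : AddChar F ℂ} (hψ : ψ.IsPrimitive) :
    mU ψ ξ₁ + mU ψ ξ₂ = 1 := by
  rw [← mU_add, ← D.sum, mU_psSL α₀ hψ]

omit [Fintype (MulChar F ℂ)] [Fintype (Cfsg.IrrCharacter (Matrix.SpecialLinearGroup (Fin 2) F))] in
theorem QuadDecomp.mU_norm_sum (D : QuadDecomp α₀ ξ₁ ξ₂) {ψ : AddChar F ℂ} (hψ : ψ.IsPrimitive) :
    mU ψ ξ₁ * conj (mU ψ ξ₁) + mU ψ ξ₂ * conj (mU ψ ξ₂) = 1 := by
  obtain ⟨n₁, h₁⟩ := mU_nat ψ (Cfsg.Agent.H4.isCharacter_of_isIrrCharacter D.irr₁)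
  obtain ⟨n₂, h₂⟩ := mU_nat ψ (Cfsg.Agent.H4.isCharacter_of_isIrrCharacter D.irr₂)
  have hs := D.mU_sum hψ
  rw [h₁, h₂] at hs ⊢
  have h3 : n₁ + n₂ = 1 := by exact_mod_cast hs
  rw [Complex.conj_natCast, Complex.conj_natCast]
  have h4 : n₁ * n₁ + n₂ * n₂ = 1 := by
    rcases Nat.eq_zero_or_pos n₁ with h | h
    · have h5 : n₂ = 1 := by omega
      rw [h, h5]
    · have h1 : n₁ = 1 := by omega
      have h2 : n₂ = 0 := by omega
      rw [h1, h2]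
  exact_mod_cast h4

open Classical in
theorem sum_cuspidal_mU_norm (hodd : Odd (Fintype.card F)) (D : QuadDecomp α₀ ξ₁ ξ₂)
    {ψ : AddChar F ℂ} (hψ : ψ.IsPrimitive) :
    (∑ χ : Cfsg.IrrCharacter (Matrix.SpecialLinearGroup (Fin 2) F),
      if IsCuspidalSL χ.1 then mU ψ χ.1 * conj (mU ψ χ.1) else 0) = ((Fintype.card F : ℂ) + 1) / 2 := by
  have h := SL2_odd_master D (fun f => mU ψ f * conj (mU ψ f))
  simp only [mU_const_one hψ, mU_stSL hψ, mU_psSL _ hψ] at h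
  rw [sum_mU_norm hodd hψ, D.mU_norm_sum hψ, sum_ite_sq_ne_one D.sq D.ne_one] at h
  simp only [map_zero, map_one, mul_zero, mul_one, zero_add] at h
  linear_combination -h

section Types

variable {ψ : AddChar F ℂ} {ε : F}

omit [Fintype F] [Fintype (Matrix.SpecialLinearGroup (Fin 2) F)] [Fintype (MulChar F ℂ)]
  [Fintype (Cfsg.IrrCharacter (Matrix.SpecialLinearGroup (Fin 2) F))] in
theorem isPrimitive_mulShift (hψ : ψ.IsPrimitive) (hε0 : ε ≠ 0) : (ψ.mulShift ε).IsPrimitive := by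
  intro a ha
  rw [AddChar.mulShift_mulShift]
  exact hψ (mul_ne_zero hε0 ha)

omit [Fintype (MulChar F ℂ)] [Fintype (Cfsg.IrrCharacter (Matrix.SpecialLinearGroup (Fin 2) F))] in
theorem cuspidal_degree_eq_mU (D : QuadDecomp α₀ ξ₁ ξ₂) (hψ : ψ.IsPrimitive) (hε : ¬ IsSquare ε)
    {χ : Matrix.SpecialLinearGroup (Fin 2) F → ℂ}
    (hχ : Cfsg.IsClassFunction (Matrix.SpecialLinearGroup (Fin 2) F) χ) (hc : IsCuspidalSL χ) :
    χ 1 = (((Fintype.card F : ℂ) - 1) / 2) * (mU ψ χ + mU (ψ.mulShift ε) χ) := by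
  have h := degree_eq_mU D.sq D.ne_one hψ hε hχ
  rw [mU_one_cuspidal hχ hc, zero_add] at h
  exact h

omit [Fintype (MulChar F ℂ)] [Fintype (Cfsg.IrrCharacter (Matrix.SpecialLinearGroup (Fin 2) F))] in
theorem cuspidal_uSL_eq_mU (D : QuadDecomp α₀ ξ₁ ξ₂) (hψ : ψ.IsPrimitive) (hε : ¬ IsSquare ε)
    {χ : Matrix.SpecialLinearGroup (Fin 2) F → ℂ}
    (hχ : Cfsg.IsClassFunction (Matrix.SpecialLinearGroup (Fin 2) F) χ) (hc : IsCuspidalSL χ) :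
    χ (uSL 1) = - (mU ψ χ + mU (ψ.mulShift ε) χ) / 2 +
      ((mU ψ χ - mU (ψ.mulShift ε) χ) / 2) * ∑ y : F, α₀ y * ψ y := by
  have h := uSL_one_eq_mU D.sq D.ne_one hψ hε hχ
  rw [mU_one_cuspidal hχ hc, zero_sub] at h
  rw [h]
  ring

open Classical in
/-- The three types of cuspidal irreducible characters. -/
theorem cuspidal_type (hodd : Odd (Fintype.card F)) (D : QuadDecomp α₀ ξ₁ ξ₂) (hψ : ψ.IsPrimitive)
    (hε : ¬ IsSquare ε) {χ : Matrix.SpecialLinearGroup (Fin 2) F → ℂ}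
    (hirr : Cfsg.IsIrrCharacter (Matrix.SpecialLinearGroup (Fin 2) F) χ) (hc : IsCuspidalSL χ) :
    (mU ψ χ = 1 ∧ mU (ψ.mulShift ε) χ = 1) ∨ (mU ψ χ = 1 ∧ mU (ψ.mulShift ε) χ = 0) ∨
    (mU ψ χ = 0 ∧ mU (ψ.mulShift ε) χ = 1) := by
  have hε0 : ε ≠ 0 := by rintro rfl; exact hε IsSquare.zero
  have hψ' := isPrimitive_mulShift hψ hε0
  have hex : ∀ χ' : Cfsg.IrrCharacter (Matrix.SpecialLinearGroup (Fin 2) F), ∃ a b : ℕ,
      mU ψ χ'.1 = a ∧ mU (ψ.mulShift ε) χ'.1 = b := by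
    intro χ'
    obtain ⟨a, ha⟩ := mU_nat ψ (Cfsg.Agent.H4.isCharacter_of_isIrrCharacter χ'.2)
    obtain ⟨b, hb⟩ := mU_nat (ψ.mulShift ε) (Cfsg.Agent.H4.isCharacter_of_isIrrCharacter χ'.2)
    exact ⟨a, b, ha, hb⟩
  choose A B hA hB using hex
  have hq1 := card_sub_one_ne_zero (F := F)
  have hdeg : ∀ χ' : Cfsg.IrrCharacter (Matrix.SpecialLinearGroup (Fin 2) F), IsCuspidalSL χ'.1 →
      χ'.1 1 = (((Fintype.card F : ℂ) - 1) / 2) * ((A χ' : ℂ) + (B χ' : ℂ)) := by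
    intro χ' hc'
    rw [← hA, ← hB]
    exact cuspidal_degree_eq_mU D hψ hε (Cfsg.Agent.H4.isClassFunction_of_isCharacter
      (Cfsg.Agent.H4.isCharacter_of_isIrrCharacter χ'.2)) hc'
  have hpos : ∀ χ' : Cfsg.IrrCharacter (Matrix.SpecialLinearGroup (Fin 2) F), IsCuspidalSL χ'.1 →
      1 ≤ A χ' + B χ' := by
    intro χ' hc'
    by_contra h0
    have hA0 : A χ' = 0 := by omega
    have hB0 : B χ' = 0 := by omega
    have h1 := hdeg χ' hc'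
    rw [hA0, hB0] at h1
    simp at h1
    exact Cfsg.Agent.H4.irr_one_ne_zero χ' h1
  set k : Cfsg.IrrCharacter (Matrix.SpecialLinearGroup (Fin 2) F) → ℤ := fun χ' =>
    if IsCuspidalSL χ'.1 then (A χ' : ℤ) ^ 2 + (B χ' : ℤ) ^ 2 - (A χ' : ℤ) * (B χ' : ℤ) - 1 else 0 with hk
  have hknn : ∀ χ', 0 ≤ k χ' := by
    intro χ'
    simp only [hk]
    split_ifs with hc'
    · have h1 := hpos χ' hc'
      rcases Nat.eq_zero_or_pos (A χ') with h2 | h2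
      · rw [h2]
        have h3 : (1 : ℤ) ≤ B χ' := by exact_mod_cast (by omega : 1 ≤ B χ')
        nlinarith
      · rcases Nat.eq_zero_or_pos (B χ') with h3 | h3
        · rw [h3]
          have h4 : (1 : ℤ) ≤ A χ' := by exact_mod_cast h2
          nlinarith
        · have h4 : (1 : ℤ) ≤ A χ' := by exact_mod_cast h2
          have h5 : (1 : ℤ) ≤ B χ' := by exact_mod_cast h3
          nlinarith [sq_nonneg ((A χ' : ℤ) - B χ'), mul_nonneg (sub_nonneg.mpr h4) (sub_nonneg.mpr h5)]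
    · exact le_refl _
  have hkC : ∀ χ' : Cfsg.IrrCharacter (Matrix.SpecialLinearGroup (Fin 2) F), ((k χ' : ℤ) : ℂ) =
      3 / 2 * ((if IsCuspidalSL χ'.1 then mU ψ χ'.1 * conj (mU ψ χ'.1) else 0) +
        (if IsCuspidalSL χ'.1 then mU (ψ.mulShift ε) χ'.1 * conj (mU (ψ.mulShift ε) χ'.1) else 0)) -
      2 / ((Fintype.card F : ℂ) - 1) ^ 2 * (if IsCuspidalSL χ'.1 then χ'.1 1 ^ 2 else 0) -
      (if IsCuspidalSL χ'.1 then (1 : ℂ) else 0) := by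
    intro χ'
    by_cases hc' : IsCuspidalSL χ'.1
    · simp only [hk, if_pos hc']
      rw [hdeg χ' hc', hA, hB, Complex.conj_natCast, Complex.conj_natCast]
      push_cast
      field_simp
      ring
    · simp only [hk, if_neg hc']
      simp
  have hsum : ∑ χ' : Cfsg.IrrCharacter (Matrix.SpecialLinearGroup (Fin 2) F), ((k χ' : ℤ) : ℂ) = 0 := by
    rw [Finset.sum_congr rfl fun χ' _ => hkC χ', Finset.sum_sub_distrib, Finset.sum_sub_distrib,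
      ← Finset.mul_sum, ← Finset.mul_sum, Finset.sum_add_distrib,
      sum_cuspidal_mU_norm hodd D hψ, sum_cuspidal_mU_norm hodd D hψ', sum_cuspidal_sq_SL2_odd D,
      card_cuspidal_SL2_odd hodd D]
    field_simp
    ring
  have hsum2 : ∑ χ' : Cfsg.IrrCharacter (Matrix.SpecialLinearGroup (Fin 2) F), k χ' = 0 := by
    have : ((∑ χ' : Cfsg.IrrCharacter (Matrix.SpecialLinearGroup (Fin 2) F), k χ' : ℤ) : ℂ) = 0 := by
      rw [Int.cast_sum]; exact hsum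
    exact_mod_cast this
  have hk0 : k ⟨χ, hirr⟩ = 0 :=
    (Finset.sum_eq_zero_iff_of_nonneg (fun χ' _ => hknn χ')).mp hsum2 ⟨χ, hirr⟩ (Finset.mem_univ _)
  simp only [hk, if_pos hc] at hk0
  have hA' : mU ψ χ = (A ⟨χ, hirr⟩ : ℂ) := hA ⟨χ, hirr⟩
  have hB' : mU (ψ.mulShift ε) χ = (B ⟨χ, hirr⟩ : ℂ) := hB ⟨χ, hirr⟩
  rw [hA', hB']
  have hA0 : (0 : ℤ) ≤ A ⟨χ, hirr⟩ := Int.natCast_nonneg _
  have hB0 : (0 : ℤ) ≤ B ⟨χ, hirr⟩ := Int.natCast_nonneg _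
  have hAle : A ⟨χ, hirr⟩ ≤ 1 := by
    by_contra h
    push Not at h
    have h2 : (2 : ℤ) ≤ A ⟨χ, hirr⟩ := by exact_mod_cast h
    nlinarith [sq_nonneg (2 * (B ⟨χ, hirr⟩ : ℤ) - A ⟨χ, hirr⟩)]
  have hBle : B ⟨χ, hirr⟩ ≤ 1 := by
    by_contra h
    push Not at h
    have h2 : (2 : ℤ) ≤ B ⟨χ, hirr⟩ := by exact_mod_cast h
    nlinarith [sq_nonneg (2 * (A ⟨χ, hirr⟩ : ℤ) - B ⟨χ, hirr⟩)]
  have hAc : A ⟨χ, hirr⟩ = 0 ∨ A ⟨χ, hirr⟩ = 1 := by omega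
  have hBc : B ⟨χ, hirr⟩ = 0 ∨ B ⟨χ, hirr⟩ = 1 := by omega
  rcases hAc with h1 | h1 <;> rcases hBc with h2 | h2 <;> rw [h1, h2] at hk0 ⊢ <;> simp at hk0 ⊢

open Classical in
theorem sum_cuspidal_mU_mul (hodd : Odd (Fintype.card F)) (D : QuadDecomp α₀ ξ₁ ξ₂) (hψ : ψ.IsPrimitive)
    (hε : ¬ IsSquare ε) :
    (∑ χ : Cfsg.IrrCharacter (Matrix.SpecialLinearGroup (Fin 2) F),
      if IsCuspidalSL χ.1 then mU ψ χ.1 * mU (ψ.mulShift ε) χ.1 else 0) = ((Fintype.card F : ℂ) - 1) / 2 := by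
  have hε0 : ε ≠ 0 := by rintro rfl; exact hε IsSquare.zero
  have hψ' := isPrimitive_mulShift hψ hε0
  have hq1 := card_sub_one_ne_zero (F := F)
  have h1 : ∀ χ : Cfsg.IrrCharacter (Matrix.SpecialLinearGroup (Fin 2) F),
      (if IsCuspidalSL χ.1 then mU ψ χ.1 * mU (ψ.mulShift ε) χ.1 else 0) =
      2 / ((Fintype.card F : ℂ) - 1) ^ 2 * (if IsCuspidalSL χ.1 then χ.1 1 ^ 2 else 0) -
      ((if IsCuspidalSL χ.1 then mU ψ χ.1 * conj (mU ψ χ.1) else 0) +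
        (if IsCuspidalSL χ.1 then mU (ψ.mulShift ε) χ.1 * conj (mU (ψ.mulShift ε) χ.1) else 0)) / 2 := by
    intro χ
    by_cases hc : IsCuspidalSL χ.1
    · simp only [if_pos hc]
      obtain ⟨a, ha⟩ := mU_nat ψ (Cfsg.Agent.H4.isCharacter_of_isIrrCharacter χ.2)
      obtain ⟨b, hb⟩ := mU_nat (ψ.mulShift ε) (Cfsg.Agent.H4.isCharacter_of_isIrrCharacter χ.2)
      rw [cuspidal_degree_eq_mU D hψ hε (Cfsg.Agent.H4.isClassFunction_of_isCharacter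
        (Cfsg.Agent.H4.isCharacter_of_isIrrCharacter χ.2)) hc, ha, hb, Complex.conj_natCast,
        Complex.conj_natCast]
      field_simp
      ring
    · simp only [if_neg hc]
      simp
  rw [Finset.sum_congr rfl fun χ _ => h1 χ, Finset.sum_sub_distrib, ← Finset.mul_sum, ← Finset.sum_div,
    Finset.sum_add_distrib, sum_cuspidal_mU_norm hodd D hψ, sum_cuspidal_mU_norm hodd D hψ',
    sum_cuspidal_sq_SL2_odd D]
  field_simp
  ring

omit [Fintype F] [Fintype (Matrix.SpecialLinearGroup (Fin 2) F)] [Fintype (MulChar F ℂ)]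
  [Fintype (Cfsg.IrrCharacter (Matrix.SpecialLinearGroup (Fin 2) F))] [Field F] in
theorem unique_of_sum_indicator {ι : Type*} [Fintype ι] (P : ι → Prop) [DecidablePred P]
    (h : ∑ x : ι, (if P x then (1 : ℂ) else 0) = 1) (x y : ι) (hx : P x) (hy : P y) : x = y := by
  have h1 : (Nat.card {x // P x} : ℂ) = 1 := by rw [natCard_subtype_eq_sum]; exact h
  have h2 : Nat.card {x // P x} = 1 := by exact_mod_cast h1
  have h3 : Subsingleton {x // P x} := (Nat.card_eq_one_iff_unique.mp h2).1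
  exact congrArg Subtype.val (Subsingleton.elim (⟨x, hx⟩ : {x // P x}) ⟨y, hy⟩)

open Classical in
/-- There is only one cuspidal irreducible character of type `(1, 0)`. -/
theorem cuspidal_type10_unique (hodd : Odd (Fintype.card F)) (D : QuadDecomp α₀ ξ₁ ξ₂) (hψ : ψ.IsPrimitive)
    (hε : ¬ IsSquare ε) {χ₁ χ₂ : Matrix.SpecialLinearGroup (Fin 2) F → ℂ}
    (h₁ : Cfsg.IsIrrCharacter (Matrix.SpecialLinearGroup (Fin 2) F) χ₁)
    (h₂ : Cfsg.IsIrrCharacter (Matrix.SpecialLinearGroup (Fin 2) F) χ₂)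
    (hc₁ : IsCuspidalSL χ₁) (hc₂ : IsCuspidalSL χ₂)
    (ha₁ : mU ψ χ₁ = 1) (hb₁ : mU (ψ.mulShift ε) χ₁ = 0)
    (ha₂ : mU ψ χ₂ = 1) (hb₂ : mU (ψ.mulShift ε) χ₂ = 0) : χ₁ = χ₂ := by
  have hε0 : ε ≠ 0 := by rintro rfl; exact hε IsSquare.zero
  have hψ' := isPrimitive_mulShift hψ hε0
  set P : Cfsg.IrrCharacter (Matrix.SpecialLinearGroup (Fin 2) F) → Prop := fun χ =>
    IsCuspidalSL χ.1 ∧ mU ψ χ.1 = 1 ∧ mU (ψ.mulShift ε) χ.1 = 0 with hP
  have h1 : ∀ χ : Cfsg.IrrCharacter (Matrix.SpecialLinearGroup (Fin 2) F),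
      (if P χ then (1 : ℂ) else 0) =
      (if IsCuspidalSL χ.1 then mU ψ χ.1 * conj (mU ψ χ.1) else 0) -
      (if IsCuspidalSL χ.1 then mU ψ χ.1 * mU (ψ.mulShift ε) χ.1 else 0) := by
    intro χ
    by_cases hc : IsCuspidalSL χ.1
    · rcases cuspidal_type hodd D hψ hε χ.2 hc with ⟨ha, hb⟩ | ⟨ha, hb⟩ | ⟨ha, hb⟩
      · rw [if_neg (fun h : P χ => by rw [h.2.2] at hb; exact zero_ne_one hb), if_pos hc, if_pos hc, ha, hb]
        simp
      · rw [if_pos (⟨hc, ha, hb⟩ : P χ), if_pos hc, if_pos hc, ha, hb]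
        simp
      · rw [if_neg (fun h : P χ => by rw [h.2.1] at ha; exact one_ne_zero ha), if_pos hc, if_pos hc, ha, hb]
        simp
    · rw [if_neg (fun h : P χ => hc h.1), if_neg hc, if_neg hc, sub_zero]
  have h2 : ∑ χ : Cfsg.IrrCharacter (Matrix.SpecialLinearGroup (Fin 2) F), (if P χ then (1 : ℂ) else 0) = 1 := by
    rw [Finset.sum_congr rfl fun χ _ => h1 χ, Finset.sum_sub_distrib, sum_cuspidal_mU_norm hodd D hψ,
      sum_cuspidal_mU_mul hodd D hψ hε]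
    ring
  exact congrArg Subtype.val (unique_of_sum_indicator P h2 ⟨χ₁, h₁⟩ ⟨χ₂, h₂⟩ ⟨hc₁, ha₁, hb₁⟩ ⟨hc₂, ha₂, hb₂⟩)

open Classical in
/-- There is only one cuspidal irreducible character of type `(0, 1)`. -/
theorem cuspidal_type01_unique (hodd : Odd (Fintype.card F)) (D : QuadDecomp α₀ ξ₁ ξ₂) (hψ : ψ.IsPrimitive)
    (hε : ¬ IsSquare ε) {χ₁ χ₂ : Matrix.SpecialLinearGroup (Fin 2) F → ℂ}
    (h₁ : Cfsg.IsIrrCharacter (Matrix.SpecialLinearGroup (Fin 2) F) χ₁)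
    (h₂ : Cfsg.IsIrrCharacter (Matrix.SpecialLinearGroup (Fin 2) F) χ₂)
    (hc₁ : IsCuspidalSL χ₁) (hc₂ : IsCuspidalSL χ₂)
    (ha₁ : mU ψ χ₁ = 0) (hb₁ : mU (ψ.mulShift ε) χ₁ = 1)
    (ha₂ : mU ψ χ₂ = 0) (hb₂ : mU (ψ.mulShift ε) χ₂ = 1) : χ₁ = χ₂ := by
  have hε0 : ε ≠ 0 := by rintro rfl; exact hε IsSquare.zero
  have hψ' := isPrimitive_mulShift hψ hε0
  set P : Cfsg.IrrCharacter (Matrix.SpecialLinearGroup (Fin 2) F) → Prop := fun χ =>
    IsCuspidalSL χ.1 ∧ mU ψ χ.1 = 0 ∧ mU (ψ.mulShift ε) χ.1 = 1 with hP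
  have h1 : ∀ χ : Cfsg.IrrCharacter (Matrix.SpecialLinearGroup (Fin 2) F),
      (if P χ then (1 : ℂ) else 0) =
      (if IsCuspidalSL χ.1 then mU (ψ.mulShift ε) χ.1 * conj (mU (ψ.mulShift ε) χ.1) else 0) -
      (if IsCuspidalSL χ.1 then mU ψ χ.1 * mU (ψ.mulShift ε) χ.1 else 0) := by
    intro χ
    by_cases hc : IsCuspidalSL χ.1
    · rcases cuspidal_type hodd D hψ hε χ.2 hc with ⟨ha, hb⟩ | ⟨ha, hb⟩ | ⟨ha, hb⟩
      · rw [if_neg (fun h : P χ => by rw [h.2.1] at ha; exact zero_ne_one ha), if_pos hc, if_pos hc, ha, hb]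
        simp
      · rw [if_neg (fun h : P χ => by rw [h.2.1] at ha; exact zero_ne_one ha), if_pos hc, if_pos hc, ha, hb]
        simp
      · rw [if_pos (⟨hc, ha, hb⟩ : P χ), if_pos hc, if_pos hc, ha, hb]
        simp
    · rw [if_neg (fun h : P χ => hc h.1), if_neg hc, if_neg hc, sub_zero]
  have h2 : ∑ χ : Cfsg.IrrCharacter (Matrix.SpecialLinearGroup (Fin 2) F), (if P χ then (1 : ℂ) else 0) = 1 := by
    rw [Finset.sum_congr rfl fun χ _ => h1 χ, Finset.sum_sub_distrib, sum_cuspidal_mU_norm hodd D hψ',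
      sum_cuspidal_mU_mul hodd D hψ hε]
    ring
  exact congrArg Subtype.val (unique_of_sum_indicator P h2 ⟨χ₁, h₁⟩ ⟨χ₂, h₂⟩ ⟨hc₁, ha₁, hb₁⟩ ⟨hc₂, ha₂, hb₂⟩)

end Types

end Cfsg.Agent.H44
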