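import Cfsg.Agent.H44.SL2OddE

/-!
# Classification of the irreducible characters of SL₂(F), odd characteristic (helper44)
-/

set_option autoImplicit false

namespace Cfsg.Agent.H44

open Matrix
open scoped ComplexConjugate

theorem ne_of_lin {q : ℕ} {x y : ℂ} (a b : ℤ) (hxy : x - y = ((a : ℂ) * (q : ℂ) + (b : ℂ)) / 2)
    (h : a * (q : ℤ) + b ≠ 0) : x ≠ y := by
  intro he
  rw [he, sub_self] at hxy
  have h2 : ((a * (q : ℤ) + b : ℤ) : ℂ) = 0 := by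
    push_cast
    linear_combination -2 * hxy
  exact h (by exact_mod_cast h2)

variable {F : Type*} [Field F] [Fintype F]

theorem quadratic_neg_one (hodd : Odd (Fintype.card F)) (α₀ : MulChar F ℂ) (hα : α₀ ^ 2 = 1)
    (hα1 : α₀ ≠ 1) : α₀ (-1) = (-1 : ℂ) ^ ((Fintype.card F - 1) / 2) := by
  classical
  rw [mulChar_quadratic_apply α₀ hα hα1 (-1) (neg_ne_zero.mpr one_ne_zero)]
  have ho := Nat.odd_iff.mp hodd
  by_cases h : IsSquare (-1 : F)
  · rw [if_pos h]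
    have h3 := FiniteField.isSquare_neg_one_iff.mp h
    have h4 : Even ((Fintype.card F - 1) / 2) := by
      rw [Nat.even_iff]; omega
    rw [Even.neg_one_pow h4]
  · rw [if_neg h]
    have h3 : Fintype.card F % 4 = 3 := by
      by_contra h'
      exact h (FiniteField.isSquare_neg_one_iff.mpr h')
    have h4 : Odd ((Fintype.card F - 1) / 2) := by
      rw [Nat.odd_iff]; omega
    rw [Odd.neg_one_pow h4]

theorem half_cast_add (hodd : Odd (Fintype.card F)) :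
    (((Fintype.card F + 1) / 2 : ℕ) : ℂ) = ((Fintype.card F : ℂ) + 1) / 2 := by
  obtain ⟨k, hk⟩ := hodd
  rw [hk]
  have : (2 * k + 1 + 1) / 2 = k + 1 := by omega
  rw [this]
  push_cast
  ring

theorem half_cast_sub (hodd : Odd (Fintype.card F)) :
    (((Fintype.card F - 1) / 2 : ℕ) : ℂ) = ((Fintype.card F : ℂ) - 1) / 2 := by
  obtain ⟨k, hk⟩ := hodd
  rw [hk]
  have : (2 * k + 1 - 1) / 2 = k := by omega
  rw [this]
  push_cast
  ring

variable [Fintype (Matrix.SpecialLinearGroup (Fin 2) F)]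
  [Fintype (MulChar F ℂ)] [Fintype (Cfsg.IrrCharacter (Matrix.SpecialLinearGroup (Fin 2) F))]
  {α₀ : MulChar F ℂ} {ξ₁ ξ₂ : Matrix.SpecialLinearGroup (Fin 2) F → ℂ}

section Types

variable {ψ : AddChar F ℂ} {ε : F}

/-- Degrees and values at the transvection of the cuspidal irreducible characters, by type. -/
theorem cuspidal_values (hodd : Odd (Fintype.card F)) (D : QuadDecomp α₀ ξ₁ ξ₂) (hψ : ψ.IsPrimitive)
    (hε : ¬ IsSquare ε) {χ : Matrix.SpecialLinearGroup (Fin 2) F → ℂ}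
    (hirr : Cfsg.IsIrrCharacter (Matrix.SpecialLinearGroup (Fin 2) F) χ) (hc : IsCuspidalSL χ) :
    (mU ψ χ = 1 ∧ mU (ψ.mulShift ε) χ = 1 ∧ χ 1 = (Fintype.card F : ℂ) - 1 ∧ χ (uSL 1) = -1) ∨
    (mU ψ χ = 1 ∧ mU (ψ.mulShift ε) χ = 0 ∧ χ 1 = ((Fintype.card F : ℂ) - 1) / 2 ∧
      χ (uSL 1) = (-1 + ∑ y : F, α₀ y * ψ y) / 2) ∨
    (mU ψ χ = 0 ∧ mU (ψ.mulShift ε) χ = 1 ∧ χ 1 = ((Fintype.card F : ℂ) - 1) / 2 ∧
      χ (uSL 1) = (-1 - ∑ y : F, α₀ y * ψ y) / 2) := by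
  have hχ := Cfsg.Agent.H4.isClassFunction_of_isCharacter (Cfsg.Agent.H4.isCharacter_of_isIrrCharacter hirr)
  have hd := cuspidal_degree_eq_mU D hψ hε hχ hc
  have hu := cuspidal_uSL_eq_mU D hψ hε hχ hc
  rcases cuspidal_type hodd D hψ hε hirr hc with ⟨ha, hb⟩ | ⟨ha, hb⟩ | ⟨ha, hb⟩
  · refine Or.inl ⟨ha, hb, ?_, ?_⟩
    · rw [hd, ha, hb]; ring
    · rw [hu, ha, hb]; ring
  · refine Or.inr (Or.inl ⟨ha, hb, ?_, ?_⟩)
    · rw [hd, ha, hb]; ring
    · rw [hu, ha, hb]; ring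
  · refine Or.inr (Or.inr ⟨ha, hb, ?_, ?_⟩)
    · rw [hd, ha, hb]; ring
    · rw [hu, ha, hb]; ring

omit [Fintype (Cfsg.IrrCharacter (Matrix.SpecialLinearGroup (Fin 2) F))] in
/-- The value at the transvection of a constituent of the principal series at the quadratic
character. -/
theorem half_ps_uSL (D : QuadDecomp α₀ ξ₁ ξ₂) (hψ : ψ.IsPrimitive) (hε : ¬ IsSquare ε)
    {χ : Matrix.SpecialLinearGroup (Fin 2) F → ℂ}
    (hirr : Cfsg.IsIrrCharacter (Matrix.SpecialLinearGroup (Fin 2) F) χ) (hn : nSL χ = 1)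
    (hd : χ 1 = ((Fintype.card F : ℂ) + 1) / 2) :
    χ (uSL 1) = (1 + ∑ y : F, α₀ y * ψ y) / 2 ∨ χ (uSL 1) = (1 - ∑ y : F, α₀ y * ψ y) / 2 := by
  have hχ := Cfsg.Agent.H4.isClassFunction_of_isCharacter (Cfsg.Agent.H4.isCharacter_of_isIrrCharacter hirr)
  have h1 : mU (1 : AddChar F ℂ) χ = 1 := by rw [mU_one_eq hχ, hn, map_one]
  have hdeg := degree_eq_mU D.sq D.ne_one hψ hε hχ
  have hu := uSL_one_eq_mU D.sq D.ne_one hψ hε hχ
  rw [h1] at hdeg hu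
  obtain ⟨a, ha⟩ := mU_nat ψ (Cfsg.Agent.H4.isCharacter_of_isIrrCharacter hirr)
  obtain ⟨b, hb⟩ := mU_nat (ψ.mulShift ε) (Cfsg.Agent.H4.isCharacter_of_isIrrCharacter hirr)
  rw [ha, hb] at hdeg hu
  have hq1 := card_sub_one_ne_zero (F := F)
  have hab : ((a + b : ℕ) : ℂ) = 1 := by
    push_cast
    rw [hd] at hdeg
    have h2 : ((Fintype.card F : ℂ) - 1) * ((a : ℂ) + (b : ℂ) - 1) = 0 := by linear_combination -2 * hdeg
    rcases mul_eq_zero.mp h2 with h3 | h3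
    · exact absurd h3 hq1
    · linear_combination h3
  have hab' : a + b = 1 := by exact_mod_cast hab
  rcases Nat.eq_zero_or_pos a with h | h
  · have hb1 : b = 1 := by omega
    right
    rw [hu, h, hb1]; push_cast; ring
  · have ha1 : a = 1 := by omega
    have hb0 : b = 0 := by omega
    left
    rw [hu, ha1, hb0]; push_cast; ring

end Types

/-- Classification of the irreducible characters of SL₂, odd characteristic. -/
theorem SL2_odd_irr_cases (hodd : Odd (Fintype.card F)) (D : QuadDecomp α₀ ξ₁ ξ₂)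
    {χ : Matrix.SpecialLinearGroup (Fin 2) F → ℂ}
    (hirr : Cfsg.IsIrrCharacter (Matrix.SpecialLinearGroup (Fin 2) F) χ) :
    χ = (fun _ => (1 : ℂ)) ∨ χ = stSL ∨ (∃ α : MulChar F ℂ, α ^ 2 ≠ 1 ∧ χ = psSL α) ∨ χ = ξ₁ ∨ χ = ξ₂ ∨
      (IsCuspidalSL χ ∧ ((χ 1 = (Fintype.card F : ℂ) - 1 ∧ χ (uSL 1) = -1) ∨
        (χ 1 = ((Fintype.card F : ℂ) - 1) / 2 ∧
          (2 * χ (uSL 1) + 1) ^ 2 = α₀ (-1) * (Fintype.card F : ℂ)))) := by
  by_cases hc : IsCuspidalSL χ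
  · obtain ⟨ψ, hψ⟩ := exists_primitive_addChar (F := F)
    obtain ⟨ε, hε⟩ := FiniteField.exists_nonsquare (ringChar_ne_two_of_odd hodd)
    right; right; right; right; right
    refine ⟨hc, ?_⟩
    rcases cuspidal_values hodd D hψ hε hirr hc with ⟨-, -, h1, h2⟩ | ⟨-, -, h1, h2⟩ | ⟨-, -, h1, h2⟩
    · exact Or.inl ⟨h1, h2⟩
    · refine Or.inr ⟨h1, ?_⟩
      rw [h2, ← gauss_sq α₀ D.sq D.ne_one hψ]; ring
    · refine Or.inr ⟨h1, ?_⟩
      rw [h2, ← gauss_sq α₀ D.sq D.ne_one hψ]; ring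
  · rcases irr_of_not_cuspidalSL_odd D hirr hc with h | h | h | h | h
    · exact Or.inl h
    · exact Or.inr (Or.inl h)
    · exact Or.inr (Or.inr (Or.inl h))
    · exact Or.inr (Or.inr (Or.inr (Or.inl h)))
    · exact Or.inr (Or.inr (Or.inr (Or.inr (Or.inl h))))

omit [Fintype (Cfsg.IrrCharacter (Matrix.SpecialLinearGroup (Fin 2) F))] in
theorem QuadDecomp.uSL_sq (hodd : Odd (Fintype.card F)) (D : QuadDecomp α₀ ξ₁ ξ₂) :
    (2 * ξ₁ (uSL 1) - 1) ^ 2 = α₀ (-1) * (Fintype.card F : ℂ) ∧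
    (2 * ξ₂ (uSL 1) - 1) ^ 2 = α₀ (-1) * (Fintype.card F : ℂ) := by
  obtain ⟨ψ, hψ⟩ := exists_primitive_addChar (F := F)
  obtain ⟨ε, hε⟩ := FiniteField.exists_nonsquare (ringChar_ne_two_of_odd hodd)
  refine ⟨?_, ?_⟩
  · rcases half_ps_uSL D hψ hε D.irr₁ D.nSL₁ D.deg₁ with h | h
    · rw [h, ← gauss_sq α₀ D.sq D.ne_one hψ]; ring
    · rw [h, ← gauss_sq α₀ D.sq D.ne_one hψ]; ring
  · rcases half_ps_uSL D hψ hε D.irr₂ D.nSL₂ D.deg₂ with h | h
    · rw [h, ← gauss_sq α₀ D.sq D.ne_one hψ]; ring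
    · rw [h, ← gauss_sq α₀ D.sq D.ne_one hψ]; ring

omit [Fintype (MulChar F ℂ)] [Fintype (Cfsg.IrrCharacter (Matrix.SpecialLinearGroup (Fin 2) F))] in
theorem QuadDecomp.uSL_sum (D : QuadDecomp α₀ ξ₁ ξ₂) : ξ₁ (uSL 1) + ξ₂ (uSL 1) = 1 := by
  have h := congrFun D.sum (uSL 1)
  rw [psSL_uSL α₀ 1 one_ne_zero] at h
  exact h.symm

/-- Two different cuspidal irreducible characters of degree `(q - 1) / 2`. -/
theorem cuspidal_half_sum (hodd : Odd (Fintype.card F)) (D : QuadDecomp α₀ ξ₁ ξ₂)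
    {χ₁ χ₂ : Matrix.SpecialLinearGroup (Fin 2) F → ℂ}
    (h₁ : Cfsg.IsIrrCharacter (Matrix.SpecialLinearGroup (Fin 2) F) χ₁)
    (h₂ : Cfsg.IsIrrCharacter (Matrix.SpecialLinearGroup (Fin 2) F) χ₂)
    (hc₁ : IsCuspidalSL χ₁) (hc₂ : IsCuspidalSL χ₂) (hne : χ₁ ≠ χ₂)
    (hd₁ : χ₁ 1 = ((Fintype.card F : ℂ) - 1) / 2) (hd₂ : χ₂ 1 = ((Fintype.card F : ℂ) - 1) / 2) :
    χ₁ (uSL 1) + χ₂ (uSL 1) = -1 := by
  obtain ⟨ψ, hψ⟩ := exists_primitive_addChar (F := F)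
  obtain ⟨ε, hε⟩ := FiniteField.exists_nonsquare (ringChar_ne_two_of_odd hodd)
  have hq1 := card_sub_one_ne_zero (F := F)
  have hcontra : ∀ χ : Matrix.SpecialLinearGroup (Fin 2) F → ℂ, χ 1 = ((Fintype.card F : ℂ) - 1) / 2 →
      χ 1 = (Fintype.card F : ℂ) - 1 → False := by
    intro χ h h'
    rw [h] at h'
    apply hq1
    linear_combination -2 * h'
  rcases cuspidal_values hodd D hψ hε h₁ hc₁ with ⟨-, -, h1, -⟩ | ⟨ha₁, hb₁, -, hu₁⟩ | ⟨ha₁, hb₁, -, hu₁⟩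
  · exact absurd h1 (fun h => hcontra χ₁ hd₁ h)
  · rcases cuspidal_values hodd D hψ hε h₂ hc₂ with ⟨-, -, h1, -⟩ | ⟨ha₂, hb₂, -, hu₂⟩ | ⟨ha₂, hb₂, -, hu₂⟩
    · exact absurd h1 (fun h => hcontra χ₂ hd₂ h)
    · exact absurd (cuspidal_type10_unique hodd D hψ hε h₁ h₂ hc₁ hc₂ ha₁ hb₁ ha₂ hb₂) hne
    · rw [hu₁, hu₂]; ring
  · rcases cuspidal_values hodd D hψ hε h₂ hc₂ with ⟨-, -, h1, -⟩ | ⟨ha₂, hb₂, -, hu₂⟩ | ⟨ha₂, hb₂, -, hu₂⟩
    · exact absurd h1 (fun h => hcontra χ₂ hd₂ h)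
    · rw [hu₁, hu₂]; ring
    · exact absurd (cuspidal_type01_unique hodd D hψ hε h₁ h₂ hc₁ hc₂ ha₁ hb₁ ha₂ hb₂) hne

open Classical in
/-- The number of irreducible characters of SL₂ of a given degree, odd characteristic. -/
theorem SL2_odd_degree_count (hodd : Odd (Fintype.card F)) (D : QuadDecomp α₀ ξ₁ ξ₂) (c : ℂ) :
    (∑ χ : Cfsg.IrrCharacter (Matrix.SpecialLinearGroup (Fin 2) F), if χ.1 1 = c then (1 : ℂ) else 0) =
      ((if (Fintype.card F : ℂ) - 1 = c then ((Fintype.card F : ℂ) - 1) / 2 else 0) +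
        (if ((Fintype.card F : ℂ) - 1) / 2 = c then 2 else 0)) +
      (((if (1 : ℂ) = c then 1 else 0) + (if (Fintype.card F : ℂ) = c then 1 else 0)) +
      (((if ((Fintype.card F : ℂ) + 1) / 2 = c then 1 else 0) +
        (if ((Fintype.card F : ℂ) + 1) / 2 = c then 1 else 0)) +
      (if (Fintype.card F : ℂ) + 1 = c then ((Fintype.card F : ℂ) - 3) / 2 else 0))) := by
  obtain ⟨ψ, hψ⟩ := exists_primitive_addChar (F := F)
  obtain ⟨ε, hε⟩ := FiniteField.exists_nonsquare (ringChar_ne_two_of_odd hodd)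
  have hε0 : ε ≠ 0 := by rintro rfl; exact hε IsSquare.zero
  have hψ' := isPrimitive_mulShift hψ hε0
  have hq1 := card_sub_one_ne_zero (F := F)
  have h := SL2_odd_master D (fun f => if f 1 = c then (1 : ℂ) else 0)
  simp only [stSL_one, psSL_one, D.deg₁, D.deg₂] at h
  rw [h]
  congr 1
  · have h1 : ∀ χ : Cfsg.IrrCharacter (Matrix.SpecialLinearGroup (Fin 2) F),
        (if IsCuspidalSL χ.1 then (if χ.1 1 = c then (1 : ℂ) else 0) else 0) =
          (if (Fintype.card F : ℂ) - 1 = c then (1 : ℂ) else 0) *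
            (if IsCuspidalSL χ.1 then mU ψ χ.1 * mU (ψ.mulShift ε) χ.1 else 0) +
          (if ((Fintype.card F : ℂ) - 1) / 2 = c then (1 : ℂ) else 0) *
            (((if IsCuspidalSL χ.1 then mU ψ χ.1 * conj (mU ψ χ.1) else 0) -
              (if IsCuspidalSL χ.1 then mU ψ χ.1 * mU (ψ.mulShift ε) χ.1 else 0)) +
            ((if IsCuspidalSL χ.1 then mU (ψ.mulShift ε) χ.1 * conj (mU (ψ.mulShift ε) χ.1) else 0) -
              (if IsCuspidalSL χ.1 then mU ψ χ.1 * mU (ψ.mulShift ε) χ.1 else 0))) := by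
      intro χ
      by_cases hc : IsCuspidalSL χ.1
      · simp only [if_pos hc]
        rcases cuspidal_values hodd D hψ hε χ.2 hc with ⟨ha, hb, h1, -⟩ | ⟨ha, hb, h1, -⟩ | ⟨ha, hb, h1, -⟩
        · rw [h1, ha, hb]; simp
        · rw [h1, ha, hb]; simp
        · rw [h1, ha, hb]; simp
      · simp only [if_neg hc]
        simp
    rw [Finset.sum_congr rfl fun χ _ => h1 χ, Finset.sum_add_distrib, ← Finset.mul_sum, ← Finset.mul_sum,
      Finset.sum_add_distrib, Finset.sum_sub_distrib, Finset.sum_sub_distrib,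
      sum_cuspidal_mU_mul hodd D hψ hε, sum_cuspidal_mU_norm hodd D hψ, sum_cuspidal_mU_norm hodd D hψ']
    split_ifs <;> ring
  · congr 2
    rw [sum_ite_sq_ne_one D.sq D.ne_one]
    split_ifs <;> ring

omit [Fintype (Cfsg.IrrCharacter (Matrix.SpecialLinearGroup (Fin 2) F))] in
/-- The sum of a class function over the unipotent subgroup. -/
theorem sum_uSL_eq {χ : Matrix.SpecialLinearGroup (Fin 2) F → ℂ}
    (hχ : Cfsg.IsClassFunction (Matrix.SpecialLinearGroup (Fin 2) F) χ) :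
    ∑ x : F, χ (uSL x) = (Fintype.card F : ℂ) * conj (nSL χ) := by
  have h := mU_one_eq hχ
  unfold mU at h
  simp only [AddChar.one_apply, mul_one] at h
  rw [← h]
  field_simp [card_ne_zero_complex (F := F)]

end Cfsg.Agent.H44
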