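import Cfsg.Agent.H44.SL2OddF

/-!
# Irreducible characters of SL₂(F) of a given degree, odd characteristic (helper44)
-/

set_option autoImplicit false

namespace Cfsg.Agent.H44

open Matrix
open scoped ComplexConjugate

variable {F : Type*} [Field F] [Fintype F] [Fintype (Matrix.SpecialLinearGroup (Fin 2) F)]
  [Fintype (MulChar F ℂ)] [Fintype (Cfsg.IrrCharacter (Matrix.SpecialLinearGroup (Fin 2) F))]
  {α₀ : MulChar F ℂ} {ξ₁ ξ₂ : Matrix.SpecialLinearGroup (Fin 2) F → ℂ}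

omit [Fintype (Matrix.SpecialLinearGroup (Fin 2) F)] [Fintype (MulChar F ℂ)]
  [Fintype (Cfsg.IrrCharacter (Matrix.SpecialLinearGroup (Fin 2) F))] in
theorem three_le_card_of_odd (hodd : Odd (Fintype.card F)) : 3 ≤ Fintype.card F := by
  have h1 : 1 < Fintype.card F := Fintype.one_lt_card
  obtain ⟨k, hk⟩ := hodd
  omega

omit [Fintype (Matrix.SpecialLinearGroup (Fin 2) F)] [Fintype (MulChar F ℂ)]
  [Fintype (Cfsg.IrrCharacter (Matrix.SpecialLinearGroup (Fin 2) F))] in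
theorem uSL_one_of_coe (u : Matrix.SpecialLinearGroup (Fin 2) F)
    (hu : (u : Matrix (Fin 2) (Fin 2) F) = !![1, 1; 0, 1]) : u = uSL 1 := by
  apply Subtype.ext
  rw [hu, coe_uSL]
  rfl

theorem SL2_odd_of_degree_q (hodd : Odd (Fintype.card F)) (D : QuadDecomp α₀ ξ₁ ξ₂)
    {χ : Matrix.SpecialLinearGroup (Fin 2) F → ℂ}
    (hirr : Cfsg.IsIrrCharacter (Matrix.SpecialLinearGroup (Fin 2) F) χ)
    (hd : χ 1 = (Fintype.card F : ℂ)) :
    χ = stSL := by
  have hq3 := three_le_card_of_odd hodd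
  rcases SL2_odd_irr_cases hodd D hirr with h | h | ⟨α, hα, h⟩ | h | h | ⟨hc, ⟨h1, h2⟩ | ⟨h1, h2⟩⟩
  · exact absurd (by rw [h] at hd; exact hd) (ne_of_lin (q := Fintype.card F) (-2) (2) (by push_cast; ring) (by omega) : (1 : ℂ) ≠ (Fintype.card F : ℂ))
  · exact h
  · exact absurd (by rw [h, psSL_one] at hd; exact hd) (ne_of_lin (q := Fintype.card F) (0) (2) (by push_cast; ring) (by omega) : (Fintype.card F : ℂ) + 1 ≠ (Fintype.card F : ℂ))
  · exact absurd (by rw [h, D.deg₁] at hd; exact hd) (ne_of_lin (q := Fintype.card F) (-1) (1) (by push_cast; ring) (by omega) : ((Fintype.card F : ℂ) + 1) / 2 ≠ (Fintype.card F : ℂ))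
  · exact absurd (by rw [h, D.deg₂] at hd; exact hd) (ne_of_lin (q := Fintype.card F) (-1) (1) (by push_cast; ring) (by omega) : ((Fintype.card F : ℂ) + 1) / 2 ≠ (Fintype.card F : ℂ))
  · exact absurd (h1.symm.trans hd) (ne_of_lin (q := Fintype.card F) (0) (-2) (by push_cast; ring) (by omega) : (Fintype.card F : ℂ) - 1 ≠ (Fintype.card F : ℂ))
  · exact absurd (h1.symm.trans hd) (ne_of_lin (q := Fintype.card F) (-1) (-1) (by push_cast; ring) (by omega) : ((Fintype.card F : ℂ) - 1) / 2 ≠ (Fintype.card F : ℂ))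

theorem SL2_odd_of_degree_add_one (hodd : Odd (Fintype.card F)) (hq : 5 ≤ Fintype.card F) (D : QuadDecomp α₀ ξ₁ ξ₂)
    {χ : Matrix.SpecialLinearGroup (Fin 2) F → ℂ}
    (hirr : Cfsg.IsIrrCharacter (Matrix.SpecialLinearGroup (Fin 2) F) χ)
    (hd : χ 1 = (Fintype.card F : ℂ) + 1) :
    ∃ α : MulChar F ℂ, α ^ 2 ≠ 1 ∧ χ = psSL α := by
  have hq3 := three_le_card_of_odd hodd
  rcases SL2_odd_irr_cases hodd D hirr with h | h | ⟨α, hα, h⟩ | h | h | ⟨hc, ⟨h1, h2⟩ | ⟨h1, h2⟩⟩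
  · exact absurd (by rw [h] at hd; exact hd) (ne_of_lin (q := Fintype.card F) (-2) (0) (by push_cast; ring) (by omega) : (1 : ℂ) ≠ (Fintype.card F : ℂ) + 1)
  · exact absurd (by rw [h, stSL_one] at hd; exact hd) (ne_of_lin (q := Fintype.card F) (0) (-2) (by push_cast; ring) (by omega) : (Fintype.card F : ℂ) ≠ (Fintype.card F : ℂ) + 1)
  · exact ⟨α, hα, h⟩
  · exact absurd (by rw [h, D.deg₁] at hd; exact hd) (ne_of_lin (q := Fintype.card F) (-1) (-1) (by push_cast; ring) (by omega) : ((Fintype.card F : ℂ) + 1) / 2 ≠ (Fintype.card F : ℂ) + 1)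
  · exact absurd (by rw [h, D.deg₂] at hd; exact hd) (ne_of_lin (q := Fintype.card F) (-1) (-1) (by push_cast; ring) (by omega) : ((Fintype.card F : ℂ) + 1) / 2 ≠ (Fintype.card F : ℂ) + 1)
  · exact absurd (h1.symm.trans hd) (ne_of_lin (q := Fintype.card F) (0) (-4) (by push_cast; ring) (by omega) : (Fintype.card F : ℂ) - 1 ≠ (Fintype.card F : ℂ) + 1)
  · exact absurd (h1.symm.trans hd) (ne_of_lin (q := Fintype.card F) (-1) (-3) (by push_cast; ring) (by omega) : ((Fintype.card F : ℂ) - 1) / 2 ≠ (Fintype.card F : ℂ) + 1)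

theorem SL2_odd_of_degree_sub_one (hodd : Odd (Fintype.card F)) (hq : 5 ≤ Fintype.card F) (D : QuadDecomp α₀ ξ₁ ξ₂)
    {χ : Matrix.SpecialLinearGroup (Fin 2) F → ℂ}
    (hirr : Cfsg.IsIrrCharacter (Matrix.SpecialLinearGroup (Fin 2) F) χ)
    (hd : χ 1 = (Fintype.card F : ℂ) - 1) :
    IsCuspidalSL χ ∧ χ (uSL 1) = -1 := by
  have hq3 := three_le_card_of_odd hodd
  rcases SL2_odd_irr_cases hodd D hirr with h | h | ⟨α, hα, h⟩ | h | h | ⟨hc, ⟨h1, h2⟩ | ⟨h1, h2⟩⟩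
  · exact absurd (by rw [h] at hd; exact hd) (ne_of_lin (q := Fintype.card F) (-2) (4) (by push_cast; ring) (by omega) : (1 : ℂ) ≠ (Fintype.card F : ℂ) - 1)
  · exact absurd (by rw [h, stSL_one] at hd; exact hd) (ne_of_lin (q := Fintype.card F) (0) (2) (by push_cast; ring) (by omega) : (Fintype.card F : ℂ) ≠ (Fintype.card F : ℂ) - 1)
  · exact absurd (by rw [h, psSL_one] at hd; exact hd) (ne_of_lin (q := Fintype.card F) (0) (4) (by push_cast; ring) (by omega) : (Fintype.card F : ℂ) + 1 ≠ (Fintype.card F : ℂ) - 1)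
  · exact absurd (by rw [h, D.deg₁] at hd; exact hd) (ne_of_lin (q := Fintype.card F) (-1) (3) (by push_cast; ring) (by omega) : ((Fintype.card F : ℂ) + 1) / 2 ≠ (Fintype.card F : ℂ) - 1)
  · exact absurd (by rw [h, D.deg₂] at hd; exact hd) (ne_of_lin (q := Fintype.card F) (-1) (3) (by push_cast; ring) (by omega) : ((Fintype.card F : ℂ) + 1) / 2 ≠ (Fintype.card F : ℂ) - 1)
  · exact ⟨hc, h2⟩
  · exact absurd (h1.symm.trans hd) (ne_of_lin (q := Fintype.card F) (-1) (1) (by push_cast; ring) (by omega) : ((Fintype.card F : ℂ) - 1) / 2 ≠ (Fintype.card F : ℂ) - 1)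

theorem SL2_odd_of_degree_half_add (hodd : Odd (Fintype.card F)) (hq : 5 ≤ Fintype.card F) (D : QuadDecomp α₀ ξ₁ ξ₂)
    {χ : Matrix.SpecialLinearGroup (Fin 2) F → ℂ}
    (hirr : Cfsg.IsIrrCharacter (Matrix.SpecialLinearGroup (Fin 2) F) χ)
    (hd : χ 1 = ((Fintype.card F : ℂ) + 1) / 2) :
    χ = ξ₁ ∨ χ = ξ₂ := by
  have hq3 := three_le_card_of_odd hodd
  rcases SL2_odd_irr_cases hodd D hirr with h | h | ⟨α, hα, h⟩ | h | h | ⟨hc, ⟨h1, h2⟩ | ⟨h1, h2⟩⟩
  · exact absurd (by rw [h] at hd; exact hd) (ne_of_lin (q := Fintype.card F) (-1) (1) (by push_cast; ring) (by omega) : (1 : ℂ) ≠ ((Fintype.card F : ℂ) + 1) / 2)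
  · exact absurd (by rw [h, stSL_one] at hd; exact hd) (ne_of_lin (q := Fintype.card F) (1) (-1) (by push_cast; ring) (by omega) : (Fintype.card F : ℂ) ≠ ((Fintype.card F : ℂ) + 1) / 2)
  · exact absurd (by rw [h, psSL_one] at hd; exact hd) (ne_of_lin (q := Fintype.card F) (1) (1) (by push_cast; ring) (by omega) : (Fintype.card F : ℂ) + 1 ≠ ((Fintype.card F : ℂ) + 1) / 2)
  · exact Or.inl h
  · exact Or.inr h
  · exact absurd (h1.symm.trans hd) (ne_of_lin (q := Fintype.card F) (1) (-3) (by push_cast; ring) (by omega) : (Fintype.card F : ℂ) - 1 ≠ ((Fintype.card F : ℂ) + 1) / 2)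
  · exact absurd (h1.symm.trans hd) (ne_of_lin (q := Fintype.card F) (0) (-2) (by push_cast; ring) (by omega) : ((Fintype.card F : ℂ) - 1) / 2 ≠ ((Fintype.card F : ℂ) + 1) / 2)

theorem SL2_odd_of_degree_half_sub (hodd : Odd (Fintype.card F)) (hq : 5 ≤ Fintype.card F) (D : QuadDecomp α₀ ξ₁ ξ₂)
    {χ : Matrix.SpecialLinearGroup (Fin 2) F → ℂ}
    (hirr : Cfsg.IsIrrCharacter (Matrix.SpecialLinearGroup (Fin 2) F) χ)
    (hd : χ 1 = ((Fintype.card F : ℂ) - 1) / 2) :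
    IsCuspidalSL χ ∧ (2 * χ (uSL 1) + 1) ^ 2 = α₀ (-1) * (Fintype.card F : ℂ) := by
  have hq3 := three_le_card_of_odd hodd
  rcases SL2_odd_irr_cases hodd D hirr with h | h | ⟨α, hα, h⟩ | h | h | ⟨hc, ⟨h1, h2⟩ | ⟨h1, h2⟩⟩
  · exact absurd (by rw [h] at hd; exact hd) (ne_of_lin (q := Fintype.card F) (-1) (3) (by push_cast; ring) (by omega) : (1 : ℂ) ≠ ((Fintype.card F : ℂ) - 1) / 2)
  · exact absurd (by rw [h, stSL_one] at hd; exact hd) (ne_of_lin (q := Fintype.card F) (1) (1) (by push_cast; ring) (by omega) : (Fintype.card F : ℂ) ≠ ((Fintype.card F : ℂ) - 1) / 2)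
  · exact absurd (by rw [h, psSL_one] at hd; exact hd) (ne_of_lin (q := Fintype.card F) (1) (3) (by push_cast; ring) (by omega) : (Fintype.card F : ℂ) + 1 ≠ ((Fintype.card F : ℂ) - 1) / 2)
  · exact absurd (by rw [h, D.deg₁] at hd; exact hd) (ne_of_lin (q := Fintype.card F) (0) (2) (by push_cast; ring) (by omega) : ((Fintype.card F : ℂ) + 1) / 2 ≠ ((Fintype.card F : ℂ) - 1) / 2)
  · exact absurd (by rw [h, D.deg₂] at hd; exact hd) (ne_of_lin (q := Fintype.card F) (0) (2) (by push_cast; ring) (by omega) : ((Fintype.card F : ℂ) + 1) / 2 ≠ ((Fintype.card F : ℂ) - 1) / 2)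
  · exact absurd (h1.symm.trans hd) (ne_of_lin (q := Fintype.card F) (1) (-1) (by push_cast; ring) (by omega) : (Fintype.card F : ℂ) - 1 ≠ ((Fintype.card F : ℂ) - 1) / 2)
  · exact ⟨hc, h2⟩

end Cfsg.Agent.H44
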