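import Cfsg.Agent.H44.SL2Deg
import Cfsg.Agent.H4.RealClasses
import Cfsg.Agent.H82.Irr

/-!
# Zeros of the irreducible characters of SL₂(F), odd characteristic (helper44)
-/

set_option autoImplicit false

namespace Cfsg.Agent.H44

open Matrix
open scoped ComplexConjugate

section General

variable {G : Type*} [Group G] [Finite G]

theorem linear_mul_conj_eq_one (l : Cfsg.IrrCharacter G) (h1 : l.1 1 = 1) (g : G) :
    l.1 g * conj (l.1 g) = 1 := by
  rw [← Cfsg.Agent.H4.irr_inv l g, ← Cfsg.Agent.H82.irr_linear_mul l h1, mul_inv_cancel, h1]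

/-- The product of a linear character and an irreducible character is irreducible. -/
theorem isIrrCharacter_linear_mul_irr (l χ : Cfsg.IrrCharacter G) (h1 : l.1 1 = 1) :
    Cfsg.IsIrrCharacter G (fun g => l.1 g * χ.1 g) := by
  classical
  have : Fintype G := Fintype.ofFinite G
  have hc : Cfsg.IsCharacter G (l.1 * χ.1) :=
    Cfsg.Agent.H4.isCharacter_mul (Cfsg.Agent.H4.isCharacter_of_isIrrCharacter l.2)
      (Cfsg.Agent.H4.isCharacter_of_isIrrCharacter χ.2)
  show Cfsg.IsIrrCharacter G (l.1 * χ.1)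
  apply Cfsg.Agent.H4.isIrrCharacter_of_norm_one hc
  rw [← Cfsg.Agent.H4.irr_inner_self χ]
  unfold Cfsg.classInner
  congr 1
  refine Finset.sum_congr rfl fun g _ => ?_
  rw [Pi.mul_apply, map_mul]
  calc l.1 g * χ.1 g * (conj (l.1 g) * conj (χ.1 g))
      = (l.1 g * conj (l.1 g)) * (χ.1 g * conj (χ.1 g)) := by ring
    _ = χ.1 g * conj (χ.1 g) := by rw [linear_mul_conj_eq_one l h1, one_mul]

end General

variable {F : Type*} [Field F]

/-- A determinant-one matrix with `t² = 4` has an eigenvector (odd characteristic). -/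
theorem not_elliptic_of_trace_sq {M : Matrix (Fin 2) (Fin 2) F} (h2 : (2 : F) ≠ 0) (hdet : M.det = 1)
    (ht : M.trace ^ 2 = 4) : ¬ Elliptic M := by
  intro hM
  by_cases hb : M 0 1 = 0
  · refine hM (M 1 1) ![0, 1] ?_ ?_
    · intro h
      have := congrFun h 1
      simp at this
    · ext i
      fin_cases i <;> simp [Matrix.mulVec, dotProduct, Fin.sum_univ_two, hb]
  · obtain ⟨c, hc⟩ : ∃ c : F, 2 * c = M.trace := ⟨M.trace / 2, by field_simp⟩
    have hc2 : c ^ 2 = 1 := by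
      have h4 : (2 : F) ^ 2 * (c ^ 2 - 1) = 0 := by
        rw [← hc] at ht
        linear_combination ht
      rcases mul_eq_zero.mp h4 with h | h
      · exact absurd (pow_eq_zero_iff (two_ne_zero) |>.mp h) h2
      · linear_combination h
    rw [Matrix.trace_fin_two] at hc
    rw [Matrix.det_fin_two] at hdet
    refine hM c ![M 0 1, c - M 0 0] ?_ ?_
    · intro h
      have := congrFun h 0
      simp at this
      exact hb this
    · ext i
      fin_cases i
      · simp [Matrix.mulVec, dotProduct, Fin.sum_univ_two]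
        ring
      · simp [Matrix.mulVec, dotProduct, Fin.sum_univ_two]
        linear_combination (-1) * hdet - c * hc + hc2

variable [Fintype F]

/-- In odd characteristic, two elements of SL₂ with the same trace `t`, `t² ≠ 4`, are conjugate. -/
theorem SL2_isConj_of_trace_odd (hodd : Odd (Fintype.card F)) (g h : Matrix.SpecialLinearGroup (Fin 2) F)
    (htr : (g : Matrix (Fin 2) (Fin 2) F).trace = (h : Matrix (Fin 2) (Fin 2) F).trace)
    (ht : (g : Matrix (Fin 2) (Fin 2) F).trace ^ 2 ≠ 4) : IsConj g h := by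
  have ho : Fintype.card F % 2 = 1 := Nat.odd_iff.mp hodd
  obtain ⟨x, y, hxy⟩ := exists_qf_eq_one ho (g : Matrix (Fin 2) (Fin 2) F) g.2 ht
  obtain ⟨x', y', hxy'⟩ := exists_qf_eq_one ho (h : Matrix (Fin 2) (Fin 2) F) h.2 (htr ▸ ht)
  exact SL2_isConj_of_qf g h x y x' y' (by rw [hxy]; exact one_ne_zero) (hxy.trans hxy'.symm) htr

theorem twistSL_isConj_of_elliptic (hodd : Odd (Fintype.card F)) (t : F) (ht : t ≠ 0)
    (g : Matrix.SpecialLinearGroup (Fin 2) F) (hg : Elliptic (g : Matrix (Fin 2) (Fin 2) F)) :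
    IsConj (twistSL t ht g) g := by
  have htr : (twistSL t ht g : Matrix (Fin 2) (Fin 2) F).trace = (g : Matrix (Fin 2) (Fin 2) F).trace := by
    rw [coe_twistSL, Matrix.trace_fin_two, Matrix.trace_fin_two]
    simp
  refine SL2_isConj_of_trace_odd hodd _ _ htr ?_
  rw [htr]
  intro h4
  exact not_elliptic_of_trace_sq (two_ne_zero_of_odd hodd) g.2 h4 hg

theorem triSL'_isConj_odd (hodd : Odd (Fintype.card F)) (a : Fˣ) (ha : (a : F) ^ 2 ≠ 1) (x : F) :
    IsConj (triSL' a x) (triSL' a 0) := by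
  refine SL2_isConj_of_trace_odd hodd _ _ ?_ ?_
  · rw [Matrix.trace_fin_two, Matrix.trace_fin_two, triSL'_00, triSL'_11, triSL'_00, triSL'_11]
  · rw [Matrix.trace_fin_two, triSL'_00, triSL'_11]
    intro h4
    apply ha
    have ha0 : (a : F) ≠ 0 := a.ne_zero
    have h5 : ((a : F) - ((a⁻¹ : Fˣ) : F)) ^ 2 = 0 := by
      have h6 : (a : F) * ((a⁻¹ : Fˣ) : F) = 1 := by rw [← Units.val_mul, mul_inv_cancel, Units.val_one]
      linear_combination h4 - 4 * h6
    have h7 : (a : F) = ((a⁻¹ : Fˣ) : F) := by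
      have := pow_eq_zero_iff (two_ne_zero) |>.mp h5
      linear_combination this
    rw [pow_two]
    nth_rewrite 2 [h7]
    rw [← Units.val_mul, mul_inv_cancel, Units.val_one]

omit [Fintype F] in
/-- A diagonal element of SL₂ as `triSL' a 0`. -/
theorem eq_triSL'_of_diag (g : Matrix.SpecialLinearGroup (Fin 2) F)
    (h01 : (g : Matrix (Fin 2) (Fin 2) F) 0 1 = 0) (h10 : (g : Matrix (Fin 2) (Fin 2) F) 1 0 = 0) :
    ∃ a : Fˣ, (a : F) = (g : Matrix (Fin 2) (Fin 2) F) 0 0 ∧ g = triSL' a 0 := by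
  have h := borelSL_entries g h10
  have h00 : (g : Matrix (Fin 2) (Fin 2) F) 0 0 ≠ 0 := left_ne_zero_of_mul_eq_one h
  refine ⟨Units.mk0 _ h00, rfl, ?_⟩
  apply Subtype.ext
  rw [coe_triSL']
  ext i j
  fin_cases i <;> fin_cases j
  · simp
  · simp [h01]
  · simp [h10]
  · simp
    exact eq_inv_of_mul_eq_one_right h

variable [Fintype (Matrix.SpecialLinearGroup (Fin 2) F)]

/-- Cuspidal class functions vanish at the diagonal elements with `a² ≠ 1`. -/
theorem cuspidalSL_diag_odd (hodd : Odd (Fintype.card F)) {χ : Matrix.SpecialLinearGroup (Fin 2) F → ℂ}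
    (hχ : Cfsg.IsClassFunction (Matrix.SpecialLinearGroup (Fin 2) F) χ) (hc : IsCuspidalSL χ)
    (g : Matrix.SpecialLinearGroup (Fin 2) F)
    (h01 : (g : Matrix (Fin 2) (Fin 2) F) 0 1 = 0) (h10 : (g : Matrix (Fin 2) (Fin 2) F) 1 0 = 0)
    (hsq : (g : Matrix (Fin 2) (Fin 2) F) 0 0 ^ 2 ≠ 1) : χ g = 0 := by
  obtain ⟨a, ha, rfl⟩ := eq_triSL'_of_diag g h01 h10
  rw [← ha] at hsq
  have h := cuspidalSL_sum_triSL' hχ hc a
  have h1 : ∀ x, χ (triSL' a x) = χ (triSL' a 0) := fun x =>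
    Cfsg.Agent.H4.isClassFunction_iff_isConj.mp hχ _ _ (triSL'_isConj_odd hodd a hsq x)
  rw [Finset.sum_congr rfl fun x _ => h1 x, Finset.sum_const, Finset.card_univ, nsmul_eq_mul] at h
  rcases mul_eq_zero.mp h with h2 | h2
  · exact absurd h2 card_ne_zero_complex
  · exact h2

section WithData

variable {α₀ : MulChar F ℂ} {ξ₁ ξ₂ : Matrix.SpecialLinearGroup (Fin 2) F → ℂ}

/-- The two constituents of the principal series at the quadratic character vanish at the
elements without eigenvectors. -/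
theorem QuadDecomp.elliptic (hodd : Odd (Fintype.card F)) (D : QuadDecomp α₀ ξ₁ ξ₂)
    (g : Matrix.SpecialLinearGroup (Fin 2) F) (hg : Elliptic (g : Matrix (Fin 2) (Fin 2) F)) :
    ξ₁ g = 0 ∧ ξ₂ g = 0 := by
  obtain ⟨ε, hε0, -, htw⟩ := D.twist
  have hcf := Cfsg.Agent.H4.isClassFunction_of_isCharacter (Cfsg.Agent.H4.isCharacter_of_isIrrCharacter D.irr₁)
  have h1 : ξ₂ g = ξ₁ g := by
    rw [htw g]
    exact Cfsg.Agent.H4.isClassFunction_iff_isConj.mp hcf _ _ (twistSL_isConj_of_elliptic hodd ε hε0 g hg)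
  have h2 := congrFun D.sum g
  rw [psSL_elliptic α₀ g hg, Pi.add_apply, h1] at h2
  have h3 : ξ₁ g = 0 := by linear_combination -(1 / 2 : ℂ) * h2
  exact ⟨h3, h1.trans h3⟩

end WithData

omit [Fintype F] [Fintype (Matrix.SpecialLinearGroup (Fin 2) F)] in
theorem not_isConj_uSL_of_elliptic (x : F) (g : Matrix.SpecialLinearGroup (Fin 2) F)
    (hg : Elliptic (g : Matrix (Fin 2) (Fin 2) F)) : ¬ IsConj (uSL x) g := by
  intro hc
  obtain ⟨c, hc⟩ := isConj_iff.mp hc
  have h1 : g * c = c * uSL x := by rw [← hc]; group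
  have h2 := congrArg (fun m : Matrix.SpecialLinearGroup (Fin 2) F => (m : Matrix (Fin 2) (Fin 2) F)) h1
  simp only [Matrix.SpecialLinearGroup.coe_mul, coe_uSL] at h2
  refine hg 1 ![(c : Matrix (Fin 2) (Fin 2) F) 0 0, (c : Matrix (Fin 2) (Fin 2) F) 1 0] ?_ ?_
  · intro h0
    have h00 := congrFun h0 0
    have h10 := congrFun h0 1
    simp at h00 h10
    have hdet := c.2
    rw [Matrix.det_fin_two, h00, h10] at hdet
    simp at hdet
  · have e0 := congrFun (congrFun h2 0) 0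
    have e1 := congrFun (congrFun h2 1) 0
    simp [Matrix.mul_apply, Fin.sum_univ_two, uMat] at e0 e1
    ext i
    fin_cases i
    · simp [Matrix.mulVec, dotProduct, Fin.sum_univ_two]
      exact e0
    · simp [Matrix.mulVec, dotProduct, Fin.sum_univ_two]
      exact e1

variable [Fintype (MulChar F ℂ)] [Fintype (Cfsg.IrrCharacter (Matrix.SpecialLinearGroup (Fin 2) F))]

/-- A linear character takes the value `1` wherever the Steinberg character does not vanish. -/
theorem linear_eq_one_of_stSL_ne_zero {η : Matrix.SpecialLinearGroup (Fin 2) F → ℂ}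
    (hirr : Cfsg.IsIrrCharacter (Matrix.SpecialLinearGroup (Fin 2) F) η) (h1 : η 1 = 1)
    (g : Matrix.SpecialLinearGroup (Fin 2) F) (hg : stSL g ≠ 0) : η g = 1 := by
  have hirr2 := isIrrCharacter_linear_mul_irr ⟨η, hirr⟩ ⟨stSL, isIrrCharacter_stSL⟩ h1
  have hd : (fun x => η x * stSL x) 1 = (Fintype.card F : ℂ) := by
    show η 1 * stSL 1 = _
    rw [h1, stSL_one, one_mul]
  have h2 := congrFun (SL2_of_degree_q hirr2 hd) g
  have h3 : (η g - 1) * stSL g = 0 := by linear_combination h2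
  rcases mul_eq_zero.mp h3 with h | h
  · linear_combination h
  · exact absurd h hg

omit [Fintype (MulChar F ℂ)] in
/-- Orthogonality of the Gelfand–Graev character with the column of an element without
eigenvectors. -/
theorem sum_irr_mU_elliptic (ψ : AddChar F ℂ) (g : Matrix.SpecialLinearGroup (Fin 2) F)
    (hg : Elliptic (g : Matrix (Fin 2) (Fin 2) F)) :
    ∑ χ : Cfsg.IrrCharacter (Matrix.SpecialLinearGroup (Fin 2) F), mU ψ χ.1 * conj (χ.1 g) = 0 := by
  classical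
  have hcol : ∀ x : F, ∑ χ : Cfsg.IrrCharacter (Matrix.SpecialLinearGroup (Fin 2) F),
      χ.1 (uSL x) * conj (χ.1 g) = 0 := by
    intro x
    have h := Cfsg.Agent.H4.column_orthogonality (uSL x) g
    rw [finsum_eq_sum_of_fintype] at h
    rw [h, card_conj_eq, if_neg (not_isConj_uSL_of_elliptic x g hg)]
    simp
  have h1 : ∀ χ : Cfsg.IrrCharacter (Matrix.SpecialLinearGroup (Fin 2) F), mU ψ χ.1 * conj (χ.1 g) =
      (Fintype.card F : ℂ)⁻¹ * ∑ x : F, ψ (-x) * (χ.1 (uSL x) * conj (χ.1 g)) := by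
    intro χ
    unfold mU
    rw [mul_assoc, Finset.sum_mul]
    congr 1
    refine Finset.sum_congr rfl fun x _ => by ring
  rw [Finset.sum_congr rfl fun χ _ => h1 χ, ← Finset.mul_sum, Finset.sum_comm]
  rw [Finset.sum_congr rfl fun x _ => by rw [← Finset.mul_sum, hcol x, mul_zero]]
  simp

section WithData2

variable {α₀ : MulChar F ℂ} {ξ₁ ξ₂ : Matrix.SpecialLinearGroup (Fin 2) F → ℂ}
  {ψ : AddChar F ℂ} {ε : F}

open Classical in
theorem sum_cuspidal_mU_elliptic (hodd : Odd (Fintype.card F)) (D : QuadDecomp α₀ ξ₁ ξ₂)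
    (hψ : ψ.IsPrimitive) (g : Matrix.SpecialLinearGroup (Fin 2) F)
    (hg : Elliptic (g : Matrix (Fin 2) (Fin 2) F)) :
    (∑ χ : Cfsg.IrrCharacter (Matrix.SpecialLinearGroup (Fin 2) F),
      if IsCuspidalSL χ.1 then mU ψ χ.1 * conj (χ.1 g) else 0) = 1 := by
  have h := SL2_odd_master D (fun f => mU ψ f * conj (f g))
  simp only [mU_const_one hψ, mU_stSL hψ, mU_psSL _ hψ, stSL_elliptic g hg, psSL_elliptic _ g hg,
    (D.elliptic hodd g hg).1, (D.elliptic hodd g hg).2] at h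
  rw [sum_irr_mU_elliptic ψ g hg] at h
  simp at h
  linear_combination -h

open Classical in
theorem sum_type11 (hodd : Odd (Fintype.card F)) (D : QuadDecomp α₀ ξ₁ ξ₂) (hψ : ψ.IsPrimitive)
    (hε : ¬ IsSquare ε) :
    (∑ χ : Cfsg.IrrCharacter (Matrix.SpecialLinearGroup (Fin 2) F),
      if IsCuspidalSL χ.1 ∧ mU ψ χ.1 = 1 ∧ mU (ψ.mulShift ε) χ.1 = 1 then (1 : ℂ) else 0) =
      ((Fintype.card F : ℂ) - 1) / 2 := by
  have h1 : ∀ χ : Cfsg.IrrCharacter (Matrix.SpecialLinearGroup (Fin 2) F),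
      (if IsCuspidalSL χ.1 ∧ mU ψ χ.1 = 1 ∧ mU (ψ.mulShift ε) χ.1 = 1 then (1 : ℂ) else 0) =
      (if IsCuspidalSL χ.1 then mU ψ χ.1 * mU (ψ.mulShift ε) χ.1 else 0) := by
    intro χ
    by_cases hc : IsCuspidalSL χ.1
    · rcases cuspidal_type hodd D hψ hε χ.2 hc with ⟨ha, hb⟩ | ⟨ha, hb⟩ | ⟨ha, hb⟩
      · rw [if_pos ⟨hc, ha, hb⟩, if_pos hc, ha, hb]
        simp
      · rw [if_neg (fun h => by rw [h.2.2] at hb; exact one_ne_zero hb), if_pos hc, ha, hb]
        simp
      · rw [if_neg (fun h => by rw [h.2.1] at ha; exact one_ne_zero ha), if_pos hc, ha, hb]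
        simp
    · rw [if_neg (fun h => hc h.1), if_neg hc]
  rw [Finset.sum_congr rfl fun χ _ => h1 χ, sum_cuspidal_mU_mul hodd D hψ hε]

open Classical in
theorem sum_type10 (hodd : Odd (Fintype.card F)) (D : QuadDecomp α₀ ξ₁ ξ₂) (hψ : ψ.IsPrimitive)
    (hε : ¬ IsSquare ε) :
    (∑ χ : Cfsg.IrrCharacter (Matrix.SpecialLinearGroup (Fin 2) F),
      if IsCuspidalSL χ.1 ∧ mU ψ χ.1 = 1 ∧ mU (ψ.mulShift ε) χ.1 = 0 then (1 : ℂ) else 0) = 1 := by
  have h1 : ∀ χ : Cfsg.IrrCharacter (Matrix.SpecialLinearGroup (Fin 2) F),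
      (if IsCuspidalSL χ.1 ∧ mU ψ χ.1 = 1 ∧ mU (ψ.mulShift ε) χ.1 = 0 then (1 : ℂ) else 0) =
      (if IsCuspidalSL χ.1 then mU ψ χ.1 * conj (mU ψ χ.1) else 0) -
      (if IsCuspidalSL χ.1 then mU ψ χ.1 * mU (ψ.mulShift ε) χ.1 else 0) := by
    intro χ
    by_cases hc : IsCuspidalSL χ.1
    · rcases cuspidal_type hodd D hψ hε χ.2 hc with ⟨ha, hb⟩ | ⟨ha, hb⟩ | ⟨ha, hb⟩
      · rw [if_neg (fun h => by rw [h.2.2] at hb; exact zero_ne_one hb), if_pos hc, if_pos hc, ha, hb]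
        simp
      · rw [if_pos ⟨hc, ha, hb⟩, if_pos hc, if_pos hc, ha, hb]
        simp
      · rw [if_neg (fun h => by rw [h.2.1] at ha; exact one_ne_zero ha), if_pos hc, if_pos hc, ha, hb]
        simp
    · rw [if_neg (fun h => hc h.1), if_neg hc, if_neg hc, sub_zero]
  rw [Finset.sum_congr rfl fun χ _ => h1 χ, Finset.sum_sub_distrib, sum_cuspidal_mU_norm hodd D hψ,
    sum_cuspidal_mU_mul hodd D hψ hε]
  ring

open Classical in
/-- For `q = 3`, the cuspidal character of degree `q - 1` vanishes at the elements without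
eigenvectors. -/
theorem cuspidal_elliptic_q3 (hodd : Odd (Fintype.card F)) (hq3 : Fintype.card F = 3)
    (D : QuadDecomp α₀ ξ₁ ξ₂) {χ : Matrix.SpecialLinearGroup (Fin 2) F → ℂ}
    (hirr : Cfsg.IsIrrCharacter (Matrix.SpecialLinearGroup (Fin 2) F) χ) (hc : IsCuspidalSL χ)
    (hd : χ 1 = (Fintype.card F : ℂ) - 1) (g : Matrix.SpecialLinearGroup (Fin 2) F)
    (hg : Elliptic (g : Matrix (Fin 2) (Fin 2) F)) : χ g = 0 := by
  obtain ⟨ψ, hψ⟩ := exists_primitive_addChar (F := F)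
  obtain ⟨ε, hε⟩ := FiniteField.exists_nonsquare (ringChar_ne_two_of_odd hodd)
  have hqC : (Fintype.card F : ℂ) = 3 := by rw [hq3]; norm_num
  have key := sum_cuspidal_mU_elliptic hodd D hψ g hg
  have h11 : (∑ χ' : Cfsg.IrrCharacter (Matrix.SpecialLinearGroup (Fin 2) F),
      if IsCuspidalSL χ'.1 ∧ mU ψ χ'.1 = 1 ∧ mU (ψ.mulShift ε) χ'.1 = 1 then (1 : ℂ) else 0) = 1 := by
    rw [sum_type11 hodd D hψ hε, hqC]
    norm_num
  have h10 := sum_type10 hodd D hψ hε
  have hχ11 : mU ψ χ = 1 ∧ mU (ψ.mulShift ε) χ = 1 := by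
    rcases cuspidal_values hodd D hψ hε hirr hc with ⟨ha, hb, -, -⟩ | ⟨-, -, h1, -⟩ | ⟨-, -, h1, -⟩
    · exact ⟨ha, hb⟩
    · exfalso
      rw [hd, hqC] at h1
      norm_num at h1
    · exfalso
      rw [hd, hqC] at h1
      norm_num at h1
  have hterm : ∀ χ' : Cfsg.IrrCharacter (Matrix.SpecialLinearGroup (Fin 2) F),
      (if IsCuspidalSL χ'.1 then mU ψ χ'.1 * conj (χ'.1 g) else 0) =
      conj (χ g) * (if IsCuspidalSL χ'.1 ∧ mU ψ χ'.1 = 1 ∧ mU (ψ.mulShift ε) χ'.1 = 1 then (1 : ℂ) else 0) +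
      (if IsCuspidalSL χ'.1 ∧ mU ψ χ'.1 = 1 ∧ mU (ψ.mulShift ε) χ'.1 = 0 then (1 : ℂ) else 0) := by
    intro χ'
    by_cases hc' : IsCuspidalSL χ'.1
    · rcases cuspidal_values hodd D hψ hε χ'.2 hc' with ⟨ha, hb, -, -⟩ | ⟨ha, hb, h1, -⟩ | ⟨ha, hb, -, -⟩
      · have heq : χ' = ⟨χ, hirr⟩ :=
          unique_of_sum_indicator _ h11 χ' ⟨χ, hirr⟩ ⟨hc', ha, hb⟩ ⟨hc, hχ11.1, hχ11.2⟩
        rw [if_pos hc', if_pos ⟨hc', ha, hb⟩,
          if_neg (fun h => by rw [h.2.2] at hb; exact zero_ne_one hb), ha, heq]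
        simp
      · have hlin : χ'.1 1 = 1 := by rw [h1, hqC]; norm_num
        have hval : χ'.1 g = 1 :=
          linear_eq_one_of_stSL_ne_zero χ'.2 hlin g (by rw [stSL_elliptic g hg]; norm_num)
        rw [if_pos hc', if_neg (fun h => by rw [h.2.2] at hb; exact one_ne_zero hb),
          if_pos ⟨hc', ha, hb⟩, ha, hval]
        simp
      · rw [if_pos hc', if_neg (fun h => by rw [h.2.1] at ha; exact one_ne_zero ha),
          if_neg (fun h => by rw [h.2.1] at ha; exact one_ne_zero ha), ha]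
        simp
    · rw [if_neg hc', if_neg (fun h => hc' h.1), if_neg (fun h => hc' h.1)]
      simp
  rw [Finset.sum_congr rfl fun χ' _ => hterm χ', Finset.sum_add_distrib, ← Finset.mul_sum, h11, h10] at key
  have h0 : conj (χ g) = 0 := by linear_combination key
  exact (map_eq_zero _).mp h0

end WithData2

end Cfsg.Agent.H44
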