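import Cfsg.Agent.H44.SL2Central
import Cfsg.Agent.H44.DihCount
import Cfsg.Agent.H65.SL2Lemmas

/-!
# Tori of SL₂(F): centralisers of regular semisimple elements and their normalisers (helper44)
-/

set_option autoImplicit false

namespace Cfsg.Agent.H44

open Matrix
open Cfsg.Agent.H65.SL2 (ext4 mul00 mul01 mul10 mul11 inv00 inv01 inv10 inv11 one00 one01 one10 one11
  neg00 neg01 neg10 neg11)

variable {F : Type*} [Field F]

theorem sl2_entries_of_eq {g h : Matrix.SpecialLinearGroup (Fin 2) F} (e : g = h) :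
    g.1 0 0 = h.1 0 0 ∧ g.1 0 1 = h.1 0 1 ∧ g.1 1 0 = h.1 1 0 ∧ g.1 1 1 = h.1 1 1 := by
  subst e; exact ⟨rfl, rfl, rfl, rfl⟩

theorem sl2_nonScalar_of_ne (g : Matrix.SpecialLinearGroup (Fin 2) F) (h1 : g ≠ 1) (hm : g ≠ -1) :
    NonScalar (g : Matrix (Fin 2) (Fin 2) F) := by
  by_contra hns
  unfold NonScalar at hns
  push Not at hns
  obtain ⟨h01, h10, h00⟩ := hns
  have hd := Cfsg.Agent.H65.SL2.det_eq g
  rw [h01, h10, ← h00, mul_zero, sub_zero] at hd
  rcases mul_self_eq_one_iff.mp hd with h | h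
  · apply h1
    apply ext4 <;> simp only [one00, one01, one10, one11]
    · exact h
    · exact h01
    · exact h10
    · rw [← h00]; exact h
  · apply hm
    apply ext4 <;> simp only [neg00, neg01, neg10, neg11, one00, one01, one10, one11, neg_zero]
    · exact h
    · exact h01
    · exact h10
    · rw [← h00]; exact h

theorem sl2_ne_of_nonScalar (g : Matrix.SpecialLinearGroup (Fin 2) F)
    (hns : NonScalar (g : Matrix (Fin 2) (Fin 2) F)) : g ≠ 1 ∧ g ≠ -1 := by
  constructor
  · rintro rfl
    rcases hns with h | h | h <;> simp at h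
  · rintro rfl
    rcases hns with h | h | h <;> simp at h

/-- Two elements commuting with a non-scalar element commute with each other. -/
theorem sl2_commute_of_commute {g : Matrix.SpecialLinearGroup (Fin 2) F}
    (hns : NonScalar (g : Matrix (Fin 2) (Fin 2) F)) {h k : Matrix.SpecialLinearGroup (Fin 2) F}
    (hh : h * g = g * h) (hk : k * g = g * k) : h * k = k * h := by
  obtain ⟨h00, h01, h10, h11⟩ := sl2_entries_of_eq hh
  obtain ⟨k00, k01, k10, k11⟩ := sl2_entries_of_eq hk
  simp only [mul00, mul01, mul10, mul11] at h00 h01 h10 h11 k00 k01 k10 k11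
  unfold NonScalar at hns
  apply ext4 <;> simp only [mul00, mul01, mul10, mul11]
  all_goals
    generalize g.1 0 0 = a at *
    generalize g.1 0 1 = b at *
    generalize g.1 1 0 = c at *
    generalize g.1 1 1 = d at *
    generalize h.1 0 0 = x at *
    generalize h.1 0 1 = y at *
    generalize h.1 1 0 = z at *
    generalize h.1 1 1 = w at *
    generalize k.1 0 0 = x' at *
    generalize k.1 0 1 = y' at *
    generalize k.1 1 0 = z' at *
    generalize k.1 1 1 = w' at *
    rcases hns with hb | hc | had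
    · apply mul_left_cancel₀ hb; grind
    · apply mul_left_cancel₀ hc; grind
    · apply mul_left_cancel₀ (sub_ne_zero.mpr had); grind

/-- The centraliser of a non-scalar element of the centraliser of `g` is the centraliser of `g`. -/
theorem sl2_centralizer_eq {g t : Matrix.SpecialLinearGroup (Fin 2) F}
    (hg : NonScalar (g : Matrix (Fin 2) (Fin 2) F)) (ht : NonScalar (t : Matrix (Fin 2) (Fin 2) F))
    (htg : t * g = g * t) :
    Subgroup.centralizer ({t} : Set (Matrix.SpecialLinearGroup (Fin 2) F)) =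
      Subgroup.centralizer ({g} : Set (Matrix.SpecialLinearGroup (Fin 2) F)) := by
  ext h
  simp only [Subgroup.mem_centralizer_iff, Set.mem_singleton_iff, forall_eq]
  constructor
  · intro hh
    exact sl2_commute_of_commute ht htg.symm hh.symm
  · intro hh
    exact sl2_commute_of_commute hg htg hh.symm

/-- An element inverting a non-scalar element has trace zero. -/
theorem sl2_trace_zero_of_invert {g n : Matrix.SpecialLinearGroup (Fin 2) F}
    (hg : NonScalar (g : Matrix (Fin 2) (Fin 2) F)) (hn : n * g = g⁻¹ * n) :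
    n.1 0 0 + n.1 1 1 = 0 := by
  obtain ⟨h00, h01, h10, h11⟩ := sl2_entries_of_eq hn
  simp only [mul00, mul01, mul10, mul11, inv00, inv01, inv10, inv11] at h00 h01 h10 h11
  unfold NonScalar at hg
  generalize g.1 0 0 = a at *
  generalize g.1 0 1 = b at *
  generalize g.1 1 0 = c at *
  generalize g.1 1 1 = d at *
  generalize n.1 0 0 = x at *
  generalize n.1 0 1 = y at *
  generalize n.1 1 0 = z at *
  generalize n.1 1 1 = w at *
  rcases hg with hb | hc | had
  · apply mul_left_cancel₀ hb; grind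
  · apply mul_left_cancel₀ hc; grind
  · apply mul_left_cancel₀ (sub_ne_zero.mpr had); grind

theorem sl2_mul_self_of_trace_zero {n : Matrix.SpecialLinearGroup (Fin 2) F}
    (hn : n.1 0 0 + n.1 1 1 = 0) : n * n = -1 := by
  have hd := Cfsg.Agent.H65.SL2.det_eq n
  apply ext4 <;> simp only [mul00, mul01, mul10, mul11, neg00, neg01, neg10, neg11, one00, one01, one10, one11]
  all_goals
    generalize n.1 0 0 = x at *
    generalize n.1 0 1 = y at *
    generalize n.1 1 0 = z at *
    generalize n.1 1 1 = w at *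
    grind

theorem sl2_nonScalar_of_trace_sq (g : Matrix.SpecialLinearGroup (Fin 2) F)
    (ht : (g.1 0 0 + g.1 1 1) ^ 2 ≠ 4) : NonScalar (g : Matrix (Fin 2) (Fin 2) F) := by
  by_contra hns
  unfold NonScalar at hns
  push Not at hns
  obtain ⟨h01, h10, h00⟩ := hns
  have hd := Cfsg.Agent.H65.SL2.det_eq g
  apply ht
  rw [h01, h10, ← h00, mul_zero, sub_zero] at hd
  rw [← h00]
  linear_combination 4 * hd

theorem mem_centralizer_singleton_iff {G : Type*} [Group G] (g x : G) :
    x ∈ Subgroup.centralizer ({g} : Set G) ↔ g * x = x * g := by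
  simp only [Subgroup.mem_centralizer_iff, Set.mem_singleton_iff, forall_eq]

theorem self_mem_centralizer_singleton {G : Type*} [Group G] (g : G) :
    g ∈ Subgroup.centralizer ({g} : Set G) := by
  rw [mem_centralizer_singleton_iff]

/-- A normalising element of the centraliser of a regular semisimple `g` fixes or inverts `g`. -/
theorem sl2_conj_eq_or_inv (h2 : (2 : F) ≠ 0) {g n : Matrix.SpecialLinearGroup (Fin 2) F}
    (ht : (g.1 0 0 + g.1 1 1) ^ 2 ≠ 4)
    (hn : n ∈ Subgroup.normalizer
      (Subgroup.centralizer ({g} : Set (Matrix.SpecialLinearGroup (Fin 2) F)) : Set (Matrix.SpecialLinearGroup (Fin 2) F))) :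
    n * g * n⁻¹ = g ∨ n * g * n⁻¹ = g⁻¹ := by
  have hmem : n * g * n⁻¹ ∈ Subgroup.centralizer ({g} : Set (Matrix.SpecialLinearGroup (Fin 2) F)) :=
    (Subgroup.mem_normalizer_iff.mp hn g).mp (self_mem_centralizer_singleton g)
  rw [mem_centralizer_singleton_iff] at hmem
  exact Cfsg.Agent.H65.SL2.eq_or_eq_inv_of_commute h2 _ g hmem.symm
    (Cfsg.Agent.H65.SL2.tr_conj n g) ht

theorem sl2_normalizer_not_mem (h2 : (2 : F) ≠ 0) {g n : Matrix.SpecialLinearGroup (Fin 2) F}
    (ht : (g.1 0 0 + g.1 1 1) ^ 2 ≠ 4)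
    (hn : n ∈ Subgroup.normalizer
      (Subgroup.centralizer ({g} : Set (Matrix.SpecialLinearGroup (Fin 2) F)) : Set (Matrix.SpecialLinearGroup (Fin 2) F)))
    (hnT : n ∉ Subgroup.centralizer ({g} : Set (Matrix.SpecialLinearGroup (Fin 2) F))) :
    n * g = g⁻¹ * n := by
  rcases sl2_conj_eq_or_inv h2 ht hn with h | h
  · exfalso
    apply hnT
    rw [mem_centralizer_singleton_iff]
    calc g * n = (n * g * n⁻¹) * n := by rw [h]
      _ = n * g := by group
  · calc n * g = (n * g * n⁻¹) * n := by group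
      _ = g⁻¹ * n := by rw [h]

/-- Elements of the normaliser of a torus outside the torus square to `-1`. -/
theorem sl2_normalizer_sq (h2 : (2 : F) ≠ 0) {g n : Matrix.SpecialLinearGroup (Fin 2) F}
    (ht : (g.1 0 0 + g.1 1 1) ^ 2 ≠ 4)
    (hn : n ∈ Subgroup.normalizer
      (Subgroup.centralizer ({g} : Set (Matrix.SpecialLinearGroup (Fin 2) F)) : Set (Matrix.SpecialLinearGroup (Fin 2) F)))
    (hnT : n ∉ Subgroup.centralizer ({g} : Set (Matrix.SpecialLinearGroup (Fin 2) F))) :
    n * n = -1 :=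
  sl2_mul_self_of_trace_zero
    (sl2_trace_zero_of_invert (sl2_nonScalar_of_trace_sq g ht) (sl2_normalizer_not_mem h2 ht hn hnT))

/-- Elements of the normaliser of a torus outside the torus invert the torus. -/
theorem sl2_normalizer_invert (h2 : (2 : F) ≠ 0) {g n t : Matrix.SpecialLinearGroup (Fin 2) F}
    (ht : (g.1 0 0 + g.1 1 1) ^ 2 ≠ 4)
    (hn : n ∈ Subgroup.normalizer
      (Subgroup.centralizer ({g} : Set (Matrix.SpecialLinearGroup (Fin 2) F)) : Set (Matrix.SpecialLinearGroup (Fin 2) F)))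
    (hnT : n ∉ Subgroup.centralizer ({g} : Set (Matrix.SpecialLinearGroup (Fin 2) F)))
    (htT : t ∈ Subgroup.centralizer ({g} : Set (Matrix.SpecialLinearGroup (Fin 2) F))) :
    n * t * n⁻¹ = t⁻¹ := by
  have hntN : n * t ∈ Subgroup.normalizer
      (Subgroup.centralizer ({g} : Set (Matrix.SpecialLinearGroup (Fin 2) F)) : Set (Matrix.SpecialLinearGroup (Fin 2) F)) :=
    mul_mem hn (Subgroup.le_normalizer htT)
  have hntT : n * t ∉ Subgroup.centralizer ({g} : Set (Matrix.SpecialLinearGroup (Fin 2) F)) := by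
    intro h
    apply hnT
    have := mul_mem h (inv_mem htT)
    simpa using this
  have e1 := sl2_normalizer_sq h2 ht hn hnT
  have e2 := sl2_normalizer_sq h2 ht hntN hntT
  have e3 : n * t * (n * t) = n * n := e2.trans e1.symm
  have e4 : t * n * t = n := by
    apply mul_left_cancel (a := n)
    rw [← e3]; group
  calc n * t * n⁻¹ = (t⁻¹ * (t * n * t)) * n⁻¹ := by group
    _ = t⁻¹ := by rw [e4]; group

theorem sl2_mul_mem_of_not_mem (h2 : (2 : F) ≠ 0) {g n n' : Matrix.SpecialLinearGroup (Fin 2) F}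
    (ht : (g.1 0 0 + g.1 1 1) ^ 2 ≠ 4)
    (hn : n ∈ Subgroup.normalizer
      (Subgroup.centralizer ({g} : Set (Matrix.SpecialLinearGroup (Fin 2) F)) : Set (Matrix.SpecialLinearGroup (Fin 2) F)))
    (hnT : n ∉ Subgroup.centralizer ({g} : Set (Matrix.SpecialLinearGroup (Fin 2) F)))
    (hn' : n' ∈ Subgroup.normalizer
      (Subgroup.centralizer ({g} : Set (Matrix.SpecialLinearGroup (Fin 2) F)) : Set (Matrix.SpecialLinearGroup (Fin 2) F)))
    (hnT' : n' ∉ Subgroup.centralizer ({g} : Set (Matrix.SpecialLinearGroup (Fin 2) F))) :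
    n * n' ∈ Subgroup.centralizer ({g} : Set (Matrix.SpecialLinearGroup (Fin 2) F)) := by
  have e1 := sl2_normalizer_not_mem h2 ht hn hnT
  have e2 := sl2_normalizer_not_mem h2 ht hn' hnT'
  rw [mem_centralizer_singleton_iff]
  have e3 : g * n = n * g⁻¹ := by
    calc g * n = g * (n * g) * g⁻¹ := by group
      _ = g * (g⁻¹ * n) * g⁻¹ := by rw [e1]
      _ = n * g⁻¹ := by group
  calc g * (n * n') = (g * n) * n' := by group
    _ = n * (g⁻¹ * n') := by rw [e3]; group
    _ = n * n' * g := by rw [← e2]; group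

section Finite

variable [Fintype F]

theorem sl2_exists_normalizer_not_mem (hodd : Odd (Fintype.card F))
    {g : Matrix.SpecialLinearGroup (Fin 2) F} (ht : (g.1 0 0 + g.1 1 1) ^ 2 ≠ 4) :
    ∃ w : Matrix.SpecialLinearGroup (Fin 2) F,
      w ∈ Subgroup.normalizer
        (Subgroup.centralizer ({g} : Set (Matrix.SpecialLinearGroup (Fin 2) F)) : Set (Matrix.SpecialLinearGroup (Fin 2) F)) ∧
      w ∉ Subgroup.centralizer ({g} : Set (Matrix.SpecialLinearGroup (Fin 2) F)) := by
  have h2 : (2 : F) ≠ 0 := two_ne_zero_of_odd hodd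
  have hc : IsConj g g⁻¹ := by
    refine SL2_isConj_of_trace_odd hodd g g⁻¹ ?_ ?_
    · rw [Matrix.trace_fin_two, Matrix.trace_fin_two, inv00, inv11]; ring
    · rw [Matrix.trace_fin_two]; exact ht
  obtain ⟨w, hw⟩ := isConj_iff.mp hc
  refine ⟨w, ?_, ?_⟩
  · rw [Subgroup.mem_normalizer_iff]
    intro h
    rw [mem_centralizer_singleton_iff, mem_centralizer_singleton_iff]
    have e : g = w * g⁻¹ * w⁻¹ := by
      calc g = (g⁻¹)⁻¹ := (inv_inv g).symm
        _ = (w * g * w⁻¹)⁻¹ := by rw [hw]
        _ = w * g⁻¹ * w⁻¹ := by group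
    have key : Commute g (w * h * w⁻¹) ↔ Commute g h := by
      conv_lhs => rw [e]
      rw [Commute.conj_iff, Commute.inv_left_iff]
    exact key.symm
  · intro hmem
    rw [mem_centralizer_singleton_iff] at hmem
    have e1 : g = g⁻¹ := by
      rw [← hw, ← hmem]; group
    have e2 : g * g = 1 := by
      calc g * g = g * g⁻¹ := by rw [← e1]
        _ = 1 := mul_inv_cancel g
    have hns := sl2_ne_of_nonScalar g (sl2_nonScalar_of_trace_sq g ht)
    rcases Cfsg.Agent.H65.SL2.eq_one_or_neg_one h2 g e2 with h | h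
    · exact hns.1 h
    · exact hns.2 h

theorem sl2_index_subgroupOf_normalizer (hodd : Odd (Fintype.card F))
    {g : Matrix.SpecialLinearGroup (Fin 2) F} (ht : (g.1 0 0 + g.1 1 1) ^ 2 ≠ 4) :
    ((Subgroup.centralizer ({g} : Set (Matrix.SpecialLinearGroup (Fin 2) F))).subgroupOf
      (Subgroup.normalizer
        (Subgroup.centralizer ({g} : Set (Matrix.SpecialLinearGroup (Fin 2) F)) : Set (Matrix.SpecialLinearGroup (Fin 2) F)))).index = 2 := by
  have h2 : (2 : F) ≠ 0 := two_ne_zero_of_odd hodd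
  obtain ⟨w, hwN, hwT⟩ := sl2_exists_normalizer_not_mem hodd ht
  rw [Subgroup.index_eq_two_iff]
  refine ⟨⟨w, hwN⟩, fun b => ?_⟩
  simp only [Subgroup.mem_subgroupOf, Subgroup.coe_mul]
  by_cases hb : (b : Matrix.SpecialLinearGroup (Fin 2) F) ∈
      Subgroup.centralizer ({g} : Set (Matrix.SpecialLinearGroup (Fin 2) F))
  · right
    refine ⟨hb, fun h => hwT ?_⟩
    have := mul_mem (inv_mem hb) h
    simpa using this
  · left
    exact ⟨sl2_mul_mem_of_not_mem h2 ht b.2 hb hwN hwT, hb⟩

theorem sl2_card_normalizer (hodd : Odd (Fintype.card F))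
    {g : Matrix.SpecialLinearGroup (Fin 2) F} (ht : (g.1 0 0 + g.1 1 1) ^ 2 ≠ 4) :
    Nat.card (Subgroup.normalizer
        (Subgroup.centralizer ({g} : Set (Matrix.SpecialLinearGroup (Fin 2) F)) : Set (Matrix.SpecialLinearGroup (Fin 2) F))) =
      2 * Nat.card (Subgroup.centralizer ({g} : Set (Matrix.SpecialLinearGroup (Fin 2) F))) := by
  have h := Subgroup.card_mul_index
    ((Subgroup.centralizer ({g} : Set (Matrix.SpecialLinearGroup (Fin 2) F))).subgroupOf
      (Subgroup.normalizer
        (Subgroup.centralizer ({g} : Set (Matrix.SpecialLinearGroup (Fin 2) F)) : Set (Matrix.SpecialLinearGroup (Fin 2) F))))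
  rw [sl2_index_subgroupOf_normalizer hodd ht,
    Nat.card_congr (Subgroup.subgroupOfEquivOfLe Subgroup.le_normalizer).toEquiv] at h
  rw [← h, mul_comm]

/-- Class number of the normaliser of a torus. -/
theorem sl2_card_conjClasses_normalizer (hodd : Odd (Fintype.card F))
    {g : Matrix.SpecialLinearGroup (Fin 2) F} (ht : (g.1 0 0 + g.1 1 1) ^ 2 ≠ 4)
    (h4 : 4 ≤ Nat.card (Subgroup.centralizer ({g} : Set (Matrix.SpecialLinearGroup (Fin 2) F)))) :
    2 * Nat.card (ConjClasses (Subgroup.normalizer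
        (Subgroup.centralizer ({g} : Set (Matrix.SpecialLinearGroup (Fin 2) F)) : Set (Matrix.SpecialLinearGroup (Fin 2) F)))) =
      Nat.card (Subgroup.centralizer ({g} : Set (Matrix.SpecialLinearGroup (Fin 2) F))) + 6 := by
  have h2 : (2 : F) ≠ 0 := two_ne_zero_of_odd hodd
  have hns := sl2_nonScalar_of_trace_sq g ht
  have hzT : (-1 : Matrix.SpecialLinearGroup (Fin 2) F) ∈
      Subgroup.centralizer ({g} : Set (Matrix.SpecialLinearGroup (Fin 2) F)) := by
    rw [mem_centralizer_singleton_iff]; simp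
  have hzN : (-1 : Matrix.SpecialLinearGroup (Fin 2) F) ∈ Subgroup.normalizer
        (Subgroup.centralizer ({g} : Set (Matrix.SpecialLinearGroup (Fin 2) F)) : Set (Matrix.SpecialLinearGroup (Fin 2) F)) :=
    Subgroup.le_normalizer hzT
  have key := card_conjClasses_of_index_two
    ((Subgroup.centralizer ({g} : Set (Matrix.SpecialLinearGroup (Fin 2) F))).subgroupOf
      (Subgroup.normalizer
        (Subgroup.centralizer ({g} : Set (Matrix.SpecialLinearGroup (Fin 2) F)) : Set (Matrix.SpecialLinearGroup (Fin 2) F))))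
    ⟨-1, hzN⟩ (sl2_index_subgroupOf_normalizer hodd ht) ?_ ?_ ?_ ?_ ?_ ?_ ?_
  · rw [Nat.card_congr (Subgroup.subgroupOfEquivOfLe Subgroup.le_normalizer).toEquiv] at key
    exact key
  · intro h
    exact Cfsg.Agent.H65.SL2.neg_one_ne_one h2 (congrArg Subtype.val h)
  · exact Subgroup.mem_subgroupOf.mpr hzT
  · intro s hs t ht'
    rw [Subgroup.mem_subgroupOf, mem_centralizer_singleton_iff] at hs ht'
    apply Subtype.ext
    exact sl2_commute_of_commute hns hs.symm ht'.symm
  · intro n hn
    apply Subtype.ext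
    exact sl2_normalizer_sq h2 ht n.2 hn
  · intro n hn t ht'
    apply Subtype.ext
    exact sl2_normalizer_invert h2 ht n.2 hn ht'
  · intro t _ htt
    rcases Cfsg.Agent.H65.SL2.eq_one_or_neg_one h2 t.1 (congrArg Subtype.val htt) with h | h
    · left; exact Subtype.ext h
    · right; exact Subtype.ext h
  · rw [Nat.card_congr (Subgroup.subgroupOfEquivOfLe Subgroup.le_normalizer).toEquiv]
    exact h4

end Finite

/-! ### Elliptic elements -/

theorem not_elliptic_of_root {M : Matrix (Fin 2) (Fin 2) F} (hdet : M.det = 1) (a : F)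
    (ha : a ^ 2 - (M 0 0 + M 1 1) * a + 1 = 0) : ¬ Elliptic M := by
  intro hM
  by_cases hb : M 0 1 = 0
  · refine hM (M 1 1) ![0, 1] ?_ ?_
    · intro h
      have := congrFun h 1
      simp at this
    · ext i
      fin_cases i <;> simp [Matrix.mulVec, dotProduct, Fin.sum_univ_two, hb]
  · refine hM a ![M 0 1, a - M 0 0] ?_ ?_
    · intro h
      have := congrFun h 0
      simp at this
      exact hb this
    · rw [Matrix.det_fin_two] at hdet
      ext i
      fin_cases i
      · simp [Matrix.mulVec, dotProduct, Fin.sum_univ_two]; ring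
      · simp [Matrix.mulVec, dotProduct, Fin.sum_univ_two]; linear_combination -ha - hdet

theorem elliptic_of_no_root {M : Matrix (Fin 2) (Fin 2) F} (hdet : M.det = 1)
    (h : ∀ a : F, a ^ 2 - (M 0 0 + M 1 1) * a + 1 ≠ 0) : Elliptic M := by
  intro c v hv hc
  apply h c
  have e0 := congrFun hc 0
  have e1 := congrFun hc 1
  simp [Matrix.mulVec, dotProduct, Fin.sum_univ_two] at e0 e1
  have hv' : v 0 ≠ 0 ∨ v 1 ≠ 0 := by
    by_contra hcon
    push Not at hcon
    apply hv
    ext i
    fin_cases i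
    · exact hcon.1
    · exact hcon.2
  rw [Matrix.det_fin_two] at hdet
  generalize M 0 0 = m00 at *
  generalize M 0 1 = m01 at *
  generalize M 1 0 = m10 at *
  generalize M 1 1 = m11 at *
  generalize v 0 = v0 at *
  generalize v 1 = v1 at *
  rcases hv' with h0 | h1
  · apply mul_left_cancel₀ h0; grind
  · apply mul_left_cancel₀ h1; grind

/-- Elements of trace `t`, when `X² - tX + 1` has no root, are parametrised by `F × Fˣ`. -/
noncomputable def traceClassEquiv (t : F) (hroot : ∀ a : F, a ^ 2 - t * a + 1 ≠ 0) :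
    {h : Matrix.SpecialLinearGroup (Fin 2) F // h.1 0 0 + h.1 1 1 = t} ≃ F × Fˣ where
  toFun h := (h.1.1 0 0, Units.mk0 (h.1.1 0 1) (by
    intro h01
    have hd := Cfsg.Agent.H65.SL2.det_eq h.1
    have ht := h.2
    apply hroot (h.1.1 0 0)
    rw [h01] at hd
    linear_combination (h.1.1 0 0) * ht - hd))
  invFun p := ⟨⟨!![p.1, (p.2 : F); (p.1 * (t - p.1) - 1) / (p.2 : F), t - p.1], by
    rw [Matrix.det_fin_two_of]
    have : (p.2 : F) ≠ 0 := p.2.ne_zero
    field_simp
    ring⟩, by simp⟩
  left_inv h := by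
    apply Subtype.ext
    have hd := Cfsg.Agent.H65.SL2.det_eq h.1
    have ht := h.2
    by_cases h01 : h.1.1 0 1 = 0
    · exfalso
      apply hroot (h.1.1 0 0)
      rw [h01] at hd
      linear_combination (h.1.1 0 0) * ht - hd
    apply ext4
    · simp
    · simp
    · simp only [Units.val_mk0, Matrix.of_apply, Matrix.cons_val', Matrix.cons_val_zero, Matrix.cons_val_one,
        Matrix.cons_val_fin_one]
      rw [div_eq_iff h01]
      linear_combination hd - (h.1.1 0 0) * ht
    · simp only [Matrix.of_apply, Matrix.cons_val', Matrix.cons_val_one, Matrix.cons_val_fin_one]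
      linear_combination -ht
  right_inv p := by
    ext <;> simp

section Finite2

variable [Fintype F]

theorem card_trace_class (t : F) (hroot : ∀ a : F, a ^ 2 - t * a + 1 ≠ 0) :
    Nat.card {h : Matrix.SpecialLinearGroup (Fin 2) F // h.1 0 0 + h.1 1 1 = t} =
      Fintype.card F * (Fintype.card F - 1) := by
  classical
  rw [Nat.card_congr (traceClassEquiv t hroot), Nat.card_prod, Nat.card_eq_fintype_card,
    Nat.card_eq_fintype_card, Fintype.card_units]

theorem elliptic_trace_sq (hodd : Odd (Fintype.card F)) (g : Matrix.SpecialLinearGroup (Fin 2) F)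
    (hg : Elliptic (g : Matrix (Fin 2) (Fin 2) F)) : (g.1 0 0 + g.1 1 1) ^ 2 ≠ 4 := by
  intro h
  refine not_elliptic_of_trace_sq (two_ne_zero_of_odd hodd) g.2 ?_ hg
  rw [Matrix.trace_fin_two]; exact h

/-- The centraliser of an elliptic element has order `q + 1`. -/
theorem sl2_card_centralizer_elliptic (hodd : Odd (Fintype.card F))
    (g : Matrix.SpecialLinearGroup (Fin 2) F) (hg : Elliptic (g : Matrix (Fin 2) (Fin 2) F)) :
    Nat.card (Subgroup.centralizer ({g} : Set (Matrix.SpecialLinearGroup (Fin 2) F))) =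
      Fintype.card F + 1 := by
  have hroot : ∀ a : F, a ^ 2 - (g.1 0 0 + g.1 1 1) * a + 1 ≠ 0 :=
    fun a ha => not_elliptic_of_root g.2 a ha hg
  have ht := elliptic_trace_sq hodd g hg
  have hset : (ConjClasses.mk g).carrier =
      {h : Matrix.SpecialLinearGroup (Fin 2) F | h.1 0 0 + h.1 1 1 = g.1 0 0 + g.1 1 1} := by
    ext h
    rw [ConjClasses.mem_carrier_iff_mk_eq, ConjClasses.mk_eq_mk_iff_isConj, Set.mem_ofPred_eq]
    constructor
    · intro hc
      have := SL2_trace_of_isConj hc
      rwa [Matrix.trace_fin_two, Matrix.trace_fin_two] at this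
    · intro htr
      refine SL2_isConj_of_trace_odd hodd h g ?_ ?_
      · rw [Matrix.trace_fin_two, Matrix.trace_fin_two]; exact htr
      · rw [Matrix.trace_fin_two, htr]; exact ht
  have h1 := card_carrier_mul_card_centralizer g
  rw [hset] at h1
  have h2 : Nat.card ({h : Matrix.SpecialLinearGroup (Fin 2) F | h.1 0 0 + h.1 1 1 = g.1 0 0 + g.1 1 1} :
      Set (Matrix.SpecialLinearGroup (Fin 2) F)) = Fintype.card F * (Fintype.card F - 1) :=
    card_trace_class _ hroot
  rw [h2, card_SL2] at h1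
  have hq : 2 ≤ Fintype.card F := Fintype.one_lt_card
  obtain ⟨k, hk⟩ : ∃ k, Fintype.card F = k + 1 := ⟨Fintype.card F - 1, by omega⟩
  rw [hk] at h1 ⊢
  have hk0 : 0 < k := by omega
  have e : (k + 1) ^ 2 - 1 = k * (k + 2) := by
    have : (k + 1) ^ 2 = k * (k + 2) + 1 := by ring
    omega
  rw [e, Nat.add_sub_cancel] at h1
  have : (k + 1) * k * Nat.card (Subgroup.centralizer ({g} : Set (Matrix.SpecialLinearGroup (Fin 2) F))) =
      (k + 1) * k * (k + 1 + 1) := by rw [h1]; ring
  exact Nat.eq_of_mul_eq_mul_left (by positivity) this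

end Finite2

/-! ### The split torus -/

theorem sl2_mem_centralizer_diag (d : Matrix.SpecialLinearGroup (Fin 2) F) (h01 : d.1 0 1 = 0)
    (h10 : d.1 1 0 = 0) (hsq : d.1 0 0 ^ 2 ≠ 1) (g : Matrix.SpecialLinearGroup (Fin 2) F) :
    g ∈ Subgroup.centralizer ({d} : Set (Matrix.SpecialLinearGroup (Fin 2) F)) ↔
      (g.1 0 1 = 0 ∧ g.1 1 0 = 0) := by
  rw [mem_centralizer_singleton_iff]
  have hd := Cfsg.Agent.H65.SL2.det_eq d
  rw [h01, zero_mul, sub_zero] at hd
  have hne : d.1 0 0 - d.1 1 1 ≠ 0 := by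
    intro h
    apply hsq
    have : d.1 1 1 = d.1 0 0 := by linear_combination -h
    rw [this] at hd
    rw [pow_two]; exact hd
  constructor
  · intro h
    obtain ⟨e00, e01, e10, e11⟩ := sl2_entries_of_eq h
    simp only [mul00, mul01, mul10, mul11, h01, h10] at e00 e01 e10 e11
    constructor
    · apply mul_left_cancel₀ hne; linear_combination e01
    · apply mul_left_cancel₀ hne; linear_combination -e10
  · rintro ⟨g01, g10⟩
    apply ext4 <;> simp only [mul00, mul01, mul10, mul11, h01, h10, g01, g10] <;> ring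

/-- The diagonal torus is parametrised by `Fˣ`. -/
noncomputable def diagEquiv :
    {g : Matrix.SpecialLinearGroup (Fin 2) F // g.1 0 1 = 0 ∧ g.1 1 0 = 0} ≃ Fˣ where
  toFun g := Units.mk0 (g.1.1 0 0) (by
    intro h
    have hd := Cfsg.Agent.H65.SL2.det_eq g.1
    rw [h, g.2.1] at hd
    simp at hd)
  invFun a := ⟨triSL' a 0, by simp [coe_triSL']⟩
  left_inv g := by
    apply Subtype.ext
    have hd := Cfsg.Agent.H65.SL2.det_eq g.1
    rw [g.2.1, zero_mul, sub_zero] at hd
    apply ext4
    · simp [coe_triSL']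
    · simp [coe_triSL', g.2.1]
    · simp [coe_triSL', g.2.2]
    · simp only [coe_triSL', Matrix.of_apply, Matrix.cons_val', Matrix.cons_val_one, Matrix.cons_val_fin_one]
      rw [Units.val_inv_eq_inv_val, Units.val_mk0]
      exact (eq_inv_of_mul_eq_one_right hd).symm
  right_inv a := by
    ext; simp [coe_triSL']

end Cfsg.Agent.H44
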