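import Cfsg.Agent.H44.SL2Lin
import Cfsg.Agent.H44.SL2Classes

/-!
# Multiplicities of additive characters in the restriction to the unipotent subgroup of SL₂ (helper44)
-/

set_option autoImplicit false

namespace Cfsg.Agent.H44

open Matrix
open scoped ComplexConjugate

variable {F : Type*} [Field F]

theorem uSL_zero : uSL (0 : F) = 1 := by
  apply Subtype.ext
  rw [coe_uSL]
  ext i j
  fin_cases i <;> fin_cases j <;> simp [uMat]

theorem uSL_add (x y : F) : uSL (x + y) = uSL x * uSL y := by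
  apply Subtype.ext
  rw [Matrix.SpecialLinearGroup.coe_mul, coe_uSL, coe_uSL, coe_uSL]
  ext i j
  fin_cases i <;> fin_cases j <;> simp [uMat, Matrix.mul_apply, Fin.sum_univ_two, add_comm]

/-- The homomorphism `x ↦ uSL x` from the additive group of `F`. -/
def uHom : Multiplicative F →* Matrix.SpecialLinearGroup (Fin 2) F where
  toFun x := uSL x.toAdd
  map_one' := uSL_zero
  map_mul' _ _ := uSL_add _ _

theorem uSL_eq_triSL' (x : F) : uSL x = triSL' 1 x := by
  apply Subtype.ext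
  rw [coe_uSL, coe_triSL']
  simp [uMat]

variable [Fintype F]

/-- The multiplicity of the additive character `ψ` in the restriction of `χ` to the upper
unitriangular subgroup. -/
noncomputable def mU (ψ : AddChar F ℂ) (χ : Matrix.SpecialLinearGroup (Fin 2) F → ℂ) : ℂ :=
  (Fintype.card F : ℂ)⁻¹ * ∑ x : F, χ (uSL x) * ψ (-x)

theorem mU_add (ψ : AddChar F ℂ) (χ₁ χ₂ : Matrix.SpecialLinearGroup (Fin 2) F → ℂ) :
    mU ψ (χ₁ + χ₂) = mU ψ χ₁ + mU ψ χ₂ := by
  unfold mU
  rw [← mul_add, ← Finset.sum_add_distrib]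
  congr 1
  refine Finset.sum_congr rfl fun x _ => ?_
  rw [Pi.add_apply]; ring

theorem mU_sub (ψ : AddChar F ℂ) (χ₁ χ₂ : Matrix.SpecialLinearGroup (Fin 2) F → ℂ) :
    mU ψ (χ₁ - χ₂) = mU ψ χ₁ - mU ψ χ₂ := by
  unfold mU
  rw [← mul_sub, ← Finset.sum_sub_distrib]
  congr 1
  refine Finset.sum_congr rfl fun x _ => ?_
  rw [Pi.sub_apply]; ring

/-- The multiplicities are natural numbers for characters. -/
theorem mU_nat (ψ : AddChar F ℂ) {χ : Matrix.SpecialLinearGroup (Fin 2) F → ℂ}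
    (hχ : Cfsg.IsCharacter (Matrix.SpecialLinearGroup (Fin 2) F) χ) : ∃ n : ℕ, mU ψ χ = n := by
  have h1 : Cfsg.IsCharacter (Multiplicative F) (fun x => χ (uHom x)) :=
    Cfsg.Agent.H4.isCharacter_comp uHom hχ
  have h2 : Cfsg.IsCharacter (Multiplicative F) (ψ.toMonoidHom : Multiplicative F → ℂ) :=
    isCharacter_monoidHom ψ.toMonoidHom
  obtain ⟨n, hn⟩ := Cfsg.Agent.H4.classInner_isCharacter_nat h1 h2
  refine ⟨n, ?_⟩
  rw [← hn]
  unfold mU Cfsg.classInner
  congr 1
  · rw [Nat.card_eq_fintype_card, Fintype.card_multiplicative]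
  · refine (Fintype.sum_equiv Multiplicative.ofAdd _ _ fun x => ?_)
    show χ (uSL x) * ψ (-x) = χ (uSL x) * conj (ψ x)
    rw [AddChar.map_neg_eq_conj]

/-- The multiplicities of all the shifts of a primitive character add up to the degree. -/
theorem sum_mU_mulShift {ψ : AddChar F ℂ} (hψ : ψ.IsPrimitive)
    (χ : Matrix.SpecialLinearGroup (Fin 2) F → ℂ) : ∑ c : F, mU (ψ.mulShift c) χ = χ 1 := by
  classical
  unfold mU
  rw [← Finset.mul_sum, Finset.sum_comm]
  have h1 : ∀ x : F, ∑ c : F, χ (uSL x) * (ψ.mulShift c) (-x) =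
      χ (uSL x) * (if x = 0 then (Fintype.card F : ℂ) else 0) := by
    intro x
    rw [← Finset.mul_sum]
    congr 1
    have h2 := AddChar.sum_mulShift (-x) hψ
    simp only [AddChar.mulShift_apply]
    rw [h2]
    by_cases hx : x = 0
    · simp [hx]
    · simp [hx]
  rw [Finset.sum_congr rfl fun x _ => h1 x]
  simp only [mul_ite, mul_zero, Finset.sum_ite_eq', Finset.mem_univ, if_true]
  rw [uSL_zero]
  field_simp [card_ne_zero_complex (F := F)]

/-- Fourier inversion on the unipotent subgroup. -/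
theorem uSL_eq_sum_mU {ψ : AddChar F ℂ} (hψ : ψ.IsPrimitive)
    (χ : Matrix.SpecialLinearGroup (Fin 2) F → ℂ) (x : F) :
    χ (uSL x) = ∑ c : F, mU (ψ.mulShift c) χ * ψ (c * x) := by
  classical
  unfold mU
  simp_rw [mul_assoc, Finset.sum_mul]
  rw [← Finset.mul_sum, Finset.sum_comm]
  have h1 : ∀ y : F, ∑ c : F, χ (uSL y) * (ψ.mulShift c) (-y) * ψ (c * x) =
      χ (uSL y) * (if y = x then (Fintype.card F : ℂ) else 0) := by
    intro y
    simp_rw [mul_assoc]
    rw [← Finset.mul_sum]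
    congr 1
    have h2 := AddChar.sum_mulShift (x - y) hψ
    have h3 : ∀ c : F, (ψ.mulShift c) (-y) * ψ (c * x) = ψ (c * (x - y)) := by
      intro c
      rw [AddChar.mulShift_apply, ← AddChar.map_add_eq_mul]
      congr 1
      ring
    rw [Finset.sum_congr rfl fun c _ => h3 c, h2]
    by_cases hx : y = x
    · simp [hx]
    · have : x - y ≠ 0 := fun h => hx (sub_eq_zero.mp h).symm
      simp [hx, this]
  rw [Finset.sum_congr rfl fun y _ => h1 y]
  simp only [mul_ite, mul_zero, Finset.sum_ite_eq', Finset.mem_univ, if_true]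
  field_simp [card_ne_zero_complex (F := F)]

/-- If `χ` is invariant under `x ↦ t x` on the unipotent subgroup then the multiplicities are
invariant under shifting by `t`. -/
theorem mU_mulShift_of_invariant (ψ : AddChar F ℂ) (χ : Matrix.SpecialLinearGroup (Fin 2) F → ℂ)
    (c t : F) (ht : t ≠ 0) (h : ∀ x, χ (uSL (t * x)) = χ (uSL x)) :
    mU (ψ.mulShift (c * t)) χ = mU (ψ.mulShift c) χ := by
  unfold mU
  congr 1
  have e : ∀ x : F, (Equiv.mulLeft₀ t ht) x = t * x := fun x => rfl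
  rw [← Equiv.sum_comp (Equiv.mulLeft₀ t ht) (fun x => χ (uSL x) * (ψ.mulShift c) (-x))]
  refine Finset.sum_congr rfl fun x _ => ?_
  rw [e, AddChar.mulShift_apply, AddChar.mulShift_apply, h x]
  congr 2
  ring

/-- The multiplicities of the twist of `χ` by an automorphism acting as `x ↦ t x` on the
unipotent subgroup. -/
theorem mU_twist (ψ : AddChar F ℂ) (χ χ' : Matrix.SpecialLinearGroup (Fin 2) F → ℂ)
    (c t : F) (ht : t ≠ 0) (h : ∀ x, χ' (uSL x) = χ (uSL (t * x))) :
    mU (ψ.mulShift (c * t)) χ' = mU (ψ.mulShift c) χ := by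
  unfold mU
  congr 1
  have e : ∀ x : F, (Equiv.mulLeft₀ t ht) x = t * x := fun x => rfl
  rw [← Equiv.sum_comp (Equiv.mulLeft₀ t ht) (fun x => χ (uSL x) * (ψ.mulShift c) (-x))]
  refine Finset.sum_congr rfl fun x _ => ?_
  rw [e, AddChar.mulShift_apply, AddChar.mulShift_apply, h x]
  congr 2
  ring

/-- Class functions are invariant under multiplication by squares on the unipotent subgroup. -/
theorem classFunction_uSL_sq {χ : Matrix.SpecialLinearGroup (Fin 2) F → ℂ}
    (hχ : Cfsg.IsClassFunction (Matrix.SpecialLinearGroup (Fin 2) F) χ) (s : F) (hs : s ≠ 0) (x : F) :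
    χ (uSL (s ^ 2 * x)) = χ (uSL x) := by
  by_cases hx : x = 0
  · rw [hx, mul_zero]
  · apply Cfsg.Agent.H4.isClassFunction_iff_isConj.mp hχ
    rw [uSL_isConj_iff (mul_ne_zero (pow_ne_zero 2 hs) hx) hx]
    exact ⟨s * x, by ring⟩

theorem mU_mulShift_sq (ψ : AddChar F ℂ) {χ : Matrix.SpecialLinearGroup (Fin 2) F → ℂ}
    (hχ : Cfsg.IsClassFunction (Matrix.SpecialLinearGroup (Fin 2) F) χ) (c s : F) (hs : s ≠ 0) :
    mU (ψ.mulShift (c * s ^ 2)) χ = mU (ψ.mulShift c) χ :=
  mU_mulShift_of_invariant ψ χ c (s ^ 2) (pow_ne_zero 2 hs) (classFunction_uSL_sq hχ s hs)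

end Cfsg.Agent.H44
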