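import Cfsg.Agent.H44.CharAux
import Cfsg.Agent.H44.SL2U

/-!
# The diagonal automorphism of SL₂ and the unipotent kernel lemma (helper44)
-/

set_option autoImplicit false

namespace Cfsg.Agent.H44

open Matrix
open scoped ComplexConjugate

variable {F : Type*} [Field F]

/-- Conjugation by `diag(t, 1)`, as a function on SL₂. -/
def twistFun (t : F) (ht : t ≠ 0) (g : Matrix.SpecialLinearGroup (Fin 2) F) :
    Matrix.SpecialLinearGroup (Fin 2) F :=
  ⟨!![(g : Matrix (Fin 2) (Fin 2) F) 0 0, t * (g : Matrix (Fin 2) (Fin 2) F) 0 1;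
      t⁻¹ * (g : Matrix (Fin 2) (Fin 2) F) 1 0, (g : Matrix (Fin 2) (Fin 2) F) 1 1], by
    have h := g.2
    rw [Matrix.det_fin_two] at h
    rw [Matrix.det_fin_two]
    simp only [Matrix.of_apply, Matrix.cons_val', Matrix.cons_val_zero, Matrix.cons_val_one,
      Matrix.cons_val_fin_one]
    field_simp
    linear_combination h⟩

theorem coe_twistFun (t : F) (ht : t ≠ 0) (g : Matrix.SpecialLinearGroup (Fin 2) F) :
    (twistFun t ht g : Matrix (Fin 2) (Fin 2) F) =
      !![(g : Matrix (Fin 2) (Fin 2) F) 0 0, t * (g : Matrix (Fin 2) (Fin 2) F) 0 1;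
        t⁻¹ * (g : Matrix (Fin 2) (Fin 2) F) 1 0, (g : Matrix (Fin 2) (Fin 2) F) 1 1] := rfl

/-- Conjugation by `diag(t, 1)`, as an automorphism of SL₂. -/
def twistSL (t : F) (ht : t ≠ 0) :
    Matrix.SpecialLinearGroup (Fin 2) F ≃* Matrix.SpecialLinearGroup (Fin 2) F where
  toFun := twistFun t ht
  invFun := twistFun t⁻¹ (inv_ne_zero ht)
  left_inv g := by
    apply Subtype.ext
    rw [coe_twistFun, coe_twistFun]
    ext i j
    fin_cases i <;> fin_cases j <;> simp <;> field_simp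
  right_inv g := by
    apply Subtype.ext
    rw [coe_twistFun, coe_twistFun]
    ext i j
    fin_cases i <;> fin_cases j <;> simp <;> field_simp
  map_mul' g h := by
    apply Subtype.ext
    rw [Matrix.SpecialLinearGroup.coe_mul, coe_twistFun, coe_twistFun, coe_twistFun,
      Matrix.SpecialLinearGroup.coe_mul]
    ext i j
    fin_cases i <;> fin_cases j <;> simp [Matrix.mul_apply, Fin.sum_univ_two] <;> field_simp <;> ring

theorem coe_twistSL (t : F) (ht : t ≠ 0) (g : Matrix.SpecialLinearGroup (Fin 2) F) :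
    (twistSL t ht g : Matrix (Fin 2) (Fin 2) F) =
      !![(g : Matrix (Fin 2) (Fin 2) F) 0 0, t * (g : Matrix (Fin 2) (Fin 2) F) 0 1;
        t⁻¹ * (g : Matrix (Fin 2) (Fin 2) F) 1 0, (g : Matrix (Fin 2) (Fin 2) F) 1 1] := rfl

theorem twistSL_uSL (t : F) (ht : t ≠ 0) (x : F) : twistSL t ht (uSL x) = uSL (t * x) := by
  apply Subtype.ext
  rw [coe_twistSL, coe_uSL, coe_uSL]
  simp [uMat]

theorem twistSL_mem_borelSL_iff (t : F) (ht : t ≠ 0) (g : Matrix.SpecialLinearGroup (Fin 2) F) :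
    twistSL t ht g ∈ borelSL F ↔ g ∈ borelSL F := by
  rw [mem_borelSL_iff', mem_borelSL_iff', coe_twistSL]
  simp [ht]

/-- `twistSL` is conjugation by a diagonal element of GL₂. -/
theorem toGL_twistSL (t : F) (ht : t ≠ 0) (g : Matrix.SpecialLinearGroup (Fin 2) F) :
    Matrix.SpecialLinearGroup.toGL (twistSL t ht g) =
      triGL (Units.mk0 t ht) 1 0 * Matrix.SpecialLinearGroup.toGL g * (triGL (Units.mk0 t ht) 1 0)⁻¹ := by
  rw [eq_mul_inv_iff_mul_eq]
  apply Units.ext
  rw [Units.val_mul, Units.val_mul, Matrix.SpecialLinearGroup.coe_GL_coe_matrix,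
    Matrix.SpecialLinearGroup.coe_GL_coe_matrix, coe_twistSL, coe_triGL]
  ext i j
  fin_cases i <;> fin_cases j <;> simp [Matrix.mul_apply, Fin.sum_univ_two] <;> field_simp

section PS

variable [Fintype F] [Fintype (Matrix.SpecialLinearGroup (Fin 2) F)]

/-- The principal series functions are invariant under the diagonal automorphism. -/
theorem psSL_twistSL (α : MulChar F ℂ) (t : F) (ht : t ≠ 0) (g : Matrix.SpecialLinearGroup (Fin 2) F) :
    psSL α (twistSL t ht g) = psSL α g := by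
  unfold psSL
  rw [Cfsg.Agent.H4.indFun_apply, Cfsg.Agent.H4.indFun_apply]
  congr 1
  rw [← Equiv.sum_comp (twistSL t ht).toEquiv]
  refine Finset.sum_congr rfl fun y _ => ?_
  have h1 : ((twistSL t ht).toEquiv y)⁻¹ * twistSL t ht g * (twistSL t ht).toEquiv y =
      twistSL t ht (y⁻¹ * g * y) := by
    show (twistSL t ht y)⁻¹ * twistSL t ht g * twistSL t ht y = _
    rw [map_mul, map_mul, map_inv]
  rw [h1]
  set k := y⁻¹ * g * y with hk
  by_cases hmem : k ∈ borelSL F
  · have hmem' : twistSL t ht k ∈ borelSL F := (twistSL_mem_borelSL_iff t ht k).mpr hmem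
    rw [Cfsg.Agent.H4.extendByZero_of_mem _ _ hmem, Cfsg.Agent.H4.extendByZero_of_mem _ _ hmem']
    show α ((twistSL t ht k : Matrix (Fin 2) (Fin 2) F) 0 0) = α ((k : Matrix (Fin 2) (Fin 2) F) 0 0)
    rw [coe_twistSL]
    simp
  · have hmem' : twistSL t ht k ∉ borelSL F := fun h => hmem ((twistSL_mem_borelSL_iff t ht k).mp h)
    rw [Cfsg.Agent.H4.extendByZero_of_not_mem _ _ hmem, Cfsg.Agent.H4.extendByZero_of_not_mem _ _ hmem']

end PS

/-! ### Generation by unipotent elements -/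

/-- Lower unitriangular element of SL₂. -/
def lSL (x : F) : Matrix.SpecialLinearGroup (Fin 2) F := ⟨!![1, 0; x, 1], by simp [Matrix.det_fin_two]⟩

/-- The Weyl element of SL₂. -/
def wSL : Matrix.SpecialLinearGroup (Fin 2) F := ⟨!![0, 1; -1, 0], by simp [Matrix.det_fin_two]⟩

theorem lSL_eq_conj (x : F) : lSL x = wSL * uSL (-x) * (wSL : Matrix.SpecialLinearGroup (Fin 2) F)⁻¹ := by
  rw [eq_mul_inv_iff_mul_eq]
  apply Subtype.ext
  rw [Matrix.SpecialLinearGroup.coe_mul, Matrix.SpecialLinearGroup.coe_mul, coe_uSL]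
  ext i j
  fin_cases i <;> fin_cases j <;> simp [lSL, wSL, uMat, Matrix.mul_apply, Fin.sum_univ_two]

theorem triSL'_zero_eq (a : Fˣ) :
    triSL' a 0 = uSL (a : F) * lSL (-((a⁻¹ : Fˣ) : F)) * uSL (a : F) * (uSL (-1) * lSL 1 * uSL (-1)) := by
  apply Subtype.ext
  simp only [Matrix.SpecialLinearGroup.coe_mul, coe_uSL, coe_triSL']
  ext i j
  fin_cases i <;> fin_cases j <;> simp [lSL, uMat, Matrix.mul_apply, Fin.sum_univ_two] <;> ring_nf <;> simp

theorem triSL'_eq_mul (a : Fˣ) (x : F) : triSL' a x = triSL' a 0 * uSL (((a⁻¹ : Fˣ) : F) * x) := by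
  apply Subtype.ext
  simp only [Matrix.SpecialLinearGroup.coe_mul, coe_uSL, coe_triSL']
  ext i j
  fin_cases i <;> fin_cases j <;> simp [uMat, Matrix.mul_apply, Fin.sum_univ_two]

/-- A character that is constant on the upper unitriangular subgroup is constant on the Borel
subgroup (indeed it is a multiple of the trivial character). -/
theorem character_const_on_borel [Finite F] {χ : Matrix.SpecialLinearGroup (Fin 2) F → ℂ}
    (hχ : Cfsg.IsCharacter (Matrix.SpecialLinearGroup (Fin 2) F) χ) (h : ∀ x : F, χ (uSL x) = χ 1)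
    (a : Fˣ) (x : F) : χ (triSL' a x) = χ 1 := by
  obtain ⟨n, ρ, rfl⟩ := hχ
  have hone : ρ.character 1 = (Module.finrank ℂ (Fin n → ℂ) : ℂ) := Representation.char_one ρ
  have hu : ∀ x : F, ρ (uSL x) = 1 := by
    intro x
    have := (Cfsg.Agent.H4.character_eq_finrank_iff ρ (uSL x)).mp (by rw [h x, hone])
    exact this
  have hl : ∀ x : F, ρ (lSL x) = 1 := by
    intro x
    rw [lSL_eq_conj, map_mul, map_mul, hu, mul_one, ← map_mul, mul_inv_cancel, map_one]
  have hd : ρ (triSL' a 0) = 1 := by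
    rw [triSL'_zero_eq]
    simp only [map_mul, hu, hl, mul_one]
  have ht : ρ (triSL' a x) = 1 := by
    rw [triSL'_eq_mul, map_mul, hd, hu, mul_one]
  rw [hone]
  exact (Cfsg.Agent.H4.character_eq_finrank_iff ρ _).mpr ht

end Cfsg.Agent.H44
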