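import Mathlib
import Cfsg.Agent.H45.SLTrans

set_option autoImplicit false

namespace Cfsg.Agent.H44

open Matrix

section SLnTrans

variable {F : Type*} [Field F] {n : ℕ}

/-- A transvection `1 + (w - v) φᵀ` moving `v` to `w` and fixing `x`. -/
theorem transv_move_fix (v w φ x : Fin n → F) (h1 : φ ⬝ᵥ v = 1) (h2 : φ ⬝ᵥ w = 1)
    (hx : φ ⬝ᵥ x = 0) :
    ∃ M : Matrix.SpecialLinearGroup (Fin n) F,
      (M : Matrix (Fin n) (Fin n) F) *ᵥ v = w ∧ (M : Matrix (Fin n) (Fin n) F) *ᵥ x = x := by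
  have hdet : (1 + Matrix.vecMulVec (w - v) φ).det = 1 := by
    rw [Matrix.vecMulVec_eq (Fin 1), Matrix.det_one_add_replicateCol_mul_replicateRow,
      dotProduct_sub, h1, h2, sub_self, add_zero]
  refine ⟨⟨_, hdet⟩, ?_, ?_⟩
  · show (1 + Matrix.vecMulVec (w - v) φ) *ᵥ v = w
    rw [Matrix.add_mulVec, Matrix.one_mulVec, Matrix.vecMulVec_mulVec, h1]
    simp
  · show (1 + Matrix.vecMulVec (w - v) φ) *ᵥ x = x
    rw [Matrix.add_mulVec, Matrix.one_mulVec, Matrix.vecMulVec_mulVec, hx]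
    simp

theorem SLn_mulVec_mul (g h : Matrix.SpecialLinearGroup (Fin n) F) (v : Fin n → F) :
    ((g * h : Matrix.SpecialLinearGroup (Fin n) F) : Matrix (Fin n) (Fin n) F) *ᵥ v =
      (g : Matrix (Fin n) (Fin n) F) *ᵥ ((h : Matrix (Fin n) (Fin n) F) *ᵥ v) := by
  rw [Matrix.SpecialLinearGroup.coe_mul, Matrix.mulVec_mulVec]

theorem SLn_mulVec_one (v : Fin n → F) :
    ((1 : Matrix.SpecialLinearGroup (Fin n) F) : Matrix (Fin n) (Fin n) F) *ᵥ v = v := by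
  rw [Matrix.SpecialLinearGroup.coe_one, Matrix.one_mulVec]

theorem SLn_mulVec_inv (g : Matrix.SpecialLinearGroup (Fin n) F) (v : Fin n → F) :
    ((g⁻¹ : Matrix.SpecialLinearGroup (Fin n) F) : Matrix (Fin n) (Fin n) F) *ᵥ
      ((g : Matrix (Fin n) (Fin n) F) *ᵥ v) = v := by
  rw [← SLn_mulVec_mul, inv_mul_cancel, SLn_mulVec_one]

theorem SLn_mulVec_inv' (g : Matrix.SpecialLinearGroup (Fin n) F) (v : Fin n → F) :
    (g : Matrix (Fin n) (Fin n) F) *ᵥ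
      (((g⁻¹ : Matrix.SpecialLinearGroup (Fin n) F) : Matrix (Fin n) (Fin n) F) *ᵥ v) = v := by
  rw [← SLn_mulVec_mul, mul_inv_cancel, SLn_mulVec_one]

theorem SLn_mulVec_injective (g : Matrix.SpecialLinearGroup (Fin n) F) :
    Function.Injective (fun v : Fin n → F => (g : Matrix (Fin n) (Fin n) F) *ᵥ v) := by
  intro v w h
  have := congrArg (fun x => ((g⁻¹ : Matrix.SpecialLinearGroup (Fin n) F) :
    Matrix (Fin n) (Fin n) F) *ᵥ x) h
  change ((g⁻¹ : Matrix.SpecialLinearGroup (Fin n) F) : Matrix (Fin n) (Fin n) F) *ᵥ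
    ((g : Matrix (Fin n) (Fin n) F) *ᵥ v) =
    ((g⁻¹ : Matrix.SpecialLinearGroup (Fin n) F) : Matrix (Fin n) (Fin n) F) *ᵥ
    ((g : Matrix (Fin n) (Fin n) F) *ᵥ w) at this
  rwa [SLn_mulVec_inv, SLn_mulVec_inv] at this

theorem SLn_mulVec_eq_zero_iff (g : Matrix.SpecialLinearGroup (Fin n) F) (v : Fin n → F) :
    (g : Matrix (Fin n) (Fin n) F) *ᵥ v = 0 ↔ v = 0 := by
  constructor
  · intro h
    apply SLn_mulVec_injective g
    simp only [h, Matrix.mulVec_zero]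
  · rintro rfl
    exact Matrix.mulVec_zero _

/-- Case A: `w` has a nonzero coordinate outside `{i0, i1}`. -/
theorem SLn_fix_move_caseA (i0 i1 k : Fin n) (h01 : i0 ≠ i1) (hk0 : k ≠ i0) (hk1 : k ≠ i1)
    (w : Fin n → F) (hwk : w k ≠ 0) :
    ∃ M : Matrix.SpecialLinearGroup (Fin n) F,
      (M : Matrix (Fin n) (Fin n) F) *ᵥ (Pi.single i0 1) = Pi.single i0 1 ∧
      (M : Matrix (Fin n) (Fin n) F) *ᵥ w = Pi.single i1 1 := by
  classical
  obtain ⟨M, hM1, hM2⟩ := transv_move_fix w (Pi.single i1 1)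
    (Pi.single i1 1 + Pi.single k ((1 - w i1) / w k)) (Pi.single i0 1)
    (by
      rw [add_dotProduct, single_dotProduct, single_dotProduct, one_mul, div_mul_cancel₀ _ hwk]
      ring)
    (by
      rw [add_dotProduct, single_dotProduct, single_dotProduct, Pi.single_eq_same,
        Pi.single_eq_of_ne hk1]
      ring)
    (by
      rw [add_dotProduct, single_dotProduct, single_dotProduct, Pi.single_eq_of_ne h01.symm,
        Pi.single_eq_of_ne hk0]
      ring)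
  exact ⟨M, hM2, hM1⟩

/-- For `n ≥ 3`: a vector not on the line of `e₀` can be moved to `e₁` fixing `e₀`. -/
theorem SLn_fix_move (i0 i1 i2 : Fin n) (h01 : i0 ≠ i1) (h02 : i0 ≠ i2) (h12 : i1 ≠ i2)
    (w : Fin n → F) (hw : ∀ c : F, w ≠ c • (Pi.single i0 1 : Fin n → F)) :
    ∃ M : Matrix.SpecialLinearGroup (Fin n) F,
      (M : Matrix (Fin n) (Fin n) F) *ᵥ (Pi.single i0 1) = Pi.single i0 1 ∧
      (M : Matrix (Fin n) (Fin n) F) *ᵥ w = Pi.single i1 1 := by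
  classical
  by_cases hex : ∃ k : Fin n, k ≠ i0 ∧ k ≠ i1 ∧ w k ≠ 0
  · obtain ⟨k, hk0, hk1, hwk⟩ := hex
    exact SLn_fix_move_caseA i0 i1 k h01 hk0 hk1 w hwk
  · push Not at hex
    have hw1 : w i1 ≠ 0 := by
      intro h1
      apply hw (w i0)
      funext k
      by_cases hk0 : k = i0
      · subst hk0; simp
      · by_cases hk1 : k = i1
        · subst hk1; simp [h1, Pi.single_eq_of_ne hk0]
        · simp [hex k hk0 hk1, Pi.single_eq_of_ne hk0]
    obtain ⟨M1, hM1, hM1'⟩ := transv_move_fix w (w + Pi.single i2 1)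
      (Pi.single i1 (w i1)⁻¹) (Pi.single i0 1)
      (by rw [single_dotProduct, inv_mul_cancel₀ hw1])
      (by rw [single_dotProduct, Pi.add_apply, Pi.single_eq_of_ne h12, add_zero,
        inv_mul_cancel₀ hw1])
      (by rw [single_dotProduct, Pi.single_eq_of_ne h01.symm, mul_zero])
    obtain ⟨M2, hM2, hM2'⟩ := SLn_fix_move_caseA i0 i1 i2 h01 h02.symm h12.symm
      (w + Pi.single i2 1) (by
        rw [Pi.add_apply, hex i2 h02.symm h12.symm, zero_add, Pi.single_eq_same]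
        exact one_ne_zero)
    refine ⟨M2 * M1, ?_, ?_⟩
    · rw [SLn_mulVec_mul, hM1', hM2]
    · rw [SLn_mulVec_mul, hM1, hM2']

/-- For `n ≥ 3`, `SL_n(F)` moves any independent pair to `(e₀, e₁)`. -/
theorem SLn_pair_to_std (hn : 3 ≤ n) (v w : Fin n → F) (hv : v ≠ 0)
    (hw : ∀ c : F, w ≠ c • v) :
    ∃ M : Matrix.SpecialLinearGroup (Fin n) F,
      (M : Matrix (Fin n) (Fin n) F) *ᵥ v = Pi.single (⟨0, by omega⟩ : Fin n) 1 ∧
      (M : Matrix (Fin n) (Fin n) F) *ᵥ w = Pi.single (⟨1, by omega⟩ : Fin n) 1 := by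
  classical
  have h01 : (⟨0, by omega⟩ : Fin n) ≠ ⟨1, by omega⟩ := by
    intro h; exact absurd (congrArg Fin.val h) (by simp)
  have h02 : (⟨0, by omega⟩ : Fin n) ≠ ⟨2, by omega⟩ := by
    intro h; exact absurd (congrArg Fin.val h) (by simp)
  have h12 : (⟨1, by omega⟩ : Fin n) ≠ ⟨2, by omega⟩ := by
    intro h; exact absurd (congrArg Fin.val h) (by simp)
  have he0 : (Pi.single (⟨0, by omega⟩ : Fin n) 1 : Fin n → F) ≠ 0 := by
    intro h
    have := congrFun h ⟨0, by omega⟩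
    simp at this
  obtain ⟨M0, hM0⟩ := Cfsg.Agent.H45.SL_transitive (by omega : 2 ≤ n) v
    (Pi.single (⟨0, by omega⟩ : Fin n) 1) hv he0
  obtain ⟨M, hM, hM'⟩ := SLn_fix_move (⟨0, by omega⟩ : Fin n) ⟨1, by omega⟩ ⟨2, by omega⟩
    h01 h02 h12 ((M0 : Matrix (Fin n) (Fin n) F) *ᵥ w) (by
      intro c hc
      apply hw c
      apply SLn_mulVec_injective M0
      show (M0 : Matrix (Fin n) (Fin n) F) *ᵥ w = (M0 : Matrix (Fin n) (Fin n) F) *ᵥ (c • v)
      rw [Matrix.mulVec_smul, hM0, hc])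
  refine ⟨M * M0, ?_, ?_⟩
  · rw [SLn_mulVec_mul, hM0, hM]
  · rw [SLn_mulVec_mul, hM']

/-- For `n ≥ 3`, `SL_n(F)` is transitive on independent pairs. -/
theorem SLn_pair_transitive (hn : 3 ≤ n) (v w v' w' : Fin n → F) (hv : v ≠ 0)
    (hw : ∀ c : F, w ≠ c • v) (hv' : v' ≠ 0) (hw' : ∀ c : F, w' ≠ c • v') :
    ∃ M : Matrix.SpecialLinearGroup (Fin n) F,
      (M : Matrix (Fin n) (Fin n) F) *ᵥ v = v' ∧ (M : Matrix (Fin n) (Fin n) F) *ᵥ w = w' := by
  obtain ⟨M1, h1, h1'⟩ := SLn_pair_to_std hn v w hv hw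
  obtain ⟨M2, h2, h2'⟩ := SLn_pair_to_std hn v' w' hv' hw'
  refine ⟨M2⁻¹ * M1, ?_, ?_⟩
  · rw [SLn_mulVec_mul, h1, ← h2, SLn_mulVec_inv]
  · rw [SLn_mulVec_mul, h1', ← h2', SLn_mulVec_inv]

end SLnTrans

end Cfsg.Agent.H44
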