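import Mathlib
import Cfsg.Agent.H44.SLnTrans

set_option autoImplicit false

namespace Cfsg.Agent.H44

open Matrix

section Generic

/-- Twisted Burnside count for a transitive action: `∑_{v ∈ S} #{g | g v = τ v} = |G|` when
`τ` permutes the orbit `S`. -/
theorem sum_card_twisted {G : Type*} [Group G] [Fintype G] [DecidableEq G] {V : Type*}
    [DecidableEq V]
    (act : G → V → V) (hone : ∀ v, act 1 v = v)
    (hmul : ∀ g h v, act (g * h) v = act g (act h v))
    (S : Finset V) (hS : S.Nonempty) (hstab : ∀ g, ∀ v ∈ S, act g v ∈ S)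
    (htrans : ∀ v ∈ S, ∀ w ∈ S, ∃ g, act g v = w)
    (τ : V → V) (hτS : ∀ v ∈ S, τ v ∈ S) (hτinj : Set.InjOn τ S) :
    ∑ v ∈ S, (Finset.univ.filter (fun g => act g v = τ v)).card = Fintype.card G := by
  obtain ⟨y₀, hy₀⟩ := hS
  have h1 : ∀ v ∈ S, (Finset.univ.filter (fun g => act g v = τ v)).card =
      (Finset.univ.filter (fun g => act g y₀ = τ v)).card := by
    intro v hv
    obtain ⟨h, hh⟩ := htrans y₀ hy₀ v hv
    refine Finset.card_bij' (fun g _ => g * h) (fun g _ => g * h⁻¹) ?_ ?_ ?_ ?_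
    · intro g hg
      simp only [Finset.mem_filter, Finset.mem_univ, true_and] at hg ⊢
      rw [hmul, hh, hg]
    · intro g hg
      simp only [Finset.mem_filter, Finset.mem_univ, true_and] at hg ⊢
      rw [hmul, ← hg]
      congr 1
      rw [← hh, ← hmul, inv_mul_cancel, hone]
    · intro g _; simp
    · intro g _; simp
  rw [Finset.sum_congr rfl h1]
  simp only [Finset.card_filter]
  rw [Finset.sum_comm]
  have h2 : ∀ g : G, ∑ v ∈ S, (if act g y₀ = τ v then 1 else 0) = 1 := by
    intro g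
    have himg : S.image τ = S := by
      apply Finset.eq_of_subset_of_card_le
      · intro x hx
        obtain ⟨v, hv, rfl⟩ := Finset.mem_image.mp hx
        exact hτS v hv
      · rw [Finset.card_image_of_injOn hτinj]
    have hmem : act g y₀ ∈ S.image τ := by rw [himg]; exact hstab g y₀ hy₀
    obtain ⟨v₁, hv₁, hv₁'⟩ := Finset.mem_image.mp hmem
    rw [Finset.sum_eq_single v₁]
    · simp [hv₁']
    · intro b hb hne
      rw [if_neg]
      intro h
      exact hne (hτinj hb hv₁ (by rw [← h, hv₁']))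
    · intro h; exact absurd hv₁ h
  rw [Finset.sum_congr rfl (fun g _ => h2 g)]
  simp

end Generic

section SLnCount

variable {F : Type*} [Field F] [Fintype F] [DecidableEq F] {n : ℕ}

/-- The nonzero vectors. -/
def nzVec (F : Type*) [Field F] [Fintype F] [DecidableEq F] (n : ℕ) : Finset (Fin n → F) :=
  Finset.univ.filter (fun v => v ≠ 0)

theorem mem_nzVec (v : Fin n → F) : v ∈ nzVec F n ↔ v ≠ 0 := by
  simp [nzVec]

/-- Number of nonzero `v` with `g v = c v`. -/
def eigCount (g : Matrix.SpecialLinearGroup (Fin n) F) (c : F) : ℕ :=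
  ((nzVec F n).filter (fun v => (g : Matrix (Fin n) (Fin n) F) *ᵥ v = c • v)).card

theorem nzVec_nonempty (hn : 1 ≤ n) : (nzVec F n).Nonempty := by
  refine ⟨Pi.single (⟨0, by omega⟩ : Fin n) 1, ?_⟩
  rw [mem_nzVec]
  intro h
  have := congrFun h ⟨0, by omega⟩
  simp at this

theorem sum_stab_twisted (hn : 2 ≤ n) (c : F) (hc : c ≠ 0) :
    ∑ v ∈ nzVec F n, (Finset.univ.filter (fun g : Matrix.SpecialLinearGroup (Fin n) F =>
      (g : Matrix (Fin n) (Fin n) F) *ᵥ v = c • v)).card =
      Fintype.card (Matrix.SpecialLinearGroup (Fin n) F) :=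
  sum_card_twisted (G := Matrix.SpecialLinearGroup (Fin n) F)
    (fun g v => (g : Matrix (Fin n) (Fin n) F) *ᵥ v) SLn_mulVec_one SLn_mulVec_mul
    (nzVec F n) (nzVec_nonempty (by omega))
    (by
      intro g v hv
      rw [mem_nzVec] at hv ⊢
      intro h0
      exact hv ((SLn_mulVec_eq_zero_iff g v).mp h0))
    (by
      intro v hv w hw
      rw [mem_nzVec] at hv hw
      exact Cfsg.Agent.H45.SL_transitive hn v w hv hw)
    (fun v => c • v)
    (by
      intro v hv
      rw [mem_nzVec] at hv ⊢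
      exact smul_ne_zero hc hv)
    (by
      intro v _ w _ hvw
      exact smul_right_injective _ hc hvw)

theorem sum_eigCount (hn : 2 ≤ n) (c : F) (hc : c ≠ 0) :
    ∑ g : Matrix.SpecialLinearGroup (Fin n) F, eigCount g c =
      Fintype.card (Matrix.SpecialLinearGroup (Fin n) F) := by
  rw [← sum_stab_twisted hn c hc]
  simp only [eigCount, Finset.card_filter]
  rw [Finset.sum_comm]

/-- The independent pairs of vectors. -/
def indPairs (F : Type*) [Field F] [Fintype F] [DecidableEq F] (n : ℕ) :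
    Finset ((Fin n → F) × (Fin n → F)) :=
  (nzVec F n ×ˢ nzVec F n).filter (fun p => ¬ ∃ a : F, p.2 = a • p.1)

theorem mem_indPairs (p : (Fin n → F) × (Fin n → F)) :
    p ∈ indPairs F n ↔ p.1 ≠ 0 ∧ ∀ a : F, p.2 ≠ a • p.1 := by
  simp only [indPairs, Finset.mem_filter, Finset.mem_product, mem_nzVec, not_exists]
  constructor
  · rintro ⟨⟨h1, _⟩, h3⟩
    exact ⟨h1, h3⟩
  · rintro ⟨h1, h3⟩
    refine ⟨⟨h1, ?_⟩, h3⟩
    intro h2
    exact h3 0 (by rw [h2, zero_smul])

theorem indPairs_nonempty (hn : 2 ≤ n) : (indPairs F n).Nonempty := by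
  refine ⟨(Pi.single (⟨0, by omega⟩ : Fin n) 1, Pi.single (⟨1, by omega⟩ : Fin n) 1), ?_⟩
  rw [mem_indPairs]
  refine ⟨?_, ?_⟩
  · intro h
    have := congrFun h ⟨0, by omega⟩
    simp at this
  · intro a h
    have := congrFun h ⟨1, by omega⟩
    simp at this

theorem sum_ind (hn : 3 ≤ n) (c d : F) (hc : c ≠ 0) (hd : d ≠ 0) :
    ∑ p ∈ indPairs F n, (Finset.univ.filter (fun g : Matrix.SpecialLinearGroup (Fin n) F =>
      (g : Matrix (Fin n) (Fin n) F) *ᵥ p.1 = c • p.1 ∧
      (g : Matrix (Fin n) (Fin n) F) *ᵥ p.2 = d • p.2)).card =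
      Fintype.card (Matrix.SpecialLinearGroup (Fin n) F) := by
  have h := sum_card_twisted (G := Matrix.SpecialLinearGroup (Fin n) F)
    (V := (Fin n → F) × (Fin n → F))
    (fun g p => ((g : Matrix (Fin n) (Fin n) F) *ᵥ p.1, (g : Matrix (Fin n) (Fin n) F) *ᵥ p.2))
    (by intro p; simp only [SLn_mulVec_one])
    (by intro g h p; simp only [SLn_mulVec_mul])
    (indPairs F n) (indPairs_nonempty (by omega))
    (by
      intro g p hp
      rw [mem_indPairs] at hp ⊢
      refine ⟨fun h0 => hp.1 ((SLn_mulVec_eq_zero_iff g _).mp h0), ?_⟩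
      intro a ha
      apply hp.2 a
      apply SLn_mulVec_injective g
      show (g : Matrix (Fin n) (Fin n) F) *ᵥ p.2 = (g : Matrix (Fin n) (Fin n) F) *ᵥ (a • p.1)
      rw [Matrix.mulVec_smul]
      exact ha)
    (by
      intro p hp p' hp'
      rw [mem_indPairs] at hp hp'
      obtain ⟨M, hM1, hM2⟩ := SLn_pair_transitive hn p.1 p.2 p'.1 p'.2 hp.1 hp.2 hp'.1 hp'.2
      exact ⟨M, Prod.ext hM1 hM2⟩)
    (fun p => (c • p.1, d • p.2))
    (by
      intro p hp
      rw [mem_indPairs] at hp ⊢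
      refine ⟨smul_ne_zero hc hp.1, ?_⟩
      intro a ha
      apply hp.2 (d⁻¹ * (a * c))
      have : d • p.2 = a • c • p.1 := ha
      rw [mul_smul, mul_smul, ← this, smul_smul, inv_mul_cancel₀ hd, one_smul])
    (by
      intro p _ p' _ hpp
      simp only [Prod.mk.injEq] at hpp
      exact Prod.ext (smul_right_injective _ hc hpp.1) (smul_right_injective _ hd hpp.2))
  rw [← h]
  apply Finset.sum_congr rfl
  intro p _
  congr 1
  apply Finset.filter_congr
  intro g _
  simp only [Prod.mk.injEq]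

theorem card_nzF : (Finset.univ.filter (fun a : F => a ≠ 0)).card = Fintype.card F - 1 := by
  rw [Finset.filter_ne', Finset.card_erase_of_mem (Finset.mem_univ _), Finset.card_univ]

theorem sum_dep (hn : 2 ≤ n) (c d : F) (hc : c ≠ 0) :
    ∑ p ∈ (nzVec F n ×ˢ nzVec F n).filter (fun p => ∃ a : F, p.2 = a • p.1),
      (Finset.univ.filter (fun g : Matrix.SpecialLinearGroup (Fin n) F =>
      (g : Matrix (Fin n) (Fin n) F) *ᵥ p.1 = c • p.1 ∧
      (g : Matrix (Fin n) (Fin n) F) *ᵥ p.2 = d • p.2)).card =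
      (Fintype.card F - 1) *
        (if c = d then Fintype.card (Matrix.SpecialLinearGroup (Fin n) F) else 0) := by
  have hbij : ∑ q ∈ nzVec F n ×ˢ (Finset.univ.filter (fun a : F => a ≠ 0)),
      (Finset.univ.filter (fun g : Matrix.SpecialLinearGroup (Fin n) F =>
      (g : Matrix (Fin n) (Fin n) F) *ᵥ q.1 = c • q.1 ∧
      (g : Matrix (Fin n) (Fin n) F) *ᵥ (q.2 • q.1) = d • (q.2 • q.1))).card =
      ∑ p ∈ (nzVec F n ×ˢ nzVec F n).filter (fun p => ∃ a : F, p.2 = a • p.1),
      (Finset.univ.filter (fun g : Matrix.SpecialLinearGroup (Fin n) F =>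
      (g : Matrix (Fin n) (Fin n) F) *ᵥ p.1 = c • p.1 ∧
      (g : Matrix (Fin n) (Fin n) F) *ᵥ p.2 = d • p.2)).card := by
    refine Finset.sum_bij (fun q _ => (q.1, q.2 • q.1)) ?_ ?_ ?_ ?_
    · intro q hq
      simp only [Finset.mem_product, mem_nzVec, Finset.mem_filter, Finset.mem_univ,
        true_and] at hq ⊢
      exact ⟨⟨hq.1, smul_ne_zero hq.2 hq.1⟩, q.2, rfl⟩
    · intro q hq q' hq' h
      simp only [Finset.mem_product, mem_nzVec, Finset.mem_filter, Finset.mem_univ,
        true_and] at hq hq'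
      simp only [Prod.mk.injEq] at h
      obtain ⟨h1, h2⟩ := h
      refine Prod.ext h1 ?_
      rw [← h1] at h2
      exact smul_left_injective F hq.1 h2
    · intro p hp
      simp only [Finset.mem_product, mem_nzVec, Finset.mem_filter] at hp
      obtain ⟨⟨h1, h2⟩, a, ha⟩ := hp
      refine ⟨(p.1, a), ?_, ?_⟩
      · simp only [Finset.mem_product, mem_nzVec, Finset.mem_filter, Finset.mem_univ,
          true_and]
        refine ⟨h1, ?_⟩
        rintro rfl
        exact h2 (by rw [ha, zero_smul])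
      · exact Prod.ext rfl ha.symm
    · intro q _
      rfl
  rw [← hbij]
  have hk : ∀ q ∈ nzVec F n ×ˢ (Finset.univ.filter (fun a : F => a ≠ 0)),
      (Finset.univ.filter (fun g : Matrix.SpecialLinearGroup (Fin n) F =>
      (g : Matrix (Fin n) (Fin n) F) *ᵥ q.1 = c • q.1 ∧
      (g : Matrix (Fin n) (Fin n) F) *ᵥ (q.2 • q.1) = d • (q.2 • q.1))).card =
      if c = d then (Finset.univ.filter (fun g : Matrix.SpecialLinearGroup (Fin n) F =>
      (g : Matrix (Fin n) (Fin n) F) *ᵥ q.1 = c • q.1)).card else 0 := by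
    intro q hq
    simp only [Finset.mem_product, mem_nzVec, Finset.mem_filter, Finset.mem_univ,
      true_and] at hq
    by_cases hcd : c = d
    · rw [if_pos hcd]
      congr 1
      apply Finset.filter_congr
      intro g _
      constructor
      · exact fun h => h.1
      · intro h
        refine ⟨h, ?_⟩
        rw [Matrix.mulVec_smul, h, ← hcd, smul_comm]
    · rw [if_neg hcd, Finset.card_eq_zero, Finset.filter_eq_empty_iff]
      intro g _ h
      obtain ⟨h1, h2⟩ := h
      rw [Matrix.mulVec_smul, h1, smul_smul, smul_smul] at h2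
      have h3 := smul_left_injective F hq.1 h2
      apply hcd
      have h4 : q.2 * c = q.2 * d := by rw [h3, mul_comm]
      exact mul_left_cancel₀ hq.2 h4
  rw [Finset.sum_congr rfl hk, Finset.sum_product]
  simp only [Finset.sum_const, card_nzF, smul_eq_mul]
  rw [← Finset.mul_sum]
  congr 1
  by_cases hcd : c = d
  · simp only [if_pos hcd]
    exact sum_stab_twisted hn c hc
  · simp only [if_neg hcd, Finset.sum_const_zero]

theorem eigCount_mul (g : Matrix.SpecialLinearGroup (Fin n) F) (c d : F) :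
    eigCount g c * eigCount g d =
      ((nzVec F n ×ˢ nzVec F n).filter (fun p =>
        (g : Matrix (Fin n) (Fin n) F) *ᵥ p.1 = c • p.1 ∧
        (g : Matrix (Fin n) (Fin n) F) *ᵥ p.2 = d • p.2)).card := by
  rw [Finset.filter_product (s := nzVec F n) (t := nzVec F n)
    (fun v => (g : Matrix (Fin n) (Fin n) F) *ᵥ v = c • v)
    (fun v => (g : Matrix (Fin n) (Fin n) F) *ᵥ v = d • v), Finset.card_product]
  rfl

theorem sum_eigCount_mul (hn : 3 ≤ n) (c d : F) (hc : c ≠ 0) (hd : d ≠ 0) :
    ∑ g : Matrix.SpecialLinearGroup (Fin n) F, eigCount g c * eigCount g d =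
      Fintype.card (Matrix.SpecialLinearGroup (Fin n) F) *
        ((Fintype.card F - 1) * (if c = d then 1 else 0) + 1) := by
  simp only [eigCount_mul, Finset.card_filter]
  rw [Finset.sum_comm]
  simp only [← Finset.card_filter]
  rw [← Finset.sum_filter_add_sum_filter_not (nzVec F n ×ˢ nzVec F n)
    (fun p => ∃ a : F, p.2 = a • p.1)]
  have h2 := sum_ind hn c d hc hd
  rw [indPairs] at h2
  rw [sum_dep (by omega) c d hc, h2]
  by_cases hcd : c = d
  · simp only [if_pos hcd]; ring
  · simp only [if_neg hcd]; ring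

end SLnCount

end Cfsg.Agent.H44
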