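import Mathlib
import Cfsg.Agent.H44.SLnTrans
import Cfsg.Agent.H45.SLGen

/-!
# General transvections in `SL_n(F)` (helper44)

`tv v φ h = 1 + v φᵀ` for `φ ⬝ᵥ v = 0`; multiplication and conjugation rules; for `n ≥ 3` all
transvections are conjugate.
-/

set_option autoImplicit false

namespace Cfsg.Agent.H44

open Matrix

section Tv

variable {F : Type*} [Field F] {n : ℕ}

/-- The transvection `1 + v φᵀ`. -/
def tv (v φ : Fin n → F) (h : φ ⬝ᵥ v = 0) : Matrix.SpecialLinearGroup (Fin n) F :=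
  ⟨1 + Matrix.vecMulVec v φ, by
    rw [Matrix.vecMulVec_eq (Fin 1), Matrix.det_one_add_replicateCol_mul_replicateRow, h,
      add_zero]⟩

theorem tv_coe (v φ : Fin n → F) (h : φ ⬝ᵥ v = 0) :
    ((tv v φ h : Matrix.SpecialLinearGroup (Fin n) F) : Matrix (Fin n) (Fin n) F) =
      1 + Matrix.vecMulVec v φ := rfl

theorem tv_mulVec (v φ : Fin n → F) (h : φ ⬝ᵥ v = 0) (x : Fin n → F) :
    ((tv v φ h : Matrix.SpecialLinearGroup (Fin n) F) : Matrix (Fin n) (Fin n) F) *ᵥ x =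
      x + (φ ⬝ᵥ x) • v := by
  rw [tv_coe, Matrix.add_mulVec, Matrix.one_mulVec, Matrix.vecMulVec_mulVec]
  congr 1
  funext i
  simp [mul_comm]

theorem tv_congr {v v' φ φ' : Fin n → F} (hv : v = v') (hφ : φ = φ') (h : φ ⬝ᵥ v = 0) :
    tv v φ h = tv v' φ' (by rw [← hv, ← hφ]; exact h) := by
  subst hv hφ; rfl

theorem tv_zero_right (v : Fin n → F) :
    tv v (0 : Fin n → F) (zero_dotProduct v) = 1 := by
  apply Subtype.ext
  rw [tv_coe]
  ext i j
  simp [Matrix.vecMulVec_apply]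

theorem tv_zero_left (φ : Fin n → F) :
    tv (0 : Fin n → F) φ (dotProduct_zero φ) = 1 := by
  apply Subtype.ext
  rw [tv_coe]
  ext i j
  simp [Matrix.vecMulVec_apply]

theorem tv_mul_right (v φ φ' : Fin n → F) (h : φ ⬝ᵥ v = 0) (h' : φ' ⬝ᵥ v = 0) :
    tv v φ h * tv v φ' h' = tv v (φ + φ') (by rw [add_dotProduct, h, h', add_zero]) := by
  apply Subtype.ext
  rw [Matrix.SpecialLinearGroup.coe_mul, tv_coe, tv_coe, tv_coe, add_mul, mul_add, mul_add,
    one_mul, mul_one, one_mul, Matrix.vecMulVec_mul_vecMulVec, h, zero_smul, Matrix.vecMulVec_add]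
  have : Matrix.vecMulVec v (0 : Fin n → F) = 0 := by
    ext i j; simp [Matrix.vecMulVec_apply]
  rw [this]
  abel

theorem tv_mul_left (v v' φ : Fin n → F) (h : φ ⬝ᵥ v = 0) (h' : φ ⬝ᵥ v' = 0) :
    tv v φ h * tv v' φ h' = tv (v + v') φ (by rw [dotProduct_add, h, h', add_zero]) := by
  apply Subtype.ext
  rw [Matrix.SpecialLinearGroup.coe_mul, tv_coe, tv_coe, tv_coe, add_mul, mul_add, mul_add,
    one_mul, mul_one, one_mul, Matrix.vecMulVec_mul_vecMulVec, h', zero_smul, Matrix.add_vecMulVec]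
  have : Matrix.vecMulVec v (0 : Fin n → F) = 0 := by
    ext i j; simp [Matrix.vecMulVec_apply]
  rw [this]
  abel

theorem tv_conj (g : Matrix.SpecialLinearGroup (Fin n) F) (v φ : Fin n → F) (h : φ ⬝ᵥ v = 0) :
    g * tv v φ h * g⁻¹ =
      tv ((g : Matrix (Fin n) (Fin n) F) *ᵥ v)
        (φ ᵥ* ((g⁻¹ : Matrix.SpecialLinearGroup (Fin n) F) : Matrix (Fin n) (Fin n) F))
        (by rw [← Matrix.dotProduct_mulVec, SLn_mulVec_inv]; exact h) := by
  apply Subtype.ext
  rw [Matrix.SpecialLinearGroup.coe_mul, Matrix.SpecialLinearGroup.coe_mul, tv_coe, tv_coe,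
    mul_add, add_mul, mul_one, Matrix.mul_vecMulVec, Matrix.vecMulVec_mul,
    ← Matrix.SpecialLinearGroup.coe_mul, mul_inv_cancel, Matrix.SpecialLinearGroup.coe_one]

theorem tv_eq_transvection {i j : Fin n} (hij : i ≠ j) (b : F) :
    tv (b • (Pi.single i 1 : Fin n → F)) (Pi.single j 1)
      (by rw [dotProduct_smul, single_dotProduct, one_mul, Pi.single_eq_of_ne hij.symm,
        smul_zero]) =
      Matrix.SpecialLinearGroup.transvection hij b := by
  apply Subtype.ext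
  rw [tv_coe, Matrix.SpecialLinearGroup.transvection_coe]
  congr 1
  ext a c
  rw [Matrix.vecMulVec_apply, Matrix.single_apply]
  by_cases ha : i = a
  · by_cases hc : j = c
    · subst ha hc; simp
    · subst ha; simp [Pi.single_eq_of_ne (Ne.symm hc), hc]
  · simp [Pi.single_eq_of_ne (Ne.symm ha), ha]

theorem tv_eq_transvection' {i j : Fin n} (hij : i ≠ j) (b : F) :
    tv (Pi.single i 1 : Fin n → F) (b • (Pi.single j 1 : Fin n → F))
      (by rw [smul_dotProduct, single_dotProduct, one_mul, Pi.single_eq_of_ne hij.symm,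
        smul_zero]) =
      Matrix.SpecialLinearGroup.transvection hij b := by
  apply Subtype.ext
  rw [tv_coe, Matrix.SpecialLinearGroup.transvection_coe]
  congr 1
  ext a c
  rw [Matrix.vecMulVec_apply, Matrix.single_apply]
  by_cases ha : i = a
  · by_cases hc : j = c
    · subst ha hc; simp
    · subst ha; simp [Pi.single_eq_of_ne (Ne.symm hc), hc]
  · simp [Pi.single_eq_of_ne (Ne.symm ha), ha]

theorem tv_eq_one_iff (v φ : Fin n → F) (h : φ ⬝ᵥ v = 0) :
    tv v φ h = 1 ↔ v = 0 ∨ φ = 0 := by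
  constructor
  · intro h1
    have h2 : Matrix.vecMulVec v φ = 0 := by
      have := congrArg (fun g : Matrix.SpecialLinearGroup (Fin n) F =>
        (g : Matrix (Fin n) (Fin n) F)) h1
      simp only [tv_coe, Matrix.SpecialLinearGroup.coe_one] at this
      exact add_eq_left.mp this
    by_contra hcon
    push Not at hcon
    obtain ⟨hv, hφ⟩ := hcon
    obtain ⟨i, hi⟩ : ∃ i, v i ≠ 0 := by
      by_contra hc; push Not at hc; exact hv (funext hc)
    obtain ⟨j, hj⟩ : ∃ j, φ j ≠ 0 := by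
      by_contra hc; push Not at hc; exact hφ (funext hc)
    have := congrFun (congrFun h2 i) j
    rw [Matrix.vecMulVec_apply] at this
    exact mul_ne_zero hi hj this
  · rintro (rfl | rfl)
    · exact tv_zero_left φ
    · exact tv_zero_right v

theorem tv_conj_coe (g : Matrix.SpecialLinearGroup (Fin n) F) (v φ : Fin n → F)
    (h : φ ⬝ᵥ v = 0) :
    ((g * tv v φ h * g⁻¹ : Matrix.SpecialLinearGroup (Fin n) F) : Matrix (Fin n) (Fin n) F) =
      1 + Matrix.vecMulVec ((g : Matrix (Fin n) (Fin n) F) *ᵥ v)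
        (φ ᵥ* ((g⁻¹ : Matrix.SpecialLinearGroup (Fin n) F) : Matrix (Fin n) (Fin n) F)) := by
  rw [tv_conj, tv_coe]

theorem single_vecMul_tv (i0 : Fin n) (d φ : Fin n → F) (h : φ ⬝ᵥ d = 0) (hd : d i0 = 0) :
    (Pi.single i0 1 : Fin n → F) ᵥ*
      ((tv d φ h : Matrix.SpecialLinearGroup (Fin n) F) : Matrix (Fin n) (Fin n) F) =
      Pi.single i0 1 := by
  rw [tv_coe, Matrix.vecMul_add, Matrix.vecMul_one, Matrix.vecMul_vecMulVec, single_dotProduct,
    hd, mul_zero, zero_smul, add_zero]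

/-- Case A of `SLn_row_move`. -/
theorem SLn_row_move_caseA (i0 i1 k : Fin n) (h01 : i0 ≠ i1) (hk0 : k ≠ i0) (hk1 : k ≠ i1)
    (a : Fin n → F) (ha0 : a i0 = 0) (hak : a k ≠ 0) :
    ∃ M : Matrix.SpecialLinearGroup (Fin n) F,
      (M : Matrix (Fin n) (Fin n) F) *ᵥ a = Pi.single i1 1 ∧
      (Pi.single i0 1 : Fin n → F) ᵥ* (M : Matrix (Fin n) (Fin n) F) = Pi.single i0 1 := by
  classical
  have h1 : (Pi.single i1 1 + Pi.single k ((1 - a i1) / a k) : Fin n → F) ⬝ᵥ a = 1 := by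
    rw [add_dotProduct, single_dotProduct, single_dotProduct, one_mul, div_mul_cancel₀ _ hak]
    ring
  have h2 : (Pi.single i1 1 + Pi.single k ((1 - a i1) / a k) : Fin n → F) ⬝ᵥ
      (Pi.single i1 1 : Fin n → F) = 1 := by
    rw [add_dotProduct, single_dotProduct, single_dotProduct, Pi.single_eq_same,
      Pi.single_eq_of_ne hk1]
    ring
  have h3 : (Pi.single i1 1 + Pi.single k ((1 - a i1) / a k) : Fin n → F) ⬝ᵥ
      ((Pi.single i1 1 : Fin n → F) - a) = 0 := by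
    rw [dotProduct_sub, h1, h2, sub_self]
  refine ⟨tv _ _ h3, ?_, ?_⟩
  · rw [tv_mulVec, h1, one_smul]
    abel
  · apply single_vecMul_tv
    rw [Pi.sub_apply, Pi.single_eq_of_ne h01, ha0, sub_zero]

/-- For `n ≥ 3`: a nonzero vector with vanishing `i0`-coordinate can be moved to `e_{i1}` by a
matrix of `SL_n` whose `i0`-th row is the `i0`-th row of the identity. -/
theorem SLn_row_move (i0 i1 i2 : Fin n) (h01 : i0 ≠ i1) (h02 : i0 ≠ i2) (h12 : i1 ≠ i2)
    (a : Fin n → F) (ha : a ≠ 0) (ha0 : a i0 = 0) :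
    ∃ M : Matrix.SpecialLinearGroup (Fin n) F,
      (M : Matrix (Fin n) (Fin n) F) *ᵥ a = Pi.single i1 1 ∧
      (Pi.single i0 1 : Fin n → F) ᵥ* (M : Matrix (Fin n) (Fin n) F) = Pi.single i0 1 := by
  classical
  by_cases hex : ∃ k : Fin n, k ≠ i0 ∧ k ≠ i1 ∧ a k ≠ 0
  · obtain ⟨k, hk0, hk1, hak⟩ := hex
    exact SLn_row_move_caseA i0 i1 k h01 hk0 hk1 a ha0 hak
  · push Not at hex
    have ha1 : a i1 ≠ 0 := by
      intro h1
      apply ha
      funext k
      by_cases hk0 : k = i0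
      · subst hk0; exact ha0
      · by_cases hk1 : k = i1
        · subst hk1; exact h1
        · exact hex k hk0 hk1
    have e1 : (Pi.single i1 (a i1)⁻¹ + Pi.single i2 1 : Fin n → F) ⬝ᵥ a = 1 := by
      rw [add_dotProduct, single_dotProduct, single_dotProduct, inv_mul_cancel₀ ha1,
        hex i2 h02.symm h12.symm]
      ring
    have e2 : (Pi.single i1 (a i1)⁻¹ + Pi.single i2 1 : Fin n → F) ⬝ᵥ
        (Pi.single i2 1 : Fin n → F) = 1 := by
      rw [add_dotProduct, single_dotProduct, single_dotProduct, Pi.single_eq_same,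
        Pi.single_eq_of_ne h12]
      ring
    have e3 : (Pi.single i1 (a i1)⁻¹ + Pi.single i2 1 : Fin n → F) ⬝ᵥ
        ((Pi.single i2 1 : Fin n → F) - a) = 0 := by
      rw [dotProduct_sub, e1, e2, sub_self]
    obtain ⟨M2, hM2, hM2'⟩ := SLn_row_move_caseA i0 i1 i2 h01 h02.symm h12.symm
      (Pi.single i2 1 : Fin n → F) (Pi.single_eq_of_ne h02 _)
      (by rw [Pi.single_eq_same]; exact one_ne_zero)
    refine ⟨M2 * tv _ _ e3, ?_, ?_⟩
    · rw [SLn_mulVec_mul, tv_mulVec, e1, one_smul]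
      have : a + ((Pi.single i2 1 : Fin n → F) - a) = Pi.single i2 1 := by abel
      rw [this, hM2]
    · rw [Matrix.SpecialLinearGroup.coe_mul, ← Matrix.vecMul_vecMul, hM2']
      apply single_vecMul_tv
      rw [Pi.sub_apply, Pi.single_eq_of_ne h02, ha0, sub_zero]

/-- For `n ≥ 3`, every transvection is conjugate in `SL_n(F)` to the standard one. -/
theorem tv_conj_std (hn : 3 ≤ n) (v φ : Fin n → F) (hv : v ≠ 0) (hφ : φ ≠ 0)
    (h : φ ⬝ᵥ v = 0) :
    ∃ g : Matrix.SpecialLinearGroup (Fin n) F, g * tv v φ h * g⁻¹ =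
      Matrix.SpecialLinearGroup.transvection
        (show (⟨0, by omega⟩ : Fin n) ≠ ⟨1, by omega⟩ from fun h => by simp [Fin.ext_iff] at h)
        (1 : F) := by
  classical
  have h01 : (⟨0, by omega⟩ : Fin n) ≠ ⟨1, by omega⟩ := fun h => by simp [Fin.ext_iff] at h
  have h02 : (⟨0, by omega⟩ : Fin n) ≠ ⟨2, by omega⟩ := fun h => by simp [Fin.ext_iff] at h
  have h12 : (⟨1, by omega⟩ : Fin n) ≠ ⟨2, by omega⟩ := fun h => by simp [Fin.ext_iff] at h
  have he0 : (Pi.single (⟨0, by omega⟩ : Fin n) 1 : Fin n → F) ≠ 0 := by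
    intro h
    have := congrFun h ⟨0, by omega⟩
    simp at this
  obtain ⟨g1, hg1⟩ := Cfsg.Agent.H45.SL_transitive (by omega : 2 ≤ n) v
    (Pi.single (⟨0, by omega⟩ : Fin n) 1) hv he0
  have hg1' : ((g1⁻¹ : Matrix.SpecialLinearGroup (Fin n) F) : Matrix (Fin n) (Fin n) F) *ᵥ
      (Pi.single (⟨0, by omega⟩ : Fin n) 1) = v := by
    rw [← hg1, SLn_mulVec_inv]
  set φ1 : Fin n → F :=
    φ ᵥ* ((g1⁻¹ : Matrix.SpecialLinearGroup (Fin n) F) : Matrix (Fin n) (Fin n) F) with hφ1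
  have hφ10 : φ1 (⟨0, by omega⟩ : Fin n) = 0 := by
    have : φ1 ⬝ᵥ (Pi.single (⟨0, by omega⟩ : Fin n) 1 : Fin n → F) = 0 := by
      rw [hφ1, ← Matrix.dotProduct_mulVec, hg1']
      exact h
    rwa [dotProduct_single, mul_one] at this
  have hφ1ne : φ1 ≠ 0 := by
    intro h0
    apply hφ
    have : φ1 ᵥ* (g1 : Matrix (Fin n) (Fin n) F) = φ := by
      rw [hφ1, Matrix.vecMul_vecMul, ← Matrix.SpecialLinearGroup.coe_mul, inv_mul_cancel,
        Matrix.SpecialLinearGroup.coe_one, Matrix.vecMul_one]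
    rw [← this, h0, Matrix.zero_vecMul]
  obtain ⟨M, hM1, hM2⟩ := SLn_row_move (⟨0, by omega⟩ : Fin n) ⟨1, by omega⟩ ⟨2, by omega⟩
    h01 h02 h12 φ1 hφ1ne hφ10
  -- `N = Mᵀ`, `g2 = N⁻¹`
  have hN0 : ((M.transpose : Matrix.SpecialLinearGroup (Fin n) F) : Matrix (Fin n) (Fin n) F) *ᵥ
      (Pi.single (⟨0, by omega⟩ : Fin n) 1) = Pi.single (⟨0, by omega⟩ : Fin n) 1 := by
    rw [Matrix.SpecialLinearGroup.coe_transpose, Matrix.mulVec_transpose, hM2]
  have hN1 : φ1 ᵥ* ((M.transpose : Matrix.SpecialLinearGroup (Fin n) F) :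
      Matrix (Fin n) (Fin n) F) = Pi.single (⟨1, by omega⟩ : Fin n) 1 := by
    rw [Matrix.SpecialLinearGroup.coe_transpose, Matrix.vecMul_transpose, hM1]
  refine ⟨M.transpose⁻¹ * g1, ?_⟩
  have hstep : M.transpose⁻¹ * g1 * tv v φ h * (M.transpose⁻¹ * g1)⁻¹ =
      M.transpose⁻¹ * (g1 * tv v φ h * g1⁻¹) * (M.transpose⁻¹)⁻¹ := by
    group
  rw [hstep, tv_conj g1]
  apply Subtype.ext
  rw [tv_conj_coe, ← tv_eq_transvection h01 (1 : F), tv_coe, inv_inv, one_smul]
  congr 2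
  · rw [hg1]
    have := SLn_mulVec_inv M.transpose (Pi.single (⟨0, by omega⟩ : Fin n) (1 : F))
    rw [hN0] at this
    exact this

end Tv

end Cfsg.Agent.H44
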