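import Mathlib
import Cfsg.Agent.H44.SLnTv
import Cfsg.Agent.H44.SLnCount

/-!
# Counting the transvections of `SL_n(F)` (helper44)
-/

set_option autoImplicit false

namespace Cfsg.Agent.H44

open Matrix

section TvCount

variable {F : Type*} [Field F] [Fintype F] [DecidableEq F] {n : ℕ}

theorem card_dot_eq_zero (v : Fin n → F) (hv : v ≠ 0) :
    (Finset.univ.filter (fun φ : Fin n → F => φ ⬝ᵥ v = 0)).card * Fintype.card F =
      Fintype.card F ^ n := by
  obtain ⟨i, hi⟩ : ∃ i, v i ≠ 0 := by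
    by_contra hc; push Not at hc; exact hv (funext hc)
  have hfib : ∀ c : F, (Finset.univ.filter (fun φ : Fin n → F => φ ⬝ᵥ v = c)).card =
      (Finset.univ.filter (fun φ : Fin n → F => φ ⬝ᵥ v = 0)).card := by
    intro c
    refine Finset.card_bij' (fun φ _ => φ - Pi.single i (c / v i))
      (fun φ _ => φ + Pi.single i (c / v i)) ?_ ?_ ?_ ?_
    · intro φ hφ
      simp only [Finset.mem_filter, Finset.mem_univ, true_and] at hφ ⊢
      rw [sub_dotProduct, hφ, single_dotProduct, div_mul_cancel₀ _ hi, sub_self]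
    · intro φ hφ
      simp only [Finset.mem_filter, Finset.mem_univ, true_and] at hφ ⊢
      rw [add_dotProduct, hφ, single_dotProduct, div_mul_cancel₀ _ hi, zero_add]
    · intro φ _; simp
    · intro φ _; simp
  have h := Finset.card_eq_sum_card_fiberwise (f := fun φ : Fin n → F => φ ⬝ᵥ v)
    (s := Finset.univ) (t := Finset.univ) (by intro x _; simp)
  rw [Finset.sum_congr rfl (fun c _ => hfib c), Finset.sum_const, Finset.card_univ,
    Finset.card_univ, smul_eq_mul] at h
  rw [mul_comm, ← h]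
  simp [Fintype.card_pi]

theorem card_dot_eq_zero' (hn : 1 ≤ n) (v : Fin n → F) (hv : v ≠ 0) :
    (Finset.univ.filter (fun φ : Fin n → F => φ ⬝ᵥ v = 0)).card = Fintype.card F ^ (n - 1) := by
  have h := card_dot_eq_zero v hv
  have hq : 0 < Fintype.card F := Fintype.card_pos
  have h2 : Fintype.card F ^ n = Fintype.card F ^ (n - 1) * Fintype.card F := by
    rw [← pow_succ]
    congr 1
    omega
  rw [h2] at h
  exact Nat.eq_of_mul_eq_mul_right hq h

theorem card_nzVec : (nzVec F n).card = Fintype.card F ^ n - 1 := by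
  rw [nzVec, Finset.filter_ne', Finset.card_erase_of_mem (Finset.mem_univ _), Finset.card_univ]
  simp [Fintype.card_pi]

/-- The incident (nonzero vector, nonzero covector) pairs. -/
def incPairs (F : Type*) [Field F] [Fintype F] [DecidableEq F] (n : ℕ) :
    Finset ((Fin n → F) × (Fin n → F)) :=
  (nzVec F n ×ˢ nzVec F n).filter (fun p => p.2 ⬝ᵥ p.1 = 0)

theorem mem_incPairs (p : (Fin n → F) × (Fin n → F)) :
    p ∈ incPairs F n ↔ p.1 ≠ 0 ∧ p.2 ≠ 0 ∧ p.2 ⬝ᵥ p.1 = 0 := by
  simp only [incPairs, Finset.mem_filter, Finset.mem_product, mem_nzVec, and_assoc]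

theorem card_incPairs (hn : 1 ≤ n) :
    (incPairs F n).card = (Fintype.card F ^ n - 1) * (Fintype.card F ^ (n - 1) - 1) := by
  have h1 : (incPairs F n).card = ∑ v ∈ nzVec F n,
      ((nzVec F n).filter (fun φ : Fin n → F => φ ⬝ᵥ v = 0)).card := by
    rw [incPairs, Finset.card_filter, Finset.sum_product]
    apply Finset.sum_congr rfl
    intro v _
    rw [Finset.card_filter]
  have h2 : ∀ v ∈ nzVec F n, ((nzVec F n).filter (fun φ : Fin n → F => φ ⬝ᵥ v = 0)).card =
      Fintype.card F ^ (n - 1) - 1 := by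
    intro v hv
    rw [mem_nzVec] at hv
    rw [← card_dot_eq_zero' hn v hv]
    have : (nzVec F n).filter (fun φ : Fin n → F => φ ⬝ᵥ v = 0) =
        (Finset.univ.filter (fun φ : Fin n → F => φ ⬝ᵥ v = 0)).erase 0 := by
      ext φ
      simp only [Finset.mem_filter, mem_nzVec, Finset.mem_erase, Finset.mem_univ, true_and]
    rw [this, Finset.card_erase_of_mem]
    simp
  rw [h1, Finset.sum_congr rfl h2, Finset.sum_const, card_nzVec, smul_eq_mul]

/-- Uniqueness of rank-one factorizations. -/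
theorem vecMulVec_eq_iff (v φ v0 φ0 : Fin n → F) (hv0 : v0 ≠ 0) (hφ0 : φ0 ≠ 0)
    (h : Matrix.vecMulVec v φ = Matrix.vecMulVec v0 φ0) :
    ∃ a : F, a ≠ 0 ∧ v = a • v0 ∧ φ = a⁻¹ • φ0 := by
  obtain ⟨i, hi⟩ : ∃ i, v0 i ≠ 0 := by
    by_contra hc; push Not at hc; exact hv0 (funext hc)
  obtain ⟨j, hj⟩ : ∃ j, φ0 j ≠ 0 := by
    by_contra hc; push Not at hc; exact hφ0 (funext hc)
  have hent : ∀ i' j', v i' * φ j' = v0 i' * φ0 j' := by
    intro i' j'
    have := congrFun (congrFun h i') j'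
    simpa [Matrix.vecMulVec_apply] using this
  have hij := hent i j
  have hφj : φ j ≠ 0 := by
    intro h0
    rw [h0, mul_zero] at hij
    exact mul_ne_zero hi hj hij.symm
  have hvi : v i ≠ 0 := by
    intro h0
    rw [h0, zero_mul] at hij
    exact mul_ne_zero hi hj hij.symm
  refine ⟨φ0 j / φ j, div_ne_zero hj hφj, ?_, ?_⟩
  · funext i'
    have := hent i' j
    rw [Pi.smul_apply, smul_eq_mul]
    field_simp
    linear_combination this
  · funext j'
    have h1 := hent i j'
    have h3 : v i = v0 i * φ0 j / φ j := by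
      field_simp
      exact hij
    rw [h3] at h1
    have h4 : φ0 j * φ j' = φ0 j' * φ j := by
      field_simp at h1
      linear_combination h1
    rw [Pi.smul_apply, smul_eq_mul, inv_div]
    field_simp
    linear_combination h4


/-- The standard transvection `1 + E₀₁`. -/
def stdTv (F : Type*) [Field F] (n : ℕ) (hn : 3 ≤ n) : Matrix.SpecialLinearGroup (Fin n) F :=
  Matrix.SpecialLinearGroup.transvection
    (show (⟨0, by omega⟩ : Fin n) ≠ ⟨1, by omega⟩ from fun h => by simp [Fin.ext_iff] at h)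
    (1 : F)

omit [Fintype F] [DecidableEq F] in
theorem tv_isConj_std (hn : 3 ≤ n) (v φ : Fin n → F) (hv : v ≠ 0) (hφ : φ ≠ 0)
    (h : φ ⬝ᵥ v = 0) : IsConj (tv v φ h) (stdTv F n hn) :=
  isConj_iff.mpr (tv_conj_std hn v φ hv hφ h)

/-- A total version of `tv`. -/
noncomputable def tvT (p : (Fin n → F) × (Fin n → F)) : Matrix.SpecialLinearGroup (Fin n) F :=
  if h : p.2 ⬝ᵥ p.1 = 0 then tv p.1 p.2 h else 1

omit [Fintype F] in
theorem tvT_of (p : (Fin n → F) × (Fin n → F)) (h : p.2 ⬝ᵥ p.1 = 0) :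
    tvT p = tv p.1 p.2 h := dif_pos h

theorem card_fiber_tv (v0 φ0 : Fin n → F) (h0 : φ0 ⬝ᵥ v0 = 0) (hv0 : v0 ≠ 0) (hφ0 : φ0 ≠ 0) :
    ((incPairs F n).filter (fun p => tvT p = tv v0 φ0 h0)).card = Fintype.card F - 1 := by
  rw [← card_nzF (F := F)]
  symm
  refine Finset.card_bij (fun a _ => (a • v0, a⁻¹ • φ0)) ?_ ?_ ?_
  · intro a ha
    simp only [Finset.mem_filter, Finset.mem_univ, true_and] at ha
    rw [Finset.mem_filter, mem_incPairs]
    have hdot : (a⁻¹ • φ0) ⬝ᵥ (a • v0) = 0 := by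
      rw [smul_dotProduct, dotProduct_smul, h0, smul_zero, smul_zero]
    refine ⟨⟨smul_ne_zero ha hv0, smul_ne_zero (inv_ne_zero ha) hφ0, hdot⟩, ?_⟩
    rw [tvT_of _ hdot]
    apply Subtype.ext
    rw [tv_coe, tv_coe]
    congr 1
    ext i j
    simp only [Matrix.vecMulVec_apply, Pi.smul_apply, smul_eq_mul]
    field_simp
  · intro a ha a' ha' h
    simp only [Finset.mem_filter, Finset.mem_univ, true_and] at ha ha'
    simp only [Prod.mk.injEq] at h
    exact smul_left_injective F hv0 h.1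
  · intro p hp
    rw [Finset.mem_filter, mem_incPairs] at hp
    obtain ⟨⟨hp1, hp2, hdot⟩, heq⟩ := hp
    rw [tvT_of _ hdot] at heq
    have hmat : Matrix.vecMulVec p.1 p.2 = Matrix.vecMulVec v0 φ0 := by
      have := congrArg (fun g : Matrix.SpecialLinearGroup (Fin n) F =>
        (g : Matrix (Fin n) (Fin n) F)) heq
      simp only [tv_coe] at this
      exact add_left_cancel this
    obtain ⟨a, ha, h1, h2⟩ := vecMulVec_eq_iff p.1 p.2 v0 φ0 hv0 hφ0 hmat
    refine ⟨a, by simp [ha], ?_⟩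
    exact Prod.ext h1.symm h2.symm

/-- The number of conjugates of the standard transvection (`n ≥ 3`). -/
theorem card_conj_std (hn : 3 ≤ n) :
    (Finset.univ.filter (fun x : Matrix.SpecialLinearGroup (Fin n) F =>
      IsConj (stdTv F n hn) x)).card * (Fintype.card F - 1) =
      (Fintype.card F ^ n - 1) * (Fintype.card F ^ (n - 1) - 1) := by
  rw [← card_incPairs (by omega : 1 ≤ n)]
  have hmaps : ∀ p ∈ incPairs F n, tvT p ∈ Finset.univ.filter
      (fun x : Matrix.SpecialLinearGroup (Fin n) F => IsConj (stdTv F n hn) x) := by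
    intro p hp
    rw [mem_incPairs] at hp
    rw [Finset.mem_filter, tvT_of _ hp.2.2]
    exact ⟨Finset.mem_univ _, (tv_isConj_std hn p.1 p.2 hp.1 hp.2.1 hp.2.2).symm⟩
  rw [Finset.card_eq_sum_card_fiberwise (f := tvT) (s := incPairs F n)
    (t := Finset.univ.filter (fun x : Matrix.SpecialLinearGroup (Fin n) F =>
      IsConj (stdTv F n hn) x)) (by intro p hp; exact hmaps p hp)]
  have hfib : ∀ x ∈ Finset.univ.filter (fun x : Matrix.SpecialLinearGroup (Fin n) F =>
      IsConj (stdTv F n hn) x),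
      ((incPairs F n).filter (fun p => tvT p = x)).card = Fintype.card F - 1 := by
    intro x hx
    rw [Finset.mem_filter] at hx
    obtain ⟨c, hc⟩ := isConj_iff.mp hx.2
    have h01 : (⟨0, by omega⟩ : Fin n) ≠ ⟨1, by omega⟩ := fun h => by simp [Fin.ext_iff] at h
    have hstd : stdTv F n hn = tv ((1 : F) • (Pi.single (⟨0, by omega⟩ : Fin n) 1 : Fin n → F))
        (Pi.single (⟨1, by omega⟩ : Fin n) 1)
        (by rw [dotProduct_smul, single_dotProduct, one_mul, Pi.single_eq_of_ne h01.symm,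
          smul_zero]) := (tv_eq_transvection h01 (1 : F)).symm
    rw [hstd, tv_conj] at hc
    rw [← hc]
    apply card_fiber_tv
    · intro h0
      have h1 := (SLn_mulVec_eq_zero_iff c _).mp h0
      have h2 := congrFun h1 ⟨0, by omega⟩
      simp at h2
    · intro h0
      have h1 : ((Pi.single (⟨1, by omega⟩ : Fin n) 1 : Fin n → F) ᵥ*
          ((c⁻¹ : Matrix.SpecialLinearGroup (Fin n) F) : Matrix (Fin n) (Fin n) F)) ᵥ*
          (c : Matrix (Fin n) (Fin n) F) = Pi.single (⟨1, by omega⟩ : Fin n) 1 := by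
        rw [Matrix.vecMul_vecMul, ← Matrix.SpecialLinearGroup.coe_mul, inv_mul_cancel,
          Matrix.SpecialLinearGroup.coe_one, Matrix.vecMul_one]
      rw [h0, Matrix.zero_vecMul] at h1
      have h2 := congrFun h1 ⟨1, by omega⟩
      simp at h2
  rw [Finset.sum_congr rfl hfib, Finset.sum_const, smul_eq_mul]

end TvCount

end Cfsg.Agent.H44
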