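import Mathlib
import Cfsg.Agent.H44.RepPick
import Cfsg.Agent.H44.SLnTvCount
import Cfsg.Agent.H29.BlockMat

/-!
# Row and column root groups of `SL_n(q)` acting on a representation
-/

set_option autoImplicit false

namespace Cfsg.Agent.H44

open Matrix Module

section TvExtra

variable {F : Type*} [Field F] {n : ℕ}

theorem tv_conj' (g : Matrix.SpecialLinearGroup (Fin n) F) (v φ : Fin n → F) (h : φ ⬝ᵥ v = 0)
    (h' : (φ ᵥ* (g : Matrix (Fin n) (Fin n) F)) ⬝ᵥ
      (((g⁻¹ : Matrix.SpecialLinearGroup (Fin n) F) : Matrix (Fin n) (Fin n) F) *ᵥ v) = 0) :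
    g⁻¹ * tv v φ h * g =
      tv (((g⁻¹ : Matrix.SpecialLinearGroup (Fin n) F) : Matrix (Fin n) (Fin n) F) *ᵥ v)
        (φ ᵥ* (g : Matrix (Fin n) (Fin n) F)) h' := by
  apply Subtype.ext
  rw [Matrix.SpecialLinearGroup.coe_mul, Matrix.SpecialLinearGroup.coe_mul, tv_coe, tv_coe,
    mul_add, add_mul, mul_one, Matrix.mul_vecMulVec, Matrix.vecMulVec_mul,
    ← Matrix.SpecialLinearGroup.coe_mul, inv_mul_cancel, Matrix.SpecialLinearGroup.coe_one]

theorem tv_conj_dot (g : Matrix.SpecialLinearGroup (Fin n) F) (v φ : Fin n → F)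
    (h : φ ⬝ᵥ v = 0) :
    (φ ᵥ* (g : Matrix (Fin n) (Fin n) F)) ⬝ᵥ
      (((g⁻¹ : Matrix.SpecialLinearGroup (Fin n) F) : Matrix (Fin n) (Fin n) F) *ᵥ v) = 0 := by
  rw [← Matrix.dotProduct_mulVec, SLn_mulVec_inv']
  exact h

theorem vecMul_tv (x v φ : Fin n → F) (h : φ ⬝ᵥ v = 0) :
    x ᵥ* ((tv v φ h : Matrix.SpecialLinearGroup (Fin n) F) : Matrix (Fin n) (Fin n) F) =
      x + (x ⬝ᵥ v) • φ := by
  rw [tv_coe, Matrix.vecMul_add, Matrix.vecMul_one, Matrix.vecMul_vecMulVec]

theorem tv_smul_left (c : F) (v φ : Fin n → F) (h : φ ⬝ᵥ (c • v) = 0)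
    (h' : (c • φ) ⬝ᵥ v = 0) : tv (c • v) φ h = tv v (c • φ) h' := by
  apply Subtype.ext
  rw [tv_coe, tv_coe, Matrix.smul_vecMulVec, Matrix.vecMulVec_smul]

end TvExtra

section RowCol

variable {F : Type*} [Field F] {m : ℕ}

/-- Row-group element: first row `(1, φ)`. -/
def xr (φ : Fin (m + 1) → F) : Matrix.SpecialLinearGroup (Fin (m + 1 + 1)) F :=
  tv (Pi.single 0 1) (Fin.cons 0 φ) (by rw [dotProduct_single, Fin.cons_zero, zero_mul])

/-- Column-group element: last column `(v, 1)`. -/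
def xc (v : Fin (m + 1) → F) : Matrix.SpecialLinearGroup (Fin (m + 1 + 1)) F :=
  tv (Fin.snoc v 0) (Pi.single (Fin.last (m + 1)) 1)
    (by rw [single_dotProduct, Fin.snoc_last, mul_zero])

theorem cons_zero_add (φ φ' : Fin (m + 1) → F) :
    (Fin.cons 0 (φ + φ') : Fin (m + 1 + 1) → F) = Fin.cons 0 φ + Fin.cons 0 φ' := by
  funext i
  refine Fin.cases ?_ (fun j => ?_) i <;> simp

theorem cons_zero_zero :
    (Fin.cons 0 (0 : Fin (m + 1) → F) : Fin (m + 1 + 1) → F) = 0 := by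
  funext i
  refine Fin.cases ?_ (fun j => ?_) i <;> simp

theorem snoc_zero_add (v v' : Fin (m + 1) → F) :
    (Fin.snoc (v + v') 0 : Fin (m + 1 + 1) → F) = Fin.snoc v 0 + Fin.snoc v' 0 := by
  funext i
  refine Fin.lastCases ?_ (fun j => ?_) i <;> simp

theorem snoc_zero_zero :
    (Fin.snoc (0 : Fin (m + 1) → F) 0 : Fin (m + 1 + 1) → F) = 0 := by
  funext i
  refine Fin.lastCases ?_ (fun j => ?_) i <;> simp

theorem xr_add (φ φ' : Fin (m + 1) → F) : xr (φ + φ') = xr φ * xr φ' := by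
  unfold xr
  rw [tv_mul_right]
  exact tv_congr rfl (cons_zero_add φ φ') _

theorem xr_zero : xr (0 : Fin (m + 1) → F) = 1 :=
  (tv_eq_one_iff _ _ _).mpr (Or.inr cons_zero_zero)

theorem xc_add (v v' : Fin (m + 1) → F) : xc (v + v') = xc v * xc v' := by
  unfold xc
  rw [tv_mul_left]
  exact tv_congr (snoc_zero_add v v') rfl _

theorem xc_zero : xc (0 : Fin (m + 1) → F) = 1 :=
  (tv_eq_one_iff _ _ _).mpr (Or.inl snoc_zero_zero)

theorem xr_isConj (hm : 3 ≤ m + 1 + 1) (φ : Fin (m + 1) → F) (hφ : φ ≠ 0) :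
    IsConj (xr φ) (stdTv F (m + 1 + 1) hm) := by
  unfold xr
  apply tv_isConj_std
  · intro h
    have := congrFun h 0
    simp at this
  · intro h
    apply hφ
    funext j
    have := congrFun h j.succ
    simpa using this

theorem xc_isConj (hm : 3 ≤ m + 1 + 1) (v : Fin (m + 1) → F) (hv : v ≠ 0) :
    IsConj (xc v) (stdTv F (m + 1 + 1) hm) := by
  unfold xc
  apply tv_isConj_std
  · intro h
    apply hv
    funext j
    have := congrFun h j.castSucc
    simpa using this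
  · intro h
    have := congrFun h (Fin.last (m + 1))
    simp at this

theorem xr_single (j : Fin (m + 1)) (s : F) :
    xr (Pi.single j s) =
      Matrix.SpecialLinearGroup.transvection (Fin.succ_ne_zero j).symm s := by
  rw [← tv_eq_transvection']
  unfold xr
  apply tv_congr rfl
  funext i
  refine Fin.cases ?_ (fun k => ?_) i
  · simp [(Fin.succ_ne_zero j).symm]
  · by_cases hk : k = j
    · subst hk
      simp
    · simp [Pi.single_eq_of_ne hk, Pi.single_eq_of_ne (fun h => hk (Fin.succ_injective _ h))]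

theorem xc_single (i : Fin (m + 1)) (s : F) :
    xc (Pi.single i s) =
      Matrix.SpecialLinearGroup.transvection (Fin.castSucc_lt_last i).ne s := by
  rw [← tv_eq_transvection]
  unfold xc
  apply tv_congr _ rfl
  funext k
  refine Fin.lastCases ?_ (fun k => ?_) k
  · simp [(Fin.castSucc_lt_last i).ne']
  · by_cases hk : k = i
    · subst hk
      simp
    · simp [Pi.single_eq_of_ne hk,
        Pi.single_eq_of_ne (fun h => hk (Fin.castSucc_injective _ h))]

end RowCol

section Spaces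

variable {F : Type*} [Field F] {m : ℕ} {V : Type*} [AddCommGroup V] [Module ℂ V]

/-- Fixed points of the column group. -/
def fixC (ρ : Representation ℂ (Matrix.SpecialLinearGroup (Fin (m + 1 + 1)) F) V) :
    Submodule ℂ V :=
  eigSub (fun v : Fin (m + 1) → F => ρ (xc v)) (fun _ => (1 : ℂ))

/-- The character `φ ↦ ψ (φ 0)` of the row group. -/
noncomputable def lamChar (ψ : AddChar F ℂ) : AddChar (Fin (m + 1) → F) ℂ :=
  ψ.compAddMonoidHom (Pi.evalAddMonoidHom (fun _ => F) 0)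

theorem lamChar_apply (ψ : AddChar F ℂ) (φ : Fin (m + 1) → F) :
    lamChar ψ φ = ψ (φ 0) := rfl

theorem lamChar_ne_one (ψ : AddChar F ℂ) (hψ : ψ ≠ 1) :
    (lamChar ψ : AddChar (Fin (m + 1) → F) ℂ) ≠ 1 := by
  classical
  obtain ⟨s, hs⟩ := AddChar.ne_one_iff.mp hψ
  apply AddChar.ne_one_iff.mpr
  refine ⟨Pi.single 0 s, ?_⟩
  rw [lamChar_apply]
  simpa using hs

/-- The `ψ`-eigenspace of the row group. -/
noncomputable def lamR (ρ : Representation ℂ (Matrix.SpecialLinearGroup (Fin (m + 1 + 1)) F) V)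
    (ψ : AddChar F ℂ) : Submodule ℂ V :=
  eigSub (fun φ : Fin (m + 1) → F => ρ (xr φ)) (lamChar ψ)

theorem mem_lamR_iff (ρ : Representation ℂ (Matrix.SpecialLinearGroup (Fin (m + 1 + 1)) F) V)
    (ψ : AddChar F ℂ) (w : V) :
    w ∈ lamR ρ ψ ↔ ∀ (j : Fin (m + 1)) (s : F),
      ρ (Matrix.SpecialLinearGroup.transvection (Fin.succ_ne_zero j).symm s) w =
        (if j = 0 then ψ s else 1) • w := by
  classical
  have hval : ∀ (j : Fin (m + 1)) (s : F),
      lamChar ψ (Pi.single j s) = if j = 0 then ψ s else 1 := by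
    intro j s
    rw [lamChar_apply]
    by_cases hj : j = 0
    · subst hj
      simp
    · rw [if_neg hj, Pi.single_eq_of_ne (Ne.symm hj), AddChar.map_zero_eq_one]
  constructor
  · intro h j s
    have h1 : ρ (xr (Pi.single j s)) w = lamChar ψ (Pi.single j s) • w := h (Pi.single j s)
    rw [xr_single, hval] at h1
    exact h1
  · intro h
    apply eig_of_single (fun φ : Fin (m + 1) → F => ρ (xr φ))
    · show ρ (xr 0) = 1
      rw [xr_zero, map_one]
    · intro a b
      show ρ (xr (a + b)) = ρ (xr a) * ρ (xr b)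
      rw [xr_add, map_mul]
    · exact AddChar.map_zero_eq_one _
    · intro a b
      exact AddChar.map_add_eq_mul _ a b
    · intro j s
      show ρ (xr (Pi.single j s)) w = _
      rw [xr_single, hval]
      exact h j s

theorem mem_fixC_iff (ρ : Representation ℂ (Matrix.SpecialLinearGroup (Fin (m + 1 + 1)) F) V)
    (w : V) :
    w ∈ fixC ρ ↔ ∀ (i : Fin (m + 1)) (s : F),
      ρ (Matrix.SpecialLinearGroup.transvection (Fin.castSucc_lt_last i).ne s) w = w := by
  classical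
  constructor
  · intro h i s
    have h1 : ρ (xc (Pi.single i s)) w = (1 : ℂ) • w := h (Pi.single i s)
    rw [xc_single, one_smul] at h1
    exact h1
  · intro h
    apply eig_of_single (fun v : Fin (m + 1) → F => ρ (xc v))
    · show ρ (xc 0) = 1
      rw [xc_zero, map_one]
    · intro a b
      show ρ (xc (a + b)) = ρ (xc a) * ρ (xc b)
      rw [xc_add, map_mul]
    · rfl
    · intro a b
      simp
    · intro j s
      show ρ (xc (Pi.single j s)) w = _
      rw [xc_single, one_smul]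
      exact h j s

end Spaces

section Formulas

variable {F : Type*} [Field F] [Fintype F] [DecidableEq F] {m : ℕ} {V : Type*} [AddCommGroup V]
  [Module ℂ V] [FiniteDimensional ℂ V]

theorem fixC_formula (hm : 3 ≤ m + 1 + 1)
    (ρ : Representation ℂ (Matrix.SpecialLinearGroup (Fin (m + 1 + 1)) F) V) :
    ((Fintype.card F ^ (m + 1) : ℕ) : ℂ) * (finrank ℂ (fixC ρ) : ℂ) =
      (finrank ℂ V : ℂ) + (((Fintype.card F ^ (m + 1) : ℕ) : ℂ) - 1) *
        ρ.character (stdTv F (m + 1 + 1) hm) := by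
  have h := mult_fix (fun v : Fin (m + 1) → F => ρ (xc v))
    (by show ρ (xc 0) = 1; rw [xc_zero, map_one])
    (by intro a b; show ρ (xc (a + b)) = ρ (xc a) * ρ (xc b); rw [xc_add, map_mul])
    (ρ.character (stdTv F (m + 1 + 1) hm))
    (by
      intro v hv
      obtain ⟨c, hc⟩ := isConj_iff.mp (xc_isConj hm v hv)
      rw [← hc, Representation.char_conj]
      rfl)
  rw [Fintype.card_pi_const] at h
  exact h

theorem lamR_formula (hm : 3 ≤ m + 1 + 1)
    (ρ : Representation ℂ (Matrix.SpecialLinearGroup (Fin (m + 1 + 1)) F) V)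
    (ψ : AddChar F ℂ) (hψ : ψ ≠ 1) :
    ((Fintype.card F ^ (m + 1) : ℕ) : ℂ) * (finrank ℂ (lamR ρ ψ) : ℂ) =
      (finrank ℂ V : ℂ) - ρ.character (stdTv F (m + 1 + 1) hm) := by
  have h := mult_nontriv (fun φ : Fin (m + 1) → F => ρ (xr φ))
    (by show ρ (xr 0) = 1; rw [xr_zero, map_one])
    (by intro a b; show ρ (xr (a + b)) = ρ (xr a) * ρ (xr b); rw [xr_add, map_mul])
    (ρ.character (stdTv F (m + 1 + 1) hm))
    (by
      intro v hv
      obtain ⟨c, hc⟩ := isConj_iff.mp (xr_isConj hm v hv)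
      rw [← hc, Representation.char_conj]
      rfl)
    (lamChar ψ) (lamChar_ne_one ψ hψ)
  rw [Fintype.card_pi_const] at h
  exact h

theorem finrank_decomp (hm : 3 ≤ m + 1 + 1)
    (ρ : Representation ℂ (Matrix.SpecialLinearGroup (Fin (m + 1 + 1)) F) V)
    (ψ : AddChar F ℂ) (hψ : ψ ≠ 1) :
    finrank ℂ V = finrank ℂ (fixC ρ) +
        (Fintype.card F ^ (m + 1) - 1) * finrank ℂ (lamR ρ ψ) ∧
      ρ.character (stdTv F (m + 1 + 1) hm) =
        (finrank ℂ (fixC ρ) : ℂ) - (finrank ℂ (lamR ρ ψ) : ℂ) :=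
  mult_numeric _ _ _ _ _ (Nat.pow_pos Fintype.card_pos) (fixC_formula hm ρ)
    (lamR_formula hm ρ ψ hψ)

end Formulas

section Emb

variable {F : Type*} [Field F] {k : ℕ}

/-- The block embedding `SL_k → SL_{k+1}`. -/
def embSL : Matrix.SpecialLinearGroup (Fin k) F →* Matrix.SpecialLinearGroup (Fin (k + 1)) F where
  toFun A := ⟨Cfsg.Agent.H29.blk A.1 1, by rw [Cfsg.Agent.H29.det_blk, A.2, mul_one]⟩
  map_one' := by
    apply Subtype.ext
    exact Cfsg.Agent.H29.blk_one
  map_mul' := by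
    intro A B
    apply Subtype.ext
    show Cfsg.Agent.H29.blk (A * B).1 1 = Cfsg.Agent.H29.blk A.1 1 * Cfsg.Agent.H29.blk B.1 1
    rw [Cfsg.Agent.H29.blk_mul, mul_one]
    rfl

theorem embSL_coe (A : Matrix.SpecialLinearGroup (Fin k) F) :
    ((embSL A : Matrix.SpecialLinearGroup (Fin (k + 1)) F) : Matrix (Fin (k + 1)) (Fin (k + 1)) F) =
      Cfsg.Agent.H29.blk A.1 1 := rfl

theorem transv_congr {ι : Type*} [DecidableEq ι] [Fintype ι] {i j i' j' : ι} (hij : i ≠ j)
    (hi : i = i') (hj : j = j') (hij' : i' ≠ j') (s : F) :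
    Matrix.SpecialLinearGroup.transvection hij s =
      Matrix.SpecialLinearGroup.transvection hij' s := by
  subst hi hj
  rfl

theorem embSL_transvection {i j : Fin k} (hij : i ≠ j) (s : F) :
    embSL (Matrix.SpecialLinearGroup.transvection hij s) =
      Matrix.SpecialLinearGroup.transvection
        (fun h => hij (Fin.castSucc_injective _ h) : i.castSucc ≠ j.castSucc) s := by
  apply Subtype.ext
  rw [embSL_coe, Matrix.SpecialLinearGroup.transvection_coe,
    Matrix.SpecialLinearGroup.transvection_coe]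
  ext a b
  refine Fin.lastCases ?_ (fun a => ?_) a <;> refine Fin.lastCases ?_ (fun b => ?_) b
  · simp [Matrix.single_apply, (Fin.castSucc_lt_last i).ne]
  · simp [Matrix.single_apply, (Fin.castSucc_lt_last i).ne, Matrix.one_apply,
      (Fin.castSucc_lt_last b).ne']
  · simp [Matrix.single_apply, (Fin.castSucc_lt_last j).ne, Matrix.one_apply,
      (Fin.castSucc_lt_last a).ne]
  · simp [Matrix.single_apply, Matrix.one_apply]

theorem single_last_vecMul_embSL (A : Matrix.SpecialLinearGroup (Fin k) F) :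
    (Pi.single (Fin.last k) 1 : Fin (k + 1) → F) ᵥ*
      ((embSL A : Matrix.SpecialLinearGroup (Fin (k + 1)) F) :
        Matrix (Fin (k + 1)) (Fin (k + 1)) F) = Pi.single (Fin.last k) 1 := by
  rw [Matrix.single_one_vecMul, embSL_coe]
  funext j
  refine Fin.lastCases ?_ (fun j => ?_) j
  · simp [Matrix.row]
  · simp [Matrix.row, (Fin.castSucc_lt_last j).ne]

end Emb

section Stable

variable {F : Type*} [Field F] {m : ℕ} {V : Type*} [AddCommGroup V] [Module ℂ V]

theorem xc_conj_of_lastRow (g : Matrix.SpecialLinearGroup (Fin (m + 1 + 1)) F) (c : F)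
    (hg : (Pi.single (Fin.last (m + 1)) 1 : Fin (m + 1 + 1) → F) ᵥ*
      (g : Matrix (Fin (m + 1 + 1)) (Fin (m + 1 + 1)) F) = c • Pi.single (Fin.last (m + 1)) 1)
    (v : Fin (m + 1) → F) : ∃ v', g⁻¹ * xc v * g = xc v' := by
  have hdot : (Pi.single (Fin.last (m + 1)) 1 : Fin (m + 1 + 1) → F) ⬝ᵥ
      (Fin.snoc v 0 : Fin (m + 1 + 1) → F) = 0 := by
    rw [single_dotProduct, Fin.snoc_last, mul_zero]
  have h1 := tv_conj' g (Fin.snoc v 0) (Pi.single (Fin.last (m + 1)) 1) hdot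
    (tv_conj_dot g _ _ hdot)
  have h2 := tv_conj_dot g _ _ hdot
  rw [hg] at h2
  have h3 : (Pi.single (Fin.last (m + 1)) 1 : Fin (m + 1 + 1) → F) ⬝ᵥ
      (c • (((g⁻¹ : Matrix.SpecialLinearGroup (Fin (m + 1 + 1)) F) :
        Matrix (Fin (m + 1 + 1)) (Fin (m + 1 + 1)) F) *ᵥ (Fin.snoc v 0 : Fin (m + 1 + 1) → F))) = 0 := by
    rw [dotProduct_smul, ← smul_dotProduct]
    exact h2
  have h4 : (c • (((g⁻¹ : Matrix.SpecialLinearGroup (Fin (m + 1 + 1)) F) :
        Matrix (Fin (m + 1 + 1)) (Fin (m + 1 + 1)) F) *ᵥ (Fin.snoc v 0 : Fin (m + 1 + 1) → F)))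
        (Fin.last (m + 1)) = 0 := by
    rw [single_dotProduct, one_mul] at h3
    exact h3
  refine ⟨Fin.init (c • (((g⁻¹ : Matrix.SpecialLinearGroup (Fin (m + 1 + 1)) F) :
        Matrix (Fin (m + 1 + 1)) (Fin (m + 1 + 1)) F) *ᵥ (Fin.snoc v 0 : Fin (m + 1 + 1) → F))), ?_⟩
  have h5 : g⁻¹ * xc v * g = _ := h1
  rw [h5, tv_congr rfl hg, ← tv_smul_left c _ _ h3]
  unfold xc
  apply tv_congr _ rfl
  conv_lhs => rw [← Fin.snoc_init_self (c • (((g⁻¹ : Matrix.SpecialLinearGroup (Fin (m + 1 + 1)) F) :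
        Matrix (Fin (m + 1 + 1)) (Fin (m + 1 + 1)) F) *ᵥ (Fin.snoc v 0 : Fin (m + 1 + 1) → F)))]
  rw [h4]

theorem fixC_stable (ρ : Representation ℂ (Matrix.SpecialLinearGroup (Fin (m + 1 + 1)) F) V)
    (g : Matrix.SpecialLinearGroup (Fin (m + 1 + 1)) F) (c : F)
    (hg : (Pi.single (Fin.last (m + 1)) 1 : Fin (m + 1 + 1) → F) ᵥ*
      (g : Matrix (Fin (m + 1 + 1)) (Fin (m + 1 + 1)) F) = c • Pi.single (Fin.last (m + 1)) 1) :
    ∀ w ∈ fixC ρ, ρ g w ∈ fixC ρ := by
  intro w hw v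
  show ρ (xc v) (ρ g w) = (1 : ℂ) • ρ g w
  obtain ⟨v', hv'⟩ := xc_conj_of_lastRow g c hg v
  have h1 : xc v * g = g * xc v' := by
    rw [← hv']
    group
  rw [← Module.End.mul_apply, ← map_mul, h1, map_mul, Module.End.mul_apply]
  have h2 : ρ (xc v') w = (1 : ℂ) • w := hw v'
  rw [h2, one_smul, one_smul]

/-- The representation of `SL_{m+1}` on the fixed points of the column group. -/
def resC (ρ : Representation ℂ (Matrix.SpecialLinearGroup (Fin (m + 1 + 1)) F) V) :
    Representation ℂ (Matrix.SpecialLinearGroup (Fin (m + 1)) F) (fixC ρ) :=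
  resRep ρ embSL (fixC ρ) (fun A w hw => fixC_stable ρ (embSL A) 1
    (by rw [one_smul]; exact single_last_vecMul_embSL A) w hw)

theorem resC_apply (ρ : Representation ℂ (Matrix.SpecialLinearGroup (Fin (m + 1 + 1)) F) V)
    (A : Matrix.SpecialLinearGroup (Fin (m + 1)) F) (w : fixC ρ) :
    ((resC ρ A w : fixC ρ) : V) = ρ (embSL A) (w : V) := rfl

/-- A `ψ`-vector: an eigenvector of the upper unitriangular group with character supported
on the `(0,1)` entry. -/
def IsPsiVec (ρ : Representation ℂ (Matrix.SpecialLinearGroup (Fin (m + 1 + 1)) F) V)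
    (ψ : AddChar F ℂ) (w : V) : Prop :=
  ∀ (i k : Fin (m + 1 + 1)) (hik : i < k) (s : F),
    ρ (Matrix.SpecialLinearGroup.transvection hik.ne s) w =
      (if (k : ℕ) = 1 then ψ s else 1) • w

theorem IsPsiVec.mem_lamR {ρ : Representation ℂ (Matrix.SpecialLinearGroup (Fin (m + 1 + 1)) F) V}
    {ψ : AddChar F ℂ} {w : V} (h : IsPsiVec ρ ψ w) : w ∈ lamR ρ ψ := by
  rw [mem_lamR_iff]
  intro j s
  have h1 := h 0 j.succ (Fin.succ_pos j) s
  have h2 : ((j.succ : Fin (m + 1 + 1)) : ℕ) = 1 ↔ j = 0 := by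
    rw [Fin.val_succ, Fin.ext_iff]
    simp
  simp only [h2] at h1
  exact h1

theorem IsPsiVec.mem_fixC {ρ : Representation ℂ (Matrix.SpecialLinearGroup (Fin (m + 1 + 1)) F) V}
    {ψ : AddChar F ℂ} {w : V} (h : IsPsiVec ρ ψ w) (hm : 1 ≤ m) : w ∈ fixC ρ := by
  rw [mem_fixC_iff]
  intro i s
  have h1 := h i.castSucc (Fin.last (m + 1)) (Fin.castSucc_lt_last i) s
  have h2 : ¬ ((Fin.last (m + 1) : Fin (m + 1 + 1)) : ℕ) = 1 := by
    rw [Fin.val_last]
    omega
  rw [if_neg h2, one_smul] at h1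
  exact h1

end Stable

section Transfer

variable {F : Type*} [Field F] {m : ℕ} {V : Type*} [AddCommGroup V] [Module ℂ V]

theorem IsPsiVec.resC
    {ρ : Representation ℂ (Matrix.SpecialLinearGroup (Fin (m + 1 + 1 + 1)) F) V}
    {ψ : AddChar F ℂ} {w : V} (h : IsPsiVec ρ ψ w) (hw : w ∈ fixC ρ) :
    IsPsiVec (resC ρ) ψ (⟨w, hw⟩ : fixC ρ) := by
  intro i k hik s
  apply Subtype.ext
  rw [resC_apply, embSL_transvection, Submodule.coe_smul]
  have h1 := h i.castSucc k.castSucc (Fin.castSucc_lt_castSucc_iff.mpr hik) s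
  rw [Fin.val_castSucc] at h1
  exact h1

theorem lamR_sub_mem
    (ρ : Representation ℂ (Matrix.SpecialLinearGroup (Fin (m + 1 + 1 + 1)) F) V)
    (ψ : AddChar F ℂ) (U : Subrepresentation (resC ρ)) (x : U.toSubmodule)
    (hx : x ∈ lamR U.toRepresentation ψ) : ((x : fixC ρ) : V) ∈ lamR ρ ψ := by
  rw [mem_lamR_iff] at hx ⊢
  intro j s
  have hxC : ((x : fixC ρ) : V) ∈ fixC ρ := (x : fixC ρ).2
  refine Fin.lastCases ?_ (fun j' => ?_) j
  · rw [mem_fixC_iff] at hxC
    have h1 := hxC 0 s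
    have h2 : Fin.last (m + 1) ≠ (0 : Fin (m + 1 + 1)) := by
      intro h
      have := congrArg Fin.val h
      simp at this
    rw [if_neg h2, one_smul]
    rw [← h1]
    congr 2 <;> exact transv_congr _ (Fin.castSucc_zero).symm (Fin.succ_last _) _ s
  · have h1 := hx j' s
    have h2 := congrArg (fun y : U.toSubmodule => ((y : fixC ρ) : V)) h1
    have h3 : ((U.toRepresentation
        (Matrix.SpecialLinearGroup.transvection (Fin.succ_ne_zero j').symm s) x : U.toSubmodule) :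
          fixC ρ) = resC ρ (Matrix.SpecialLinearGroup.transvection (Fin.succ_ne_zero j').symm s)
            (x : fixC ρ) := rfl
    rw [h3, resC_apply, embSL_transvection, Submodule.coe_smul, Submodule.coe_smul] at h2
    have h4 : (j'.castSucc = 0) ↔ j' = 0 := Fin.castSucc_eq_zero_iff
    simp only [h4]
    rw [← h2]
    congr 2 <;> exact transv_congr _ (Fin.castSucc_zero).symm (Fin.succ_castSucc j') _ s

theorem finrank_lamR_sub_le [FiniteDimensional ℂ V]
    (ρ : Representation ℂ (Matrix.SpecialLinearGroup (Fin (m + 1 + 1 + 1)) F) V)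
    (ψ : AddChar F ℂ) (U : Subrepresentation (resC ρ)) :
    finrank ℂ (lamR U.toRepresentation ψ) ≤ finrank ℂ (lamR ρ ψ) := by
  let f : lamR U.toRepresentation ψ →ₗ[ℂ] lamR ρ ψ :=
    LinearMap.codRestrict (lamR ρ ψ)
      ((fixC ρ).subtype ∘ₗ U.toSubmodule.subtype ∘ₗ (lamR U.toRepresentation ψ).subtype)
      (fun x => lamR_sub_mem ρ ψ U x.1 x.2)
  apply LinearMap.finrank_le_finrank_of_injective (f := f)
  intro x y hxy
  have h1 : (((x : U.toSubmodule) : fixC ρ) : V) = (((y : U.toSubmodule) : fixC ρ) : V) :=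
    congrArg (fun z : lamR ρ ψ => (z : V)) hxy
  exact Subtype.ext (Subtype.ext (Subtype.ext h1))

end Transfer

end Cfsg.Agent.H44
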