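import Mathlib
import Cfsg.Agent.H44.SpOMain
import Cfsg.Agent.H44.WeilMain
import Cfsg.Agent.H25.SpLG4
import Cfsg.Agent.H72.SpLEmb
import Cfsg.Agent.H72.SpLB3
import Cfsg.Agent.H98.SpOY
import Cfsg.Agent.H98.SpOMove
import Cfsg.Agent.H98.SpOChiMove
import Cfsg.Agent.H35.SpORow
import Cfsg.Agent.H35.SpODich
import Cfsg.Agent.H67.SpOCount1
import Cfsg.Agent.H67.SpOCount2
import Cfsg.Agent.H25.WeilWeyl
import Cfsg.Agent.H25.WeilTransv
import Cfsg.Agent.H25.WeilAll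
import Cfsg.Agent.H25.WeilComm
import Cfsg.Agent.H40.WeilDims
import Cfsg.Agent.H40.WeilIrr
import Cfsg.Agent.H40.WeilRefl
import Cfsg.Agent.H79.WeilRep
import Cfsg.Agent.H79.WeilNontriv

/-!
# S2347 (helper44): final assembly of the two parts from the pieces of the team project
-/

set_option autoImplicit false

namespace Cfsg.Agent.H44.SpO

open Matrix Module Cfsg.Agent.H17 Cfsg.Agent.H44 Cfsg.Agent.H44.SpL Cfsg.Agent.H44.Weil

universe u v

/-- Part A, hypothesis-free: every nontrivial representation of `Sp_{2(m+1)}(q)`, `q` odd, has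
dimension at least `(q^(m+1) - 1)/2`. -/
theorem boundO_all {F : Type u} [Field F] [Fintype F] (hodd : Odd (Fintype.card F)) (m : ℕ)
    {V : Type v} [AddCommGroup V] [Module ℂ V] [FiniteDimensional ℂ V]
    (ρ : Representation ℂ (Matrix.symplecticGroup (Fin (m + 1)) F) V) (hnt : ∃ g, ρ g ≠ 1) :
    (Fintype.card F ^ (m + 1) - 1) / 2 ≤ finrank ℂ V := by
  have h2 : (2 : F) ≠ 0 := two_ne_zero_of_odd_card hodd
  have hR : StRow.{u} := @Cfsg.Agent.H35.SpO.row
  have hY : StY.{u} := @Cfsg.Agent.H98.SpO.yS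
  have hMove : StMove.{u} := @Cfsg.Agent.H98.SpO.move
  have hChiMove : StChiMove.{u} := @Cfsg.Agent.H98.SpO.chiMove
  have hDich : StDich.{u} := @Cfsg.Agent.H35.SpO.dich
  have hG4 : StG4.{u} := @Cfsg.Agent.H25.SpL.g4
  have hEmb : StEmb.{u} := @Cfsg.Agent.H72.SpL.emb
  have hB3 : StB3.{u, v} := @Cfsg.Agent.H72.SpL.b3
  exact main_boundO hY hMove hChiMove (Cfsg.Agent.H67.SpO.count1 hR)
    (Cfsg.Agent.H67.SpO.count2 hR) hDich hG4 hEmb hB3 h2 hodd m ρ hnt

/-- S2347, both parts. -/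
theorem s2347_final {F : Type u} [Field F] [Fintype F] (n : ℕ) (hn : 2 ≤ n)
    (hodd : Odd (Fintype.card F)) :
    (∀ (k : ℕ) (ρ : Representation ℂ (Matrix.symplecticGroup (Fin n) F) (Fin k → ℂ)),
      ρ.IsIrreducible → 2 ≤ k → (Fintype.card F ^ n - 1) / 2 ≤ k) ∧
    (∃ ρ : Representation ℂ (Matrix.symplecticGroup (Fin n) F)
      (Fin ((Fintype.card F ^ n - 1) / 2) → ℂ), ρ.IsIrreducible) := by
  classical
  have h2 : (2 : F) ≠ 0 := two_ne_zero_of_odd_card hodd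
  obtain ⟨m, rfl⟩ : ∃ m, n = m + 1 := ⟨n - 1, by omega⟩
  have hWeyl : StWeyl.{u} := @Cfsg.Agent.H25.Weil.weyl
  have hComm : StComm.{u} := @Cfsg.Agent.H25.Weil.comm
  have hDims : StDims.{u} := @Cfsg.Agent.H40.Weil.dims
  have hRefl : StReflComm.{u} := Cfsg.Agent.H40.Weil.reflComm hComm hDims
  have hAll : StAllInt.{u} := Cfsg.Agent.H25.Weil.allInt (Cfsg.Agent.H25.Weil.transvInt hWeyl)
  have hRep : StWeilRep.{u} := Cfsg.Agent.H79.Weil.weilRep hAll hComm hRefl hDims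
  have hNT : StNontriv.{u} := Cfsg.Agent.H79.Weil.nontriv hComm
  have hIrr : StIrr.{u, u} := @Cfsg.Agent.H40.Weil.irr
  refine ⟨?_, ?_⟩
  · intro k ρ hirr hk
    have hnt : ∃ g, ρ g ≠ 1 := by
      by_contra hcon
      push Not at hcon
      have h := Cfsg.Agent.H44.finrank_le_one_of_trivial ρ hirr hcon
      rw [Module.finrank_fin_fun] at h
      omega
    have h := boundO_all hodd m ρ hnt
    rw [Module.finrank_fin_fun] at h
    exact h
  · exact weil_exists hRep hRefl hDims hNT hIrr (m + 1) hn h2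
      (fun ρ hnt => boundO_all hodd m ρ hnt)

end Cfsg.Agent.H44.SpO
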