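import Mathlib
import Cfsg.Agent.H97.SpRDefs

/-!
# S2281-CHAIN (helper44, for helper97)

Characteristic 2, `n = m + 3`: a subgroup `H` of `Sp_{2n}(F)` containing `u₁ = d(J)U(E_ll)`,
`u₃ = d(J⁻¹)L(-E_00)` and all `U(c(E_ij + E_ji))` contains `U(E_ll)`.
-/

set_option autoImplicit false

namespace Cfsg.Agent.H44.SpR

open Matrix Cfsg.Agent.H97.SpR

variable {F : Type*} [Field F]

section generic

variable {ι : Type*} [Fintype ι] [DecidableEq ι]

/-- `a(φ, z) = d(1 + z φᵀ) U(z zᵀ)` (for `φ ⬝ z = 0`). -/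
def aM (φ z : ι → F) : Matrix (ι ⊕ ι) (ι ⊕ ι) F :=
  Matrix.fromBlocks (1 + vecMulVec z φ) (vecMulVec z z) 0 (1 - vecMulVec φ z)

/-- Conjugation step: `a(φ, J z) u₁ = u₁ a(Jᵀ φ, z)` when `(Jᵀ φ)_l = 0`. -/
theorem aM_conj (J Ji : Matrix ι ι F) (hJ : J * Ji = 1) (hJ' : Ji * J = 1) (l : ι)
    (φ z : ι → F) (hφ : (φ ᵥ* J) l = 0) :
    aM φ (J *ᵥ z) * Matrix.fromBlocks J (J * Matrix.single l l (1 : F)) 0 Jiᵀ =
      Matrix.fromBlocks J (J * Matrix.single l l (1 : F)) 0 Jiᵀ * aM (φ ᵥ* J) z := by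
  have hE : Matrix.single l l (1 : F) = vecMulVec (Pi.single l 1) (Pi.single l 1) :=
    Matrix.single_eq_single_vecMulVec_single l l
  have h1 : (φ ᵥ* J) ᵥ* Matrix.single l l (1 : F) = 0 := by
    rw [hE, Matrix.vecMul_vecMulVec, dotProduct_single, hφ, zero_mul, zero_smul]
  have h2 : Matrix.single l l (1 : F) *ᵥ (φ ᵥ* J) = 0 := by
    rw [hE, Matrix.vecMulVec_mulVec, single_dotProduct, hφ, mul_zero]
    simp
  have h3 : (J *ᵥ z) ᵥ* Jiᵀ = z := by
    rw [Matrix.vecMul_transpose, Matrix.mulVec_mulVec, hJ', Matrix.one_mulVec]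
  have h4 : Jiᵀ *ᵥ (φ ᵥ* J) = φ := by
    rw [Matrix.mulVec_transpose, Matrix.vecMul_vecMul, hJ, Matrix.vecMul_one]
  unfold aM
  rw [Matrix.fromBlocks_multiply, Matrix.fromBlocks_multiply]
  congr 1
  · rw [Matrix.mul_zero, Matrix.mul_zero, add_zero, add_zero, Matrix.add_mul, Matrix.mul_add,
      Matrix.one_mul, Matrix.mul_one, Matrix.vecMulVec_mul, Matrix.mul_vecMulVec]
  · rw [Matrix.add_mul, Matrix.one_mul, Matrix.vecMulVec_mul, ← Matrix.vecMul_vecMul, h1,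
      Matrix.vecMulVec_zero, add_zero, Matrix.vecMulVec_mul, h3, Matrix.mul_sub, Matrix.mul_one,
      Matrix.mul_assoc J, Matrix.mul_vecMulVec (Matrix.single l l (1 : F)), h2,
      Matrix.zero_vecMulVec, Matrix.mul_zero, sub_zero, Matrix.mul_vecMulVec, add_comm]
  · simp
  · rw [Matrix.zero_mul, Matrix.zero_mul, zero_add, zero_add, Matrix.sub_mul, Matrix.one_mul,
      Matrix.vecMulVec_mul, h3, Matrix.mul_sub, Matrix.mul_one, Matrix.mul_vecMulVec, h4]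

/-- The quotient of two `a(·, e_l)`. -/
theorem aM_quot (e φ el : ι → F) (hφl : φ ⬝ᵥ el = 0) (hel : e ⬝ᵥ el = 0) :
    aM e el = Matrix.fromBlocks (1 + vecMulVec el (e - φ)) 0 0 (1 - vecMulVec (e - φ) el) *
      aM φ el := by
  have hψ : (e - φ) ⬝ᵥ el = 0 := by rw [sub_dotProduct, hφl, hel, sub_zero]
  have hφl' : el ⬝ᵥ φ = 0 := by rw [dotProduct_comm, hφl]
  unfold aM
  rw [Matrix.fromBlocks_multiply]
  congr 1
  · rw [Matrix.zero_mul, add_zero, Matrix.add_mul, Matrix.one_mul, Matrix.mul_add, Matrix.mul_one,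
      Matrix.vecMulVec_mul_vecMulVec, hψ, zero_smul, Matrix.vecMulVec_zero, add_zero,
      add_assoc, ← Matrix.vecMulVec_add, add_sub_cancel]
  · rw [Matrix.zero_mul, add_zero, Matrix.add_mul, Matrix.one_mul,
      Matrix.vecMulVec_mul_vecMulVec, hψ, zero_smul, Matrix.vecMulVec_zero, add_zero]
  · simp
  · rw [Matrix.zero_mul, zero_add, Matrix.sub_mul, Matrix.one_mul, Matrix.mul_sub, Matrix.mul_one,
      Matrix.vecMulVec_mul_vecMulVec, hφl', zero_smul, Matrix.vecMulVec_zero, sub_zero,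
      sub_sub, ← Matrix.add_vecMulVec, add_sub_cancel]

/-- Commutator of `U(S)` with `m₀ = U(c cᵀ) L(-e eᵀ)` in characteristic 2. -/
theorem comm_m0 (h2 : (2 : F) = 0) (e c z : ι → F) (hee : e ⬝ᵥ e = 1) (hez : e ⬝ᵥ z = 0)
    (hce : c ⬝ᵥ e = 0) :
    Matrix.fromBlocks 1 (vecMulVec e z + vecMulVec z e) 0 1 *
        Matrix.fromBlocks 1 (vecMulVec c c) (-(vecMulVec e e)) 1 =
      Matrix.fromBlocks 1 (vecMulVec c c) (-(vecMulVec e e)) 1 * aM e z *
        Matrix.fromBlocks 1 (vecMulVec e z + vecMulVec z e) 0 1 := by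
  have hneg : ∀ M : Matrix ι ι F, -M = M := by
    intro M
    ext i j
    have : M i j + M i j = 0 := by
      have : (2 : F) * M i j = 0 := by rw [h2, zero_mul]
      linear_combination this
    rw [Matrix.neg_apply]
    linear_combination -this
  have hze : z ⬝ᵥ e = 0 := by rw [dotProduct_comm, hez]
  unfold aM
  rw [Matrix.fromBlocks_multiply, Matrix.fromBlocks_multiply, Matrix.fromBlocks_multiply]
  congr 1
  · simp only [Matrix.mul_zero, Matrix.mul_one, Matrix.one_mul, add_zero, Matrix.mul_neg,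
      Matrix.add_mul, Matrix.mul_add, Matrix.vecMulVec_mul_vecMulVec, hze, hee, zero_smul,
      one_smul, Matrix.vecMulVec_zero, zero_add, neg_zero]
    rw [hneg]
  · simp only [Matrix.mul_zero, Matrix.mul_one, Matrix.one_mul, add_zero, Matrix.mul_neg,
      Matrix.add_mul, Matrix.mul_add, Matrix.mul_sub, Matrix.vecMulVec_mul_vecMulVec, hze, hee,
      hez, hce, zero_smul, one_smul, Matrix.vecMulVec_zero, zero_add, neg_zero, sub_zero]
    have h3 : vecMulVec z z + vecMulVec z z = (0 : Matrix ι ι F) := by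
      rw [← two_smul F, h2, zero_smul]
    calc vecMulVec c c + (vecMulVec e z + vecMulVec z e)
        = vecMulVec c c + (vecMulVec e z + vecMulVec z e) +
            (vecMulVec z z + vecMulVec z z) := by
          rw [h3, add_zero]
      _ = _ := by abel
  · simp only [Matrix.mul_zero, Matrix.mul_one, Matrix.one_mul, add_zero, Matrix.neg_mul,
      Matrix.add_mul, Matrix.mul_add, Matrix.vecMulVec_mul_vecMulVec, hze, hee, hez, zero_smul,
      one_smul, Matrix.vecMulVec_zero, zero_add, neg_zero, Matrix.zero_mul]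
  · simp only [Matrix.mul_zero, Matrix.mul_one, Matrix.one_mul, add_zero, Matrix.neg_mul,
      Matrix.add_mul, Matrix.mul_add, Matrix.vecMulVec_mul_vecMulVec, hze, hee, hez, zero_smul,
      one_smul, Matrix.vecMulVec_zero, zero_add, neg_zero, Matrix.zero_mul]
    rw [hneg (vecMulVec e z)]
    abel

/-- The final commutator: `d(g) m₀ = U(d dᵀ - c cᵀ) m₀ d(g)`. -/
theorem final_comm (e el ψ c d : ι → F) (hψe : ψ ⬝ᵥ e = 0) (hele : el ⬝ᵥ e = 0)
    (hψel : ψ ⬝ᵥ el = 0) (hd : d = c + (ψ ⬝ᵥ c) • el) (hde : d ⬝ᵥ e = 0) (hce : c ⬝ᵥ e = 0) :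
    Matrix.fromBlocks (1 + vecMulVec el ψ) 0 0 (1 - vecMulVec ψ el) *
        Matrix.fromBlocks 1 (vecMulVec c c) (-(vecMulVec e e)) 1 =
      Matrix.fromBlocks 1 (vecMulVec d d - vecMulVec c c) 0 1 *
        (Matrix.fromBlocks 1 (vecMulVec c c) (-(vecMulVec e e)) 1 *
          Matrix.fromBlocks (1 + vecMulVec el ψ) 0 0 (1 - vecMulVec ψ el)) := by
  have hele' : e ⬝ᵥ el = 0 := by rw [dotProduct_comm, hele]
  have hdψ : d ⬝ᵥ ψ = ψ ⬝ᵥ c := by
    rw [hd, add_dotProduct, smul_dotProduct, dotProduct_comm el ψ, hψel, smul_zero, add_zero,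
      dotProduct_comm]
  have h12 : (1 + vecMulVec el ψ) * vecMulVec c c = vecMulVec d d * (1 - vecMulVec ψ el) := by
    rw [Matrix.add_mul, Matrix.one_mul, Matrix.vecMulVec_mul_vecMulVec, Matrix.mul_sub,
      Matrix.mul_one, Matrix.vecMulVec_mul_vecMulVec, hdψ]
    rw [hd]
    ext i j
    simp only [Matrix.add_apply, Matrix.sub_apply, vecMulVec_apply, Pi.add_apply, Pi.smul_apply,
      smul_eq_mul]
    ring
  rw [Matrix.fromBlocks_multiply, Matrix.fromBlocks_multiply, Matrix.fromBlocks_multiply]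
  congr 1
  · simp only [Matrix.mul_zero, Matrix.mul_one, Matrix.one_mul, add_zero, Matrix.neg_mul,
      Matrix.mul_neg, Matrix.add_mul, Matrix.mul_add, Matrix.sub_mul,
      Matrix.vecMulVec_mul_vecMulVec, hde, hce, hele', zero_smul, Matrix.vecMulVec_zero,
      zero_add, neg_zero, Matrix.zero_mul, sub_zero]
  · simp only [Matrix.mul_zero, Matrix.mul_one, Matrix.one_mul, add_zero, zero_add,
      Matrix.zero_mul]
    rw [h12, ← Matrix.add_mul]
    congr 1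
    abel
  · simp only [Matrix.mul_zero, Matrix.mul_one, Matrix.one_mul, add_zero, Matrix.neg_mul,
      Matrix.mul_neg, Matrix.add_mul, Matrix.mul_add, Matrix.sub_mul,
      Matrix.vecMulVec_mul_vecMulVec, hele, hele', zero_smul, Matrix.vecMulVec_zero,
      zero_add, neg_zero, Matrix.zero_mul, sub_zero]
  · simp

end generic

section cancel

variable {k : ℕ}

theorem mem_of_mul_eq_left (H : Subgroup (Matrix.symplecticGroup (Fin k) F))
    {x y : Matrix.symplecticGroup (Fin k) F} (hx : x ∈ H) (hy : y ∈ H)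
    (Z : Matrix (Fin k ⊕ Fin k) (Fin k ⊕ Fin k) F)
    (h : (x : Matrix (Fin k ⊕ Fin k) (Fin k ⊕ Fin k) F) * Z =
      (y : Matrix (Fin k ⊕ Fin k) (Fin k ⊕ Fin k) F)) :
    ∃ w ∈ H, (w : Matrix (Fin k ⊕ Fin k) (Fin k ⊕ Fin k) F) = Z := by
  refine ⟨x⁻¹ * y, H.mul_mem (H.inv_mem hx) hy, ?_⟩
  have h1 : ((x⁻¹ : Matrix.symplecticGroup (Fin k) F) :
      Matrix (Fin k ⊕ Fin k) (Fin k ⊕ Fin k) F) *
      (x : Matrix (Fin k ⊕ Fin k) (Fin k ⊕ Fin k) F) = 1 := by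
    have : ((x⁻¹ * x : Matrix.symplecticGroup (Fin k) F) :
        Matrix (Fin k ⊕ Fin k) (Fin k ⊕ Fin k) F) = 1 := by rw [inv_mul_cancel]; rfl
    exact this
  show ((x⁻¹ : Matrix.symplecticGroup (Fin k) F) : Matrix (Fin k ⊕ Fin k) (Fin k ⊕ Fin k) F) *
      (y : Matrix (Fin k ⊕ Fin k) (Fin k ⊕ Fin k) F) = Z
  rw [← h, ← Matrix.mul_assoc, h1, Matrix.one_mul]

theorem mem_of_mul_eq_right (H : Subgroup (Matrix.symplecticGroup (Fin k) F))
    {x y : Matrix.symplecticGroup (Fin k) F} (hx : x ∈ H) (hy : y ∈ H)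
    (Z : Matrix (Fin k ⊕ Fin k) (Fin k ⊕ Fin k) F)
    (h : Z * (x : Matrix (Fin k ⊕ Fin k) (Fin k ⊕ Fin k) F) =
      (y : Matrix (Fin k ⊕ Fin k) (Fin k ⊕ Fin k) F)) :
    ∃ w ∈ H, (w : Matrix (Fin k ⊕ Fin k) (Fin k ⊕ Fin k) F) = Z := by
  refine ⟨y * x⁻¹, H.mul_mem hy (H.inv_mem hx), ?_⟩
  have h1 : (x : Matrix (Fin k ⊕ Fin k) (Fin k ⊕ Fin k) F) *
      ((x⁻¹ : Matrix.symplecticGroup (Fin k) F) :
      Matrix (Fin k ⊕ Fin k) (Fin k ⊕ Fin k) F) = 1 := by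
    have : ((x * x⁻¹ : Matrix.symplecticGroup (Fin k) F) :
        Matrix (Fin k ⊕ Fin k) (Fin k ⊕ Fin k) F) = 1 := by rw [mul_inv_cancel]; rfl
    exact this
  show (y : Matrix (Fin k ⊕ Fin k) (Fin k ⊕ Fin k) F) *
      ((x⁻¹ : Matrix.symplecticGroup (Fin k) F) : Matrix (Fin k ⊕ Fin k) (Fin k ⊕ Fin k) F) = Z
  rw [← h, Matrix.mul_assoc, h1, Matrix.mul_one]

end cancel

section concrete

/-- `(v J)_k = v_k + v_{k-1}`. -/
theorem vecMul_uniM (n : ℕ) (v : Fin n → F) (k : Fin n) :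
    (v ᵥ* uniM n (1 : F)) k =
      v k + (if h : 0 < (k : ℕ) then v ⟨(k : ℕ) - 1, by omega⟩ else 0) := by
  simp only [Matrix.vecMul, dotProduct, uniM_apply, one_mul, mul_add, Finset.sum_add_distrib]
  congr 1
  · simp
  · split_ifs with h
    · rw [Finset.sum_eq_single ⟨(k : ℕ) - 1, by omega⟩]
      · have : (k : ℕ) - 1 + 1 = (k : ℕ) := by omega
        simp [this]
      · intro j _ hj
        have : ¬ ((j : ℕ) + 1 = (k : ℕ)) := by
          intro h'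
          apply hj
          apply Fin.ext
          simp only
          omega
        simp [this]
      · simp
    · apply Finset.sum_eq_zero
      intro j _
      have : ¬ ((j : ℕ) + 1 = (k : ℕ)) := by omega
      simp [this]

/-- `φ_i = (Jᵀ)^i e_0`. -/
def phiSeq (F : Type*) [Field F] (m : ℕ) : ℕ → (Fin (m + 3) → F)
  | 0 => Pi.single 0 1
  | (i + 1) => phiSeq F m i ᵥ* uniM (m + 3) (1 : F)

theorem phiSeq_support (m : ℕ) : ∀ (i : ℕ) (k : Fin (m + 3)), i < (k : ℕ) →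
    phiSeq F m i k = 0 := by
  intro i
  induction i with
  | zero =>
    intro k hk
    have : k ≠ 0 := by
      intro h
      rw [h] at hk
      simp at hk
    simp [phiSeq, Pi.single_apply, this]
  | succ i ih =>
    intro k hk
    show (phiSeq F m i ᵥ* uniM (m + 3) (1 : F)) k = 0
    rw [vecMul_uniM, ih k (by omega), zero_add, dif_pos (by omega)]
    exact ih _ (by simp only; omega)

theorem phiSeq_diag (m : ℕ) : ∀ (i : ℕ) (h : i < m + 3), phiSeq F m i ⟨i, h⟩ = 1 := by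
  intro i
  induction i with
  | zero =>
    intro h
    have : (⟨0, h⟩ : Fin (m + 3)) = 0 := rfl
    simp [phiSeq, this]
  | succ i ih =>
    intro h
    show (phiSeq F m i ᵥ* uniM (m + 3) (1 : F)) ⟨i + 1, h⟩ = 1
    rw [vecMul_uniM, phiSeq_support m i ⟨i + 1, h⟩ (by simp), zero_add, dif_pos (by simp)]
    exact ih (by omega)

theorem phiSeq_zero (m : ℕ) : ∀ (i : ℕ), phiSeq F m i 0 = 1 := by
  intro i
  induction i with
  | zero => simp [phiSeq]
  | succ i ih =>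
    show (phiSeq F m i ᵥ* uniM (m + 3) (1 : F)) 0 = 1
    rw [vecMul_uniM, ih, dif_neg (by simp), add_zero]

/-- The index `l - 1`. -/
def lpred (m : ℕ) : Fin (m + 3) := ⟨m + 1, by omega⟩

/-- `c₁ = e_l + e_{l-1}`. -/
def cVec (F : Type*) [Field F] (m : ℕ) : Fin (m + 3) → F :=
  Pi.single (Fin.last (m + 2)) 1 + Pi.single (lpred m) 1

theorem uniM_mulVec_last (m : ℕ) :
    uniM (m + 3) (1 : F) *ᵥ Pi.single (Fin.last (m + 2)) 1 = cVec F m := by
  rw [Matrix.mulVec_single_one]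
  ext i
  simp only [cVec, Matrix.col_apply, uniM_apply, Pi.add_apply, Pi.single_apply, one_mul,
    Fin.val_last, lpred]
  congr 1
  by_cases h : (i : ℕ) + 1 = m + 2
  · have : i = ⟨m + 1, by omega⟩ := by apply Fin.ext; simp only; omega
    simp [h, this]
  · have : i ≠ ⟨m + 1, by omega⟩ := by
      intro h'
      apply h
      rw [h']
    have h3 : ¬ ((i : ℕ) = m + 1) := by omega
    simp [h, this, h3]

theorem cVec_zero (m : ℕ) : cVec F m ⬝ᵥ Pi.single (0 : Fin (m + 3)) 1 = 0 := by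
  rw [dotProduct_single, mul_one]
  have h1 : (0 : Fin (m + 3)) ≠ Fin.last (m + 2) := by
    intro h
    have := congrArg Fin.val h
    simp at this
  have h2 : (0 : Fin (m + 3)) ≠ lpred m := by
    intro h
    have := congrArg Fin.val h
    simp [lpred] at this
  simp [cVec, Pi.single_apply, h1, h2]

/-- `m₀ = u₁ u₃ = U(c₁ c₁ᵀ) L(-E_00)`. -/
theorem u1M_mul_u3M (m : ℕ) :
    u1M F m * u3M F m = Matrix.fromBlocks 1 (vecMulVec (cVec F m) (cVec F m))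
      (-(vecMulVec (Pi.single (0 : Fin (m + 3)) (1 : F)) (Pi.single (0 : Fin (m + 3)) (1 : F))))
      1 := by
  have hJJ : (uniSL (m + 3) (1 : F) : Matrix (Fin (m + 3)) (Fin (m + 3)) F) *
      ((uniSL (m + 3) (1 : F))⁻¹ : Matrix.SpecialLinearGroup (Fin (m + 3)) F) = 1 := by
    rw [← Matrix.SpecialLinearGroup.coe_mul, mul_inv_cancel, Matrix.SpecialLinearGroup.coe_one]
  have hE : Matrix.single (Fin.last (m + 2)) (Fin.last (m + 2)) (1 : F) =
      vecMulVec (Pi.single (Fin.last (m + 2)) 1) (Pi.single (Fin.last (m + 2)) 1) :=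
    Matrix.single_eq_single_vecMulVec_single _ _
  have hE0 : Matrix.single (0 : Fin (m + 3)) (0 : Fin (m + 3)) (1 : F) =
      vecMulVec (Pi.single 0 1) (Pi.single 0 1) :=
    Matrix.single_eq_single_vecMulVec_single _ _
  have hCC : (uniSL (m + 3) (1 : F) : Matrix (Fin (m + 3)) (Fin (m + 3)) F) *
      Matrix.single (Fin.last (m + 2)) (Fin.last (m + 2)) (1 : F) *
      (uniSL (m + 3) (1 : F) : Matrix (Fin (m + 3)) (Fin (m + 3)) F)ᵀ =
      vecMulVec (cVec F m) (cVec F m) := by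
    rw [hE, Matrix.mul_vecMulVec, Matrix.vecMulVec_mul, Matrix.vecMul_transpose, uniSL_coe,
      uniM_mulVec_last]
  have hT : ((uniSL (m + 3) (1 : F))⁻¹ : Matrix.SpecialLinearGroup (Fin (m + 3)) F).1ᵀ *
      (uniSL (m + 3) (1 : F) : Matrix (Fin (m + 3)) (Fin (m + 3)) F)ᵀ = 1 := by
    rw [← Matrix.transpose_mul]
    show ((uniSL (m + 3) (1 : F) : Matrix (Fin (m + 3)) (Fin (m + 3)) F) *
      (((uniSL (m + 3) (1 : F))⁻¹ : Matrix.SpecialLinearGroup (Fin (m + 3)) F) :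
        Matrix (Fin (m + 3)) (Fin (m + 3)) F))ᵀ = 1
    rw [hJJ, Matrix.transpose_one]
  unfold u1M u3M dU dL
  rw [inv_inv, Matrix.fromBlocks_multiply]
  congr 1
  · rw [hJJ, ← Matrix.mul_assoc, hCC, Matrix.mul_neg, hE0, Matrix.vecMulVec_mul_vecMulVec,
      cVec_zero, zero_smul, Matrix.vecMulVec_zero, neg_zero, add_zero]
  · rw [Matrix.mul_zero, zero_add, hCC]
  · rw [Matrix.zero_mul, zero_add, ← Matrix.mul_assoc]
    show ((uniSL (m + 3) (1 : F))⁻¹ : Matrix.SpecialLinearGroup (Fin (m + 3)) F).1ᵀ *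
      (uniSL (m + 3) (1 : F) : Matrix (Fin (m + 3)) (Fin (m + 3)) F)ᵀ * _ = _
    rw [hT, Matrix.one_mul, hE0]
  · rw [Matrix.zero_mul, zero_add]
    exact hT

/-- The additive submonoid `{S | U(S) ∈ H}`. -/
def upperSet {k : ℕ} (H : Subgroup (Matrix.symplecticGroup (Fin k) F)) :
    AddSubmonoid (Matrix (Fin k) (Fin k) F) where
  carrier := {S | ∃ x ∈ H, (x : Matrix (Fin k ⊕ Fin k) (Fin k ⊕ Fin k) F) =
    Matrix.fromBlocks 1 S 0 1}
  add_mem' := by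
    rintro S S' ⟨x, hx, hxS⟩ ⟨y, hy, hyS⟩
    refine ⟨x * y, H.mul_mem hx hy, ?_⟩
    show (x : Matrix (Fin k ⊕ Fin k) (Fin k ⊕ Fin k) F) *
      (y : Matrix (Fin k ⊕ Fin k) (Fin k ⊕ Fin k) F) = _
    rw [hxS, hyS, Matrix.fromBlocks_multiply]
    simp [add_comm]
  zero_mem' := ⟨1, H.one_mem, by
    show (1 : Matrix (Fin k ⊕ Fin k) (Fin k ⊕ Fin k) F) = _
    rw [Matrix.fromBlocks_one]⟩

theorem mem_upperSet {k : ℕ} (H : Subgroup (Matrix.symplecticGroup (Fin k) F))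
    (S : Matrix (Fin k) (Fin k) F) :
    S ∈ upperSet H ↔ ∃ x ∈ H, (x : Matrix (Fin k ⊕ Fin k) (Fin k ⊕ Fin k) F) =
      Matrix.fromBlocks 1 S 0 1 := Iff.rfl

section main

variable (m : ℕ) (h2 : (2 : F) = 0)
  (H : Subgroup (Matrix.symplecticGroup (Fin (m + 3)) F))
  (u₁ u₃ : Matrix.symplecticGroup (Fin (m + 3)) F)
  (hu₁ : (u₁ : Matrix (Fin (m + 3) ⊕ Fin (m + 3)) (Fin (m + 3) ⊕ Fin (m + 3)) F) = u1M F m)
  (hu₃ : (u₃ : Matrix (Fin (m + 3) ⊕ Fin (m + 3)) (Fin (m + 3) ⊕ Fin (m + 3)) F) = u3M F m)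
  (h1 : u₁ ∈ H) (h3 : u₃ ∈ H)
  (hA : ∀ (i j : Fin (m + 3)) (c : F), i ≠ j → ∃ x ∈ H,
    (x : Matrix (Fin (m + 3) ⊕ Fin (m + 3)) (Fin (m + 3) ⊕ Fin (m + 3)) F) =
      Matrix.fromBlocks 1 (Matrix.single i j c + Matrix.single j i c) 0 1)

include h2 hu₁ hu₃ h1 h3 hA

theorem m0_coe : ((u₁ * u₃ : Matrix.symplecticGroup (Fin (m + 3)) F) :
    Matrix (Fin (m + 3) ⊕ Fin (m + 3)) (Fin (m + 3) ⊕ Fin (m + 3)) F) =
    Matrix.fromBlocks 1 (vecMulVec (cVec F m) (cVec F m))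
      (-(vecMulVec (Pi.single (0 : Fin (m + 3)) (1 : F)) (Pi.single (0 : Fin (m + 3)) (1 : F))))
      1 := by
  show (u₁ : Matrix (Fin (m + 3) ⊕ Fin (m + 3)) (Fin (m + 3) ⊕ Fin (m + 3)) F) *
    (u₃ : Matrix (Fin (m + 3) ⊕ Fin (m + 3)) (Fin (m + 3) ⊕ Fin (m + 3)) F) = _
  rw [hu₁, hu₃, u1M_mul_u3M]

theorem base_mem (z : Fin (m + 3) → F) (hz : Pi.single (0 : Fin (m + 3)) (1 : F) ⬝ᵥ z = 0) :
    ∃ x ∈ H, (x : Matrix (Fin (m + 3) ⊕ Fin (m + 3)) (Fin (m + 3) ⊕ Fin (m + 3)) F) =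
      aM (Pi.single (0 : Fin (m + 3)) (1 : F)) z := by
  have hz0 : z 0 = 0 := by
    rw [single_dotProduct, one_mul] at hz
    exact hz
  have hS : vecMulVec (Pi.single (0 : Fin (m + 3)) (1 : F)) z +
      vecMulVec z (Pi.single (0 : Fin (m + 3)) (1 : F)) ∈ upperSet H := by
    have hsum : vecMulVec (Pi.single (0 : Fin (m + 3)) (1 : F)) z +
        vecMulVec z (Pi.single (0 : Fin (m + 3)) (1 : F)) =
        ∑ j : Fin (m + 3), (Matrix.single 0 j (z j) + Matrix.single j 0 (z j)) := by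
      ext a b
      rw [Matrix.sum_apply]
      simp only [Matrix.add_apply, vecMulVec_apply, Matrix.single_apply, Pi.single_apply,
        Finset.sum_add_distrib]
      congr 1
      · by_cases ha : a = 0
        · subst ha
          simp
        · have : ¬ ((0 : Fin (m + 3)) = a) := fun h => ha h.symm
          simp [ha, this]
      · by_cases hb : b = 0
        · subst hb
          simp
        · have : ¬ ((0 : Fin (m + 3)) = b) := fun h => hb h.symm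
          simp [hb, this]
    rw [hsum]
    apply AddSubmonoid.sum_mem
    intro j _
    by_cases hj : j = 0
    · subst hj
      rw [hz0, Matrix.single_zero, add_zero]
      exact AddSubmonoid.zero_mem _
    · exact hA 0 j (z j) (Ne.symm hj)
  obtain ⟨xS, hxS, hxSm⟩ := hS
  have hm₀ := m0_coe m h2 H u₁ u₃ hu₁ hu₃ h1 h3 hA
  have hcomm := comm_m0 h2 (Pi.single (0 : Fin (m + 3)) (1 : F)) (cVec F m) z
    (by rw [single_dotProduct, one_mul, Pi.single_eq_same]) hz (cVec_zero m)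
  obtain ⟨w, hw, hwm⟩ := mem_of_mul_eq_right H hxS (H.mul_mem hxS (H.mul_mem h1 h3))
    (Matrix.fromBlocks 1 (vecMulVec (cVec F m) (cVec F m))
      (-(vecMulVec (Pi.single (0 : Fin (m + 3)) (1 : F)) (Pi.single (0 : Fin (m + 3)) (1 : F))))
      1 * aM (Pi.single (0 : Fin (m + 3)) (1 : F)) z) (by
      show _ * (xS : Matrix (Fin (m + 3) ⊕ Fin (m + 3)) (Fin (m + 3) ⊕ Fin (m + 3)) F) =
        (xS : Matrix (Fin (m + 3) ⊕ Fin (m + 3)) (Fin (m + 3) ⊕ Fin (m + 3)) F) *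
        ((u₁ * u₃ : Matrix.symplecticGroup (Fin (m + 3)) F) :
          Matrix (Fin (m + 3) ⊕ Fin (m + 3)) (Fin (m + 3) ⊕ Fin (m + 3)) F)
      rw [hxSm, hm₀, hcomm])
  exact mem_of_mul_eq_left H (H.mul_mem h1 h3) hw _ (by rw [hm₀, hwm])

theorem chain_mem : ∀ (i : ℕ), i ≤ m + 1 → ∀ z : Fin (m + 3) → F, phiSeq F m i ⬝ᵥ z = 0 →
    ∃ x ∈ H, (x : Matrix (Fin (m + 3) ⊕ Fin (m + 3)) (Fin (m + 3) ⊕ Fin (m + 3)) F) =
      aM (phiSeq F m i) z := by
  intro i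
  induction i with
  | zero =>
    intro _ z hz
    exact base_mem m h2 H u₁ u₃ hu₁ hu₃ h1 h3 hA z hz
  | succ i ih =>
    intro hi z hz
    have hz' : phiSeq F m i ⬝ᵥ (uniM (m + 3) (1 : F) *ᵥ z) = 0 := by
      rw [Matrix.dotProduct_mulVec]
      exact hz
    obtain ⟨x, hx, hxm⟩ := ih (by omega) _ hz'
    have hJJ : (uniSL (m + 3) (1 : F) : Matrix (Fin (m + 3)) (Fin (m + 3)) F) *
        (((uniSL (m + 3) (1 : F))⁻¹ : Matrix.SpecialLinearGroup (Fin (m + 3)) F) :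
          Matrix (Fin (m + 3)) (Fin (m + 3)) F) = 1 := by
      rw [← Matrix.SpecialLinearGroup.coe_mul, mul_inv_cancel, Matrix.SpecialLinearGroup.coe_one]
    have hJJ' : (((uniSL (m + 3) (1 : F))⁻¹ : Matrix.SpecialLinearGroup (Fin (m + 3)) F) :
          Matrix (Fin (m + 3)) (Fin (m + 3)) F) *
        (uniSL (m + 3) (1 : F) : Matrix (Fin (m + 3)) (Fin (m + 3)) F) = 1 := by
      rw [← Matrix.SpecialLinearGroup.coe_mul, inv_mul_cancel, Matrix.SpecialLinearGroup.coe_one]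
    have hconj := aM_conj (uniSL (m + 3) (1 : F) : Matrix (Fin (m + 3)) (Fin (m + 3)) F)
      (((uniSL (m + 3) (1 : F))⁻¹ : Matrix.SpecialLinearGroup (Fin (m + 3)) F) :
          Matrix (Fin (m + 3)) (Fin (m + 3)) F) hJJ hJJ' (Fin.last (m + 2)) (phiSeq F m i) z
      (phiSeq_support m (i + 1) (Fin.last (m + 2)) (by simp only [Fin.val_last]; omega))
    refine mem_of_mul_eq_left H h1 (H.mul_mem hx h1) _ ?_
    show (u₁ : Matrix (Fin (m + 3) ⊕ Fin (m + 3)) (Fin (m + 3) ⊕ Fin (m + 3)) F) * _ =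
      (x : Matrix (Fin (m + 3) ⊕ Fin (m + 3)) (Fin (m + 3) ⊕ Fin (m + 3)) F) *
      (u₁ : Matrix (Fin (m + 3) ⊕ Fin (m + 3)) (Fin (m + 3) ⊕ Fin (m + 3)) F)
    rw [hu₁, hxm]
    exact hconj.symm

theorem chain_aux :
    ∃ x ∈ H, (x : Matrix (Fin (m + 3) ⊕ Fin (m + 3)) (Fin (m + 3) ⊕ Fin (m + 3)) F) =
      Matrix.fromBlocks 1 (Matrix.single (Fin.last (m + 2)) (Fin.last (m + 2)) (1 : F)) 0 1 := by
  have hl0 : Fin.last (m + 2) ≠ (0 : Fin (m + 3)) := by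
    intro h
    have := congrArg Fin.val h
    simp at this
  have hl'0 : lpred m ≠ (0 : Fin (m + 3)) := by
    intro h
    have := congrArg Fin.val h
    simp [lpred] at this
  have hll' : Fin.last (m + 2) ≠ lpred m := by
    intro h
    have := congrArg Fin.val h
    simp [lpred] at this
  obtain ⟨e0, he0⟩ : ∃ e0 : Fin (m + 3) → F, e0 = Pi.single 0 1 := ⟨_, rfl⟩
  obtain ⟨el, hel⟩ : ∃ el : Fin (m + 3) → F, el = Pi.single (Fin.last (m + 2)) 1 := ⟨_, rfl⟩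
  obtain ⟨el', hel'⟩ : ∃ el' : Fin (m + 3) → F, el' = Pi.single (lpred m) 1 := ⟨_, rfl⟩
  obtain ⟨φ, hφ⟩ : ∃ φ : Fin (m + 3) → F, φ = phiSeq F m (m + 1) := ⟨_, rfl⟩
  have hφl : φ (Fin.last (m + 2)) = 0 := by
    rw [hφ]
    exact phiSeq_support m (m + 1) (Fin.last (m + 2)) (by simp)
  have hφl' : φ (lpred m) = 1 := by
    rw [hφ]
    exact phiSeq_diag m (m + 1) (by omega)
  have hφ0 : φ 0 = 1 := by
    rw [hφ]
    exact phiSeq_zero m (m + 1)
  have h_e0el : e0 ⬝ᵥ el = 0 := by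
    rw [he0, hel, single_dotProduct, one_mul, Pi.single_apply, if_neg (Ne.symm hl0)]
  have h_φel : φ ⬝ᵥ el = 0 := by
    rw [hel, dotProduct_single, mul_one, hφl]
  -- a(e_0, e_l) and a(φ, e_l)
  obtain ⟨x0, hx0, hx0m⟩ := chain_mem m h2 H u₁ u₃ hu₁ hu₃ h1 h3 hA 0 (by omega) el
    (by show (Pi.single 0 1 : Fin (m + 3) → F) ⬝ᵥ el = 0; rw [← he0]; exact h_e0el)
  obtain ⟨x1, hx1, hx1m⟩ := chain_mem m h2 H u₁ u₃ hu₁ hu₃ h1 h3 hA (m + 1) le_rfl el
    (by rw [← hφ]; exact h_φel)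
  have hx0m' : (x0 : Matrix (Fin (m + 3) ⊕ Fin (m + 3)) (Fin (m + 3) ⊕ Fin (m + 3)) F) =
      aM e0 el := by rw [hx0m, he0]; rfl
  rw [← hφ] at hx1m
  -- d(g)
  obtain ⟨xD, hxD, hxDm⟩ := mem_of_mul_eq_right H hx1 hx0
    (Matrix.fromBlocks (1 + vecMulVec el (e0 - φ)) 0 0 (1 - vecMulVec (e0 - φ) el))
    (by rw [hx1m, hx0m']; exact (aM_quot e0 φ el h_φel h_e0el).symm)
  -- the final commutator
  have hψe : (e0 - φ) ⬝ᵥ e0 = 0 := by
    rw [he0, dotProduct_single, mul_one, Pi.sub_apply, Pi.single_eq_same, hφ0, sub_self]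
  have hele : el ⬝ᵥ e0 = 0 := by rw [dotProduct_comm]; exact h_e0el
  have hψel : (e0 - φ) ⬝ᵥ el = 0 := by rw [sub_dotProduct, h_e0el, h_φel, sub_zero]
  have hψc : (e0 - φ) ⬝ᵥ cVec F m = -1 := by
    rw [cVec, dotProduct_add, dotProduct_single, dotProduct_single, mul_one, mul_one,
      Pi.sub_apply, Pi.sub_apply, hφl, hφl', he0, Pi.single_apply, Pi.single_apply,
      if_neg hl0, if_neg hl'0]
    ring
  have hd : el' = cVec F m + ((e0 - φ) ⬝ᵥ cVec F m) • el := by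
    rw [hψc, cVec, ← hel, ← hel']
    ext i
    simp only [Pi.add_apply, Pi.smul_apply, smul_eq_mul]
    ring
  have hde : el' ⬝ᵥ e0 = 0 := by
    rw [hel', he0, single_dotProduct, one_mul, Pi.single_apply, if_neg hl'0]
  have hce : cVec F m ⬝ᵥ e0 = 0 := by rw [he0]; exact cVec_zero m
  have hfin := final_comm e0 el (e0 - φ) (cVec F m) el' hψe hele hψel hd hde hce
  have hm₀ := m0_coe m h2 H u₁ u₃ hu₁ hu₃ h1 h3 hA
  rw [← he0] at hm₀
  obtain ⟨xX, hxX, hxXm⟩ := mem_of_mul_eq_right H (H.mul_mem (H.mul_mem h1 h3) hxD)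
    (H.mul_mem hxD (H.mul_mem h1 h3))
    (Matrix.fromBlocks 1 (vecMulVec el' el' - vecMulVec (cVec F m) (cVec F m)) 0 1) (by
      show _ * (((u₁ * u₃ : Matrix.symplecticGroup (Fin (m + 3)) F) :
          Matrix (Fin (m + 3) ⊕ Fin (m + 3)) (Fin (m + 3) ⊕ Fin (m + 3)) F) *
          (xD : Matrix (Fin (m + 3) ⊕ Fin (m + 3)) (Fin (m + 3) ⊕ Fin (m + 3)) F)) =
        (xD : Matrix (Fin (m + 3) ⊕ Fin (m + 3)) (Fin (m + 3) ⊕ Fin (m + 3)) F) *
        ((u₁ * u₃ : Matrix.symplecticGroup (Fin (m + 3)) F) :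
          Matrix (Fin (m + 3) ⊕ Fin (m + 3)) (Fin (m + 3) ⊕ Fin (m + 3)) F)
      rw [hm₀, hxDm]
      exact hfin.symm)
  obtain ⟨y, hy, hym⟩ := hA (Fin.last (m + 2)) (lpred m) (-1) hll'
  refine mem_of_mul_eq_left H hxX hy _ ?_
  rw [hxXm, hym, Matrix.fromBlocks_multiply]
  congr 1
  · simp
  · rw [Matrix.one_mul, Matrix.mul_one, Matrix.single_eq_single_vecMulVec_single,
      ← Matrix.single_neg, ← Matrix.single_neg, Matrix.single_eq_single_vecMulVec_single,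
      Matrix.single_eq_single_vecMulVec_single, cVec, ← hel, ← hel']
    simp only [Matrix.add_vecMulVec, Matrix.vecMulVec_add]
    abel
  · simp
  · simp

end main

/-- S2281-CHAIN. -/
theorem chain_two (m : ℕ) (h2 : (2 : F) = 0)
    (H : Subgroup (Matrix.symplecticGroup (Fin (m + 3)) F))
    (u₁ u₃ : Matrix.symplecticGroup (Fin (m + 3)) F)
    (hu₁ : (u₁ : Matrix (Fin (m + 3) ⊕ Fin (m + 3)) (Fin (m + 3) ⊕ Fin (m + 3)) F) = u1M F m)
    (hu₃ : (u₃ : Matrix (Fin (m + 3) ⊕ Fin (m + 3)) (Fin (m + 3) ⊕ Fin (m + 3)) F) = u3M F m)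
    (h1 : u₁ ∈ H) (h3 : u₃ ∈ H)
    (hA : ∀ (i j : Fin (m + 3)) (c : F), i ≠ j → ∃ x ∈ H,
      (x : Matrix (Fin (m + 3) ⊕ Fin (m + 3)) (Fin (m + 3) ⊕ Fin (m + 3)) F) =
        Matrix.fromBlocks 1 (Matrix.single i j c + Matrix.single j i c) 0 1) :
    ∃ x ∈ H, (x : Matrix (Fin (m + 3) ⊕ Fin (m + 3)) (Fin (m + 3) ⊕ Fin (m + 3)) F) =
      Matrix.fromBlocks 1 (Matrix.single (Fin.last (m + 2)) (Fin.last (m + 2)) (1 : F)) 0 1 :=
  chain_aux m h2 H u₁ u₃ hu₁ hu₃ h1 h3 hA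

example (m : ℕ) (h2 : (2 : F) = 0)
    (H : Subgroup (Matrix.symplecticGroup (Fin (m + 3)) F))
    (u₁ u₃ : Matrix.symplecticGroup (Fin (m + 3)) F)
    (hu₁ : (u₁ : Matrix (Fin (m + 3) ⊕ Fin (m + 3)) (Fin (m + 3) ⊕ Fin (m + 3)) F) = u1M F m)
    (hu₃ : (u₃ : Matrix (Fin (m + 3) ⊕ Fin (m + 3)) (Fin (m + 3) ⊕ Fin (m + 3)) F) = u3M F m)
    (h1 : u₁ ∈ H) (h3 : u₃ ∈ H)
    (hA : ∀ (i j : Fin (m + 3)) (c : F), i ≠ j → ∃ x ∈ H,
      (x : Matrix (Fin (m + 3) ⊕ Fin (m + 3)) (Fin (m + 3) ⊕ Fin (m + 3)) F) =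
        Matrix.fromBlocks 1 (Matrix.single i j c + Matrix.single j i c) 0 1) :
    ∃ x ∈ H, (x : Matrix (Fin (m + 3) ⊕ Fin (m + 3)) (Fin (m + 3) ⊕ Fin (m + 3)) F) =
      Matrix.fromBlocks 1 (Matrix.single (Fin.last (m + 2)) (Fin.last (m + 2)) (1 : F)) 0 1 :=
  chain_two m h2 H u₁ u₃ hu₁ hu₃ h1 h3 hA

end concrete

end Cfsg.Agent.H44.SpR
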