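import Mathlib
import Cfsg.Agent.H97.SpRDefs
import Cfsg.Agent.H28.SpRJord
import Cfsg.Agent.H97.RG3e
import Cfsg.Agent.H44.CompMain

/-!
# S2281-LEVI (helper44, for helper97): `SL_n(F)`, `n ≥ 3`, is generated by the Jordan block
`J = uniSL n 1` and one `GL_n`-conjugate of it.
-/

set_option autoImplicit false

namespace Cfsg.Agent.H44.SpR

open Matrix Cfsg.Agent.H97.SpR

variable {F : Type*} [Field F]

/-- Conjugation by an invertible matrix as an endomorphism of `SL_k(F)`. -/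
def conjSL {k : ℕ} (M M' : Matrix (Fin k) (Fin k) F) (h1 : M * M' = 1) (h2 : M' * M = 1) :
    Matrix.SpecialLinearGroup (Fin k) F →* Matrix.SpecialLinearGroup (Fin k) F where
  toFun g := ⟨M * (g : Matrix (Fin k) (Fin k) F) * M', by
    rw [Matrix.det_mul, Matrix.det_mul, mul_right_comm, ← Matrix.det_mul, h1, Matrix.det_one,
      one_mul, g.2]⟩
  map_one' := by
    apply Subtype.ext
    show M * ((1 : Matrix.SpecialLinearGroup (Fin k) F) : Matrix (Fin k) (Fin k) F) * M' = 1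
    rw [Matrix.SpecialLinearGroup.coe_one, Matrix.mul_one, h1]
  map_mul' a b := by
    apply Subtype.ext
    show M * ((a * b : Matrix.SpecialLinearGroup (Fin k) F) : Matrix (Fin k) (Fin k) F) * M' =
      (M * (a : Matrix (Fin k) (Fin k) F) * M') * (M * (b : Matrix (Fin k) (Fin k) F) * M')
    rw [Matrix.SpecialLinearGroup.coe_mul]
    calc M * ((a : Matrix (Fin k) (Fin k) F) * (b : Matrix (Fin k) (Fin k) F)) * M'
        = M * (a : Matrix (Fin k) (Fin k) F) * 1 * (b : Matrix (Fin k) (Fin k) F) * M' := by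
          simp only [Matrix.mul_one, Matrix.mul_assoc]
      _ = (M * (a : Matrix (Fin k) (Fin k) F) * M') * (M * (b : Matrix (Fin k) (Fin k) F) * M') := by
          rw [← h2]; simp only [Matrix.mul_assoc]

theorem conjSL_coe {k : ℕ} (M M' : Matrix (Fin k) (Fin k) F) (h1 : M * M' = 1) (h2 : M' * M = 1)
    (g : Matrix.SpecialLinearGroup (Fin k) F) :
    ((conjSL M M' h1 h2 g : Matrix.SpecialLinearGroup (Fin k) F) : Matrix (Fin k) (Fin k) F) =
      M * (g : Matrix (Fin k) (Fin k) F) * M' := rfl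

theorem conjSL_conjSL {k : ℕ} (M M' : Matrix (Fin k) (Fin k) F) (h1 : M * M' = 1)
    (h2 : M' * M = 1) (g : Matrix.SpecialLinearGroup (Fin k) F) :
    conjSL M M' h1 h2 (conjSL M' M h2 h1 g) = g := by
  apply Subtype.ext
  rw [conjSL_coe, conjSL_coe]
  calc M * (M' * (g : Matrix (Fin k) (Fin k) F) * M) * M'
      = (M * M') * (g : Matrix (Fin k) (Fin k) F) * (M * M') := by
        simp only [Matrix.mul_assoc]
    _ = (g : Matrix (Fin k) (Fin k) F) := by rw [h1, Matrix.one_mul, Matrix.mul_one]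

/-- The general statement: two regular unipotents generating `SL_{k+1}(F)` give `J` and a
`GL`-conjugate of `J` generating it. -/
theorem levi_of_pair (k : ℕ) (u v : Matrix.SpecialLinearGroup (Fin (k + 1)) F)
    (hun : IsNilpotent ((u : Matrix (Fin (k + 1)) (Fin (k + 1)) F) - 1))
    (huk : ((u : Matrix (Fin (k + 1)) (Fin (k + 1)) F) - 1) ^ k ≠ 0)
    (hvn : IsNilpotent ((v : Matrix (Fin (k + 1)) (Fin (k + 1)) F) - 1))
    (hvk : ((v : Matrix (Fin (k + 1)) (Fin (k + 1)) F) - 1) ^ k ≠ 0)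
    (hgen : Subgroup.closure ({u, v} : Set (Matrix.SpecialLinearGroup (Fin (k + 1)) F)) = ⊤) :
    ∃ (M M' : Matrix (Fin (k + 1)) (Fin (k + 1)) F)
      (J₂ : Matrix.SpecialLinearGroup (Fin (k + 1)) F),
      M * M' = 1 ∧ M' * M = 1 ∧
      (J₂ : Matrix (Fin (k + 1)) (Fin (k + 1)) F) = M * uniM (k + 1) (1 : F) * M' ∧
      Subgroup.closure ({uniSL (k + 1) (1 : F), J₂} :
        Set (Matrix.SpecialLinearGroup (Fin (k + 1)) F)) = ⊤ := by
  obtain ⟨M₁, M₁', h11, h12, hu⟩ := Cfsg.Agent.H28.SpR.jordan_conj k _ hun huk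
  obtain ⟨M₂, M₂', h21, h22, hv⟩ := Cfsg.Agent.H28.SpR.jordan_conj k _ hvn hvk
  -- ψ = conjugation by M₁, ψ' its inverse
  have hJ₂ : ((conjSL M₁' M₁ h12 h11 v : Matrix.SpecialLinearGroup (Fin (k + 1)) F) :
      Matrix (Fin (k + 1)) (Fin (k + 1)) F) =
      (M₁' * M₂) * uniM (k + 1) (1 : F) * (M₂' * M₁) := by
    rw [conjSL_coe, hv]; simp only [Matrix.mul_assoc]
  have hJ : conjSL M₁' M₁ h12 h11 u = uniSL (k + 1) (1 : F) := by
    apply Subtype.ext
    rw [conjSL_coe, hu, uniSL_coe]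
    calc M₁' * (M₁ * uniM (k + 1) (1 : F) * M₁') * M₁
        = (M₁' * M₁) * uniM (k + 1) (1 : F) * (M₁' * M₁) := by simp only [Matrix.mul_assoc]
      _ = uniM (k + 1) (1 : F) := by rw [h12, Matrix.one_mul, Matrix.mul_one]
  refine ⟨M₁' * M₂, M₂' * M₁, conjSL M₁' M₁ h12 h11 v, ?_, ?_, hJ₂, ?_⟩
  · calc M₁' * M₂ * (M₂' * M₁) = M₁' * (M₂ * M₂') * M₁ := by simp only [Matrix.mul_assoc]
      _ = 1 := by rw [h21, Matrix.mul_one, h12]
  · calc M₂' * M₁ * (M₁' * M₂) = M₂' * (M₁ * M₁') * M₂ := by simp only [Matrix.mul_assoc]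
      _ = 1 := by rw [h11, Matrix.mul_one, h22]
  · rw [← hJ]
    have himg : ({conjSL M₁' M₁ h12 h11 u, conjSL M₁' M₁ h12 h11 v} :
        Set (Matrix.SpecialLinearGroup (Fin (k + 1)) F)) =
        (conjSL M₁' M₁ h12 h11) '' {u, v} := by
      rw [Set.image_pair]
    rw [himg, ← MonoidHom.map_closure, hgen]
    apply Subgroup.map_top_of_surjective
    intro g
    exact ⟨conjSL M₁ M₁' h11 h12 g, conjSL_conjSL M₁' M₁ h12 h11 g⟩

/-- Conjugates of regular unipotents are regular unipotent. -/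
theorem regular_conj {k : ℕ} (u g : Matrix.SpecialLinearGroup (Fin k) F) (j : ℕ)
    (hun : IsNilpotent ((u : Matrix (Fin k) (Fin k) F) - 1))
    (huk : ((u : Matrix (Fin k) (Fin k) F) - 1) ^ j ≠ 0) :
    IsNilpotent (((g * u * g⁻¹ : Matrix.SpecialLinearGroup (Fin k) F) :
      Matrix (Fin k) (Fin k) F) - 1) ∧
    (((g * u * g⁻¹ : Matrix.SpecialLinearGroup (Fin k) F) :
      Matrix (Fin k) (Fin k) F) - 1) ^ j ≠ 0 := by
  have hg1 : (g : Matrix (Fin k) (Fin k) F) * ((g⁻¹ : Matrix.SpecialLinearGroup (Fin k) F) :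
      Matrix (Fin k) (Fin k) F) = 1 := by
    rw [← Matrix.SpecialLinearGroup.coe_mul, mul_inv_cancel, Matrix.SpecialLinearGroup.coe_one]
  have hg2 : ((g⁻¹ : Matrix.SpecialLinearGroup (Fin k) F) : Matrix (Fin k) (Fin k) F) *
      (g : Matrix (Fin k) (Fin k) F) = 1 := by
    rw [← Matrix.SpecialLinearGroup.coe_mul, inv_mul_cancel, Matrix.SpecialLinearGroup.coe_one]
  have hsub : ((g * u * g⁻¹ : Matrix.SpecialLinearGroup (Fin k) F) :
      Matrix (Fin k) (Fin k) F) - 1 =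
      (g : Matrix (Fin k) (Fin k) F) * ((u : Matrix (Fin k) (Fin k) F) - 1) *
        ((g⁻¹ : Matrix.SpecialLinearGroup (Fin k) F) : Matrix (Fin k) (Fin k) F) := by
    rw [Matrix.SpecialLinearGroup.coe_mul, Matrix.SpecialLinearGroup.coe_mul, Matrix.mul_sub,
      Matrix.sub_mul, Matrix.mul_one, hg1]
  have hpow : ∀ i : ℕ, ((g : Matrix (Fin k) (Fin k) F) * ((u : Matrix (Fin k) (Fin k) F) - 1) *
      ((g⁻¹ : Matrix.SpecialLinearGroup (Fin k) F) : Matrix (Fin k) (Fin k) F)) ^ i =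
      (g : Matrix (Fin k) (Fin k) F) * ((u : Matrix (Fin k) (Fin k) F) - 1) ^ i *
        ((g⁻¹ : Matrix.SpecialLinearGroup (Fin k) F) : Matrix (Fin k) (Fin k) F) := by
    intro i
    induction i with
    | zero => rw [pow_zero, pow_zero, Matrix.mul_one, hg1]
    | succ i ih =>
      rw [pow_succ, ih, pow_succ]
      calc (g : Matrix (Fin k) (Fin k) F) * ((u : Matrix (Fin k) (Fin k) F) - 1) ^ i *
            ((g⁻¹ : Matrix.SpecialLinearGroup (Fin k) F) : Matrix (Fin k) (Fin k) F) *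
            ((g : Matrix (Fin k) (Fin k) F) * ((u : Matrix (Fin k) (Fin k) F) - 1) *
              ((g⁻¹ : Matrix.SpecialLinearGroup (Fin k) F) : Matrix (Fin k) (Fin k) F))
          = (g : Matrix (Fin k) (Fin k) F) * ((u : Matrix (Fin k) (Fin k) F) - 1) ^ i *
            (((g⁻¹ : Matrix.SpecialLinearGroup (Fin k) F) : Matrix (Fin k) (Fin k) F) *
              (g : Matrix (Fin k) (Fin k) F)) * ((u : Matrix (Fin k) (Fin k) F) - 1) *
              ((g⁻¹ : Matrix.SpecialLinearGroup (Fin k) F) : Matrix (Fin k) (Fin k) F) := by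
            simp only [Matrix.mul_assoc]
        _ = _ := by rw [hg2, Matrix.mul_one]; simp only [Matrix.mul_assoc]
  rw [hsub]
  constructor
  · obtain ⟨i, hi⟩ := hun
    exact ⟨i, by rw [hpow, hi, Matrix.mul_zero, Matrix.zero_mul]⟩
  · intro h0
    apply huk
    rw [hpow] at h0
    have : ((g⁻¹ : Matrix.SpecialLinearGroup (Fin k) F) : Matrix (Fin k) (Fin k) F) *
        ((g : Matrix (Fin k) (Fin k) F) * ((u : Matrix (Fin k) (Fin k) F) - 1) ^ j *
        ((g⁻¹ : Matrix.SpecialLinearGroup (Fin k) F) : Matrix (Fin k) (Fin k) F)) *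
        (g : Matrix (Fin k) (Fin k) F) = 0 := by
      rw [h0, Matrix.mul_zero, Matrix.zero_mul]
    rw [← this]
    calc ((u : Matrix (Fin k) (Fin k) F) - 1) ^ j
        = 1 * ((u : Matrix (Fin k) (Fin k) F) - 1) ^ j * 1 := by
          rw [Matrix.one_mul, Matrix.mul_one]
      _ = _ := by rw [← hg2]; simp only [Matrix.mul_assoc]

/-- S2281-LEVI. -/
theorem levi_gen [Fintype F] (m : ℕ) :
    ∃ (M M' : Matrix (Fin (m + 3)) (Fin (m + 3)) F)
      (J₂ : Matrix.SpecialLinearGroup (Fin (m + 3)) F),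
      M * M' = 1 ∧ M' * M = 1 ∧
      (J₂ : Matrix (Fin (m + 3)) (Fin (m + 3)) F) = M * uniM (m + 3) (1 : F) * M' ∧
      Subgroup.closure ({uniSL (m + 3) (1 : F), J₂} :
        Set (Matrix.SpecialLinearGroup (Fin (m + 3)) F)) = ⊤ := by
  rcases m with _ | m'
  · obtain ⟨u, g, hun, huk, hgen⟩ := Cfsg.Agent.H97.RG3.sl3_two_regular (F := F)
    obtain ⟨hvn, hvk⟩ := regular_conj u g (3 - 1) hun huk
    exact levi_of_pair 2 u (g * u * g⁻¹) hun huk hvn hvk hgen
  · obtain ⟨u, v, ⟨hun, huk⟩, ⟨hvn, hvk⟩, hgen⟩ := (Cfsg.Agent.H44.comp_main (F := F) m').1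
    exact levi_of_pair (m' + 3) u v hun huk hvn hvk hgen

example [Fintype F] (m : ℕ) :
    ∃ (M M' : Matrix (Fin (m + 3)) (Fin (m + 3)) F)
      (J₂ : Matrix.SpecialLinearGroup (Fin (m + 3)) F),
      M * M' = 1 ∧ M' * M = 1 ∧
      (J₂ : Matrix (Fin (m + 3)) (Fin (m + 3)) F) = M * uniM (m + 3) (1 : F) * M' ∧
      Subgroup.closure ({uniSL (m + 3) (1 : F), J₂} :
        Set (Matrix.SpecialLinearGroup (Fin (m + 3)) F)) = ⊤ := levi_gen m

end Cfsg.Agent.H44.SpR
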