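import Mathlib
import Cfsg.Agent.H97.SuRDefs
import Cfsg.Agent.S0801
import Cfsg.Agent.H44.SpRLevi

/-!
# S2282-LEVI2 (helper44, for helper97): in odd characteristic `SL_2(F)` is generated by the
Jordan block and one `GL_2`-conjugate of it (Dickson, S0801).
-/

set_option autoImplicit false

namespace Cfsg.Agent.H44.SuR

open Matrix Cfsg.Agent.H45.U Cfsg.Agent.H97.SuR

variable {F : Type*} [Field F]

theorem uniM_two : Cfsg.Agent.H97.SpR.uniM 2 (1 : F) = !![1, 1; 0, 1] := by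
  ext i j
  fin_cases i <;> fin_cases j <;> simp [Cfsg.Agent.H97.SpR.uniM, Cfsg.Agent.H97.SpR.shiftN]

/-- A generator of `Fˣ` generates `F` as a field and does not square to `-1` when `|F| = 9`. -/
theorem exists_gen [Fintype F] :
    ∃ lam : F, lam ≠ 0 ∧ Subfield.closure ({lam} : Set F) = ⊤ ∧
      ¬ (Fintype.card F = 9 ∧ lam ^ 2 = -1) := by
  classical
  obtain ⟨g, hg⟩ := IsCyclic.exists_generator (α := Fˣ)
  refine ⟨(g : F), g.ne_zero, ?_, ?_⟩
  · rw [eq_top_iff]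
    intro x _
    by_cases hx : x = 0
    · rw [hx]; exact zero_mem _
    · obtain ⟨n, hn⟩ := Subgroup.mem_zpowers_iff.1 (hg (Units.mk0 x hx))
      have hx' : x = ((g ^ n : Fˣ) : F) := by rw [hn]; rfl
      rw [hx', Units.val_zpow_eq_zpow_val]
      exact zpow_mem (Subfield.subset_closure (Set.mem_singleton _)) n
  · rintro ⟨h9, hsq⟩
    have hord : orderOf g = 8 := by
      rw [orderOf_eq_card_of_forall_mem_zpowers hg, Nat.card_eq_fintype_card, Fintype.card_units,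
        h9]
    have h4 : g ^ 4 = 1 := by
      apply Units.ext
      rw [Units.val_pow_eq_pow_val, Units.val_one]
      have : (g : F) ^ 4 = ((g : F) ^ 2) ^ 2 := by ring
      rw [this, hsq]
      ring
    have := orderOf_dvd_of_pow_eq_one h4
    rw [hord] at this
    omega

/-- S2282-LEVI2. -/
theorem levi_two_odd [Fintype F] (h2 : (2 : F) ≠ 0) :
    ∃ (M M' : Matrix (Fin 2) (Fin 2) F) (J₂ : Matrix.SpecialLinearGroup (Fin 2) F),
      M * M' = 1 ∧ M' * M = 1 ∧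
      (J₂ : Matrix (Fin 2) (Fin 2) F) = M * Cfsg.Agent.H97.SpR.uniM 2 (1 : F) * M' ∧
      Subgroup.closure ({Cfsg.Agent.H97.SpR.uniSL 2 (1 : F), J₂} :
        Set (Matrix.SpecialLinearGroup (Fin 2) F)) = ⊤ := by
  obtain ⟨lam, hlam, hgen, hex⟩ := exists_gen (F := F)
  have hcl : Subgroup.closure {g : Matrix.SpecialLinearGroup (Fin 2) F |
      (g : Matrix (Fin 2) (Fin 2) F) = !![1, 0; 1, 1] ∨
      (g : Matrix (Fin 2) (Fin 2) F) = !![1, lam; 0, 1]} = ⊤ := by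
    rcases Cfsg.Agent.S0801.result h2 lam hlam hgen with h | h
    · exact h.1
    · exact absurd ⟨h.1, h.2.1⟩ hex
  have hD1 : (!![1, 0; 0, lam] : Matrix (Fin 2) (Fin 2) F) * !![1, 0; 0, lam⁻¹] = 1 := by
    rw [Matrix.mul_fin_two, Matrix.one_fin_two]
    simp [hlam]
  have hD2 : (!![1, 0; 0, lam⁻¹] : Matrix (Fin 2) (Fin 2) F) * !![1, 0; 0, lam] = 1 := by
    rw [Matrix.mul_fin_two, Matrix.one_fin_two]
    simp [hlam]
  obtain ⟨J₂, hJ₂⟩ : ∃ J₂ : Matrix.SpecialLinearGroup (Fin 2) F,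
      (J₂ : Matrix (Fin 2) (Fin 2) F) = !![1, 0; lam, 1] :=
    ⟨⟨!![1, 0; lam, 1], by rw [Matrix.det_fin_two_of]; ring⟩, rfl⟩
  refine ⟨!![0, 1; lam, 0], !![0, lam⁻¹; 1, 0], J₂, ?_, ?_, ?_, ?_⟩
  · rw [Matrix.mul_fin_two, Matrix.one_fin_two]
    simp [hlam]
  · rw [Matrix.mul_fin_two, Matrix.one_fin_two]
    simp [hlam]
  · rw [hJ₂, uniM_two, Matrix.mul_fin_two, Matrix.mul_fin_two]
    simp [hlam]
  · rw [eq_top_iff]
    have hsurj : Function.Surjective (Cfsg.Agent.H44.SpR.conjSL (!![1, 0; 0, lam] : Matrix (Fin 2) (Fin 2) F)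
        !![1, 0; 0, lam⁻¹] hD1 hD2) := fun g =>
      ⟨Cfsg.Agent.H44.SpR.conjSL _ _ hD2 hD1 g, Cfsg.Agent.H44.SpR.conjSL_conjSL _ _ hD1 hD2 g⟩
    rw [← Subgroup.map_top_of_surjective _ hsurj, ← hcl, MonoidHom.map_closure]
    apply Subgroup.closure_mono
    rintro _ ⟨g, hg, rfl⟩
    rcases hg with hg | hg
    · right
      show Cfsg.Agent.H44.SpR.conjSL _ _ hD1 hD2 g = J₂
      apply Subtype.ext
      rw [Cfsg.Agent.H44.SpR.conjSL_coe, hg, hJ₂, Matrix.mul_fin_two, Matrix.mul_fin_two]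
      simp [hlam]
    · left
      show Cfsg.Agent.H44.SpR.conjSL _ _ hD1 hD2 g = Cfsg.Agent.H97.SpR.uniSL 2 (1 : F)
      apply Subtype.ext
      rw [Cfsg.Agent.H44.SpR.conjSL_coe, hg, Cfsg.Agent.H97.SpR.uniSL_coe, uniM_two, Matrix.mul_fin_two,
        Matrix.mul_fin_two]
      simp [hlam]

example [Fintype F] (h2 : (2 : F) ≠ 0) :
    ∃ (M M' : Matrix (Fin 2) (Fin 2) F) (J₂ : Matrix.SpecialLinearGroup (Fin 2) F),
      M * M' = 1 ∧ M' * M = 1 ∧
      (J₂ : Matrix (Fin 2) (Fin 2) F) = M * Cfsg.Agent.H97.SpR.uniM 2 (1 : F) * M' ∧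
      Subgroup.closure ({Cfsg.Agent.H97.SpR.uniSL 2 (1 : F), J₂} :
        Set (Matrix.SpecialLinearGroup (Fin 2) F)) = ⊤ := levi_two_odd h2

end Cfsg.Agent.H44.SuR
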