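import Mathlib
import Cfsg.Agent.H97.SuRDefs
import Cfsg.Agent.H98.UIso
import Cfsg.Agent.H44.UnipTransfer

/-!
# S2282-TRANSFER (helper44, for helper97): from the block model `UH σ (Fin k) (Fin 1)` to
`Cfsg.SU n F q`, `n = 2k + 1`.
-/

set_option autoImplicit false

namespace Cfsg.Agent.H44.SuR

open Matrix Cfsg.Agent.H45.U Cfsg.Agent.H97.SuR

variable {F : Type*} [Field F]

/-- S2282-TRANSFER. -/
theorem transfer [Fintype F] {q : ℕ} (hF : Fintype.card F = q ^ 2) (k n : ℕ)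
    (hn : n = k + (k + 1))
    (h : ∃ u g h : ↥(UH (Cfsg.Agent.H17.frobHom hF) (Fin k) (Fin 1)),
      (IsNilpotent (u.1.1 - 1) ∧ (u.1.1 - 1) ^ (2 * k) ≠ 0) ∧
      Subgroup.closure ({u, g * u * g⁻¹, h * u * h⁻¹} :
        Set ↥(UH (Cfsg.Agent.H17.frobHom hF) (Fin k) (Fin 1))) = ⊤) :
    ∃ u g h : ↥(Cfsg.SU n F q),
      (IsNilpotent (((u : Matrix.SpecialLinearGroup (Fin n) F) : Matrix (Fin n) (Fin n) F) - 1) ∧
        (((u : Matrix.SpecialLinearGroup (Fin n) F) : Matrix (Fin n) (Fin n) F) - 1) ^ (n - 1) ≠ 0) ∧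
      Subgroup.closure ({u, g * u * g⁻¹, h * u * h⁻¹} : Set ↥(Cfsg.SU n F q)) = ⊤ := by
  obtain ⟨Φ, P, -, hΦ⟩ := Cfsg.Agent.H98.U.uh_iso hF k 1 n hn
  obtain ⟨u, g, h, ⟨hnil, hpow⟩, hcl⟩ := h
  refine ⟨Φ u, Φ g, Φ h, ?_, ?_⟩
  · have hn1 : n - 1 = 2 * k := by omega
    rw [hn1]
    exact Cfsg.Agent.H44.UnipTransfer.regunip_intertwine
      (((Φ u : ↥(Cfsg.SU n F q)) : Matrix.SpecialLinearGroup (Fin n) F) :
        Matrix (Fin n) (Fin n) F) u.1.1 P (fun v => hΦ u v) (2 * k) hnil hpow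
  · have himg : ({Φ u, Φ g * Φ u * (Φ g)⁻¹, Φ h * Φ u * (Φ h)⁻¹} : Set ↥(Cfsg.SU n F q)) =
        (Φ.toMonoidHom : _ →* ↥(Cfsg.SU n F q)) '' {u, g * u * g⁻¹, h * u * h⁻¹} := by
      rw [Set.image_insert_eq, Set.image_pair]
      simp
    rw [himg, ← MonoidHom.map_closure, hcl]
    exact Subgroup.map_top_of_surjective _ Φ.surjective

example [Fintype F] {q : ℕ} (hF : Fintype.card F = q ^ 2) (k n : ℕ)
    (hn : n = k + (k + 1))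
    (h : ∃ u g h : ↥(UH (Cfsg.Agent.H17.frobHom hF) (Fin k) (Fin 1)),
      (IsNilpotent (u.1.1 - 1) ∧ (u.1.1 - 1) ^ (2 * k) ≠ 0) ∧
      Subgroup.closure ({u, g * u * g⁻¹, h * u * h⁻¹} :
        Set ↥(UH (Cfsg.Agent.H17.frobHom hF) (Fin k) (Fin 1))) = ⊤) :
    ∃ u g h : ↥(Cfsg.SU n F q),
      (IsNilpotent (((u : Matrix.SpecialLinearGroup (Fin n) F) : Matrix (Fin n) (Fin n) F) - 1) ∧
        (((u : Matrix.SpecialLinearGroup (Fin n) F) : Matrix (Fin n) (Fin n) F) - 1) ^ (n - 1) ≠ 0) ∧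
      Subgroup.closure ({u, g * u * g⁻¹, h * u * h⁻¹} : Set ↥(Cfsg.SU n F q)) = ⊤ :=
  transfer hF k n hn h

end Cfsg.Agent.H44.SuR
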