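import Cfsg.Agent.H64.TtDefs2

/-!
# TT-K3 (S3685): the relations for `k = 3`
-/

set_option autoImplicit false

namespace Cfsg.Agent.H44.Tt

open Cfsg.Agent.H64.Tt

universe u

section Core
variable {P : Type u} [Group P]

/-- elements of `closure {b, c}` for commuting involutions -/
theorem mem_pair_closure {b c : P} (hb : b * b = 1) (hc : c * c = 1) (hbc : b * c = c * b)
    {n : P} (hn : n ∈ Subgroup.closure ({b, c} : Set P)) :
    n = 1 ∨ n = b ∨ n = c ∨ n = b * c := by
  have hbi : b⁻¹ = b := inv_eq_of_mul_eq_one_right hb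
  have hci : c⁻¹ = c := inv_eq_of_mul_eq_one_right hc
  have h1 : b * (b * c) = c := by rw [← mul_assoc, hb, one_mul]
  have h2 : c * (b * c) = b := by rw [hbc, ← mul_assoc, hc, one_mul]
  have h3 : b * c * b = c := by rw [hbc, mul_assoc, hb, mul_one]
  have h4 : b * c * c = b := by rw [mul_assoc, hc, mul_one]
  have h5 : b * c * (b * c) = 1 := by rw [← mul_assoc, h3, hc]
  induction hn using Subgroup.closure_induction with
  | mem y hy =>
    simp only [Set.mem_insert_iff, Set.mem_singleton_iff] at hy
    rcases hy with hy | hy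
    · right; left; exact hy
    · right; right; left; exact hy
  | one => left; rfl
  | mul y z _ _ hy hz =>
    rcases hy with hy | hy | hy | hy
    · rw [hy, one_mul]; exact hz
    · rcases hz with hz | hz | hz | hz
      · rw [hz, mul_one]; exact Or.inr (Or.inl hy)
      · left; rw [hy, hz, hb]
      · right; right; right; rw [hy, hz]
      · right; right; left; rw [hy, hz, h1]
    · rcases hz with hz | hz | hz | hz
      · rw [hz, mul_one]; exact Or.inr (Or.inr (Or.inl hy))
      · right; right; right; rw [hy, hz, hbc]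
      · left; rw [hy, hz, hc]
      · right; left; rw [hy, hz, h2]
    · rcases hz with hz | hz | hz | hz
      · rw [hz, mul_one]; exact Or.inr (Or.inr (Or.inr hy))
      · right; right; left; rw [hy, hz, h3]
      · right; left; rw [hy, hz, h4]
      · left; rw [hy, hz, h5]
  | inv y _ hy =>
    rcases hy with hy | hy | hy | hy
    · left; rw [hy, inv_one]
    · right; left; rw [hy, hbi]
    · right; right; left; rw [hy, hci]
    · right; right; right; rw [hy, mul_inv_rev, hbi, hci, hbc]

/-- the abstract core of K3: a group of order 24 generated by four involutions with the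
`S₄`-like relations has `(a d)^3 = 1`. -/
theorem k3_core [Finite P] (hP : Nat.card P = 24) (a b c d : P)
    (ha : a * a = 1) (hb : b * b = 1) (hc : c * c = 1) (hd : d * d = 1)
    (hab : a * b = b * a) (hbc : b * c = c * b) (hcd : c * d = d * c)
    (hac : a * c * a = b * c) (hdb : d * b * d = b * c)
    (hgen : Subgroup.closure ({a, b, c, d} : Set P) = ⊤)
    (hb1 : b ≠ 1) (hc1 : c ≠ 1) (hbc' : b ≠ c) :
    d * a * d = a * d * a := by
  have hai : a⁻¹ = a := inv_eq_of_mul_eq_one_right ha
  have hci : c⁻¹ = c := inv_eq_of_mul_eq_one_right hc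
  have hdi : d⁻¹ = d := inv_eq_of_mul_eq_one_right hd
  obtain ⟨N, hNdef⟩ : ∃ N : Subgroup P, N = Subgroup.closure ({b, c} : Set P) := ⟨_, rfl⟩
  have hbN : b ∈ N := by rw [hNdef]; exact Subgroup.subset_closure (by simp)
  have hcN : c ∈ N := by rw [hNdef]; exact Subgroup.subset_closure (by simp)
  have hNmem : ∀ n ∈ N, n = 1 ∨ n = b ∨ n = c ∨ n = b * c := by
    intro n hn
    rw [hNdef] at hn
    exact mem_pair_closure hb hc hbc hn
  -- conjugation by an involution
  have hconj : ∀ p : P, p * p = 1 → p * b * p ∈ N → p * c * p ∈ N →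
      ∀ n ∈ N, p * n * p ∈ N := by
    intro p hp h1 h2 n hn
    rcases hNmem n hn with h | h | h | h
    · rw [h, mul_one, hp]; exact N.one_mem
    · rw [h]; exact h1
    · rw [h]; exact h2
    · have e : p * (b * c) * p = (p * b * p) * (p * c * p) := by
        calc p * (b * c) * p = p * b * 1 * c * p := by simp only [mul_assoc, mul_one, one_mul]
          _ = p * b * (p * p) * c * p := by rw [hp]
          _ = (p * b * p) * (p * c * p) := by simp only [mul_assoc]
      rw [h, e]; exact N.mul_mem h1 h2
  have hnormal : N.Normal := by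
    rw [← Subgroup.normalizer_eq_top_iff, eq_top_iff, ← hgen, Subgroup.closure_le]
    have key : ∀ p : P, p * p = 1 → p * b * p ∈ N → p * c * p ∈ N →
        p ∈ Subgroup.normalizer (N : Set P) := by
      intro p hp h1 h2
      have hpi : p⁻¹ = p := inv_eq_of_mul_eq_one_right hp
      rw [Subgroup.mem_normalizer_iff]
      intro n
      rw [hpi]
      constructor
      · exact hconj p hp h1 h2 n
      · intro h
        have h' := hconj p hp h1 h2 _ h
        have e : p * (p * n * p) * p = n := by
          calc p * (p * n * p) * p = (p * p) * n * (p * p) := by simp only [mul_assoc]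
            _ = n := by rw [hp, one_mul, mul_one]
        rwa [e] at h'
    intro p hp
    simp only [Set.mem_insert_iff, Set.mem_singleton_iff] at hp
    rcases hp with h | h | h | h
    · rw [h]
      apply key _ ha
      · have e : a * b * a = b := by rw [hab, mul_assoc, ha, mul_one]
        rw [e]; exact hbN
      · rw [hac]; exact N.mul_mem hbN hcN
    · rw [h]
      apply key _ hb
      · have e : b * b * b = b := by rw [hb, one_mul]
        rw [e]; exact hbN
      · have e : b * c * b = c := by rw [hbc, mul_assoc, hb, mul_one]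
        rw [e]; exact hcN
    · rw [h]
      apply key _ hc
      · have e : c * b * c = b := by rw [← hbc, mul_assoc, hc, mul_one]
        rw [e]; exact hbN
      · have e : c * c * c = c := by rw [hc, one_mul]
        rw [e]; exact hcN
    · rw [h]
      apply key _ hd
      · rw [hdb]; exact N.mul_mem hbN hcN
      · have e : d * c * d = c := by rw [← hcd, mul_assoc, hd, mul_one]
        rw [e]; exact hcN
  -- the centraliser
  obtain ⟨C, hCdef⟩ : ∃ C : Subgroup P, C = Subgroup.centralizer ({b, c} : Set P) := ⟨_, rfl⟩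
  have hCmem : ∀ g : P, g ∈ C ↔ (b * g = g * b ∧ c * g = g * c) := by
    intro g
    rw [hCdef, Subgroup.mem_centralizer_iff]
    constructor
    · intro h; exact ⟨h b (by simp), h c (by simp)⟩
    · rintro ⟨h1, h2⟩ n hn
      simp only [Set.mem_insert_iff, Set.mem_singleton_iff] at hn
      rcases hn with h | h
      · rw [h]; exact h1
      · rw [h]; exact h2
  have hNC : N ≤ C := by
    rw [hNdef, Subgroup.closure_le]
    intro n hn
    simp only [Set.mem_insert_iff, Set.mem_singleton_iff] at hn
    rcases hn with h | h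
    · rw [h]; exact (hCmem b).2 ⟨rfl, hbc.symm⟩
    · rw [h]; exact (hCmem c).2 ⟨hbc, rfl⟩
  have hCN : ∀ g ∈ C, ∀ n ∈ N, n * g = g * n := by
    intro g hg n hn
    obtain ⟨h1, h2⟩ := (hCmem g).1 hg
    rcases hNmem n hn with h | h | h | h
    · rw [h, one_mul, mul_one]
    · rw [h]; exact h1
    · rw [h]; exact h2
    · rw [h]
      calc b * c * g = b * (c * g) := mul_assoc _ _ _
        _ = b * (g * c) := by rw [h2]
        _ = (b * g) * c := (mul_assoc _ _ _).symm
        _ = (g * b) * c := by rw [h1]
        _ = g * (b * c) := mul_assoc _ _ _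
  have hCnormal : C.Normal := by
    constructor
    intro g hg p
    rw [hCmem]
    have hkey : ∀ n ∈ N, n * (p * g * p⁻¹) = (p * g * p⁻¹) * n := by
      intro n hn
      have hn' : p⁻¹ * n * p ∈ N := by
        have := hnormal.conj_mem n hn p⁻¹
        rwa [inv_inv] at this
      have h := hCN g hg _ hn'
      calc n * (p * g * p⁻¹) = p * ((p⁻¹ * n * p) * g) * p⁻¹ := by group
        _ = p * (g * (p⁻¹ * n * p)) * p⁻¹ := by rw [h]
        _ = (p * g * p⁻¹) * n := by group
    exact ⟨hkey b hbN, hkey c hcN⟩
  have haC : a ∉ C := by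
    intro h
    obtain ⟨-, h2⟩ := (hCmem a).1 h
    have e : a * c * a = c := by rw [← h2, mul_assoc, ha, mul_one]
    rw [hac] at e
    exact hb1 (mul_right_cancel (e.trans (one_mul c).symm))
  have hdC : d ∉ C := by
    intro h
    obtain ⟨h1, -⟩ := (hCmem d).1 h
    have e : d * b * d = b := by rw [← h1, mul_assoc, hd, mul_one]
    rw [hdb] at e
    exact hc1 (mul_left_cancel (e.trans (mul_one b).symm))
  have hdb' : d * b = b * c * d := by rw [← hdb, mul_assoc (d * b) d d, hd, mul_one]
  have hac' : a * c = b * c * a := by rw [← hac, mul_assoc (a * c) a a, ha, mul_one]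
  have h2' : c * (b * c) = b := by rw [hbc, ← mul_assoc, hc, one_mul]
  obtain ⟨w, hw⟩ : ∃ w : P, w = a * d := ⟨_, rfl⟩
  have hub : w * b = c * w := by
    rw [hw]
    calc a * d * b = a * (d * b) := mul_assoc _ _ _
      _ = a * (b * c * d) := by rw [hdb']
      _ = (a * b) * c * d := by simp only [mul_assoc]
      _ = (b * a) * c * d := by rw [hab]
      _ = b * (a * c) * d := by simp only [mul_assoc]
      _ = b * (b * c * a) * d := by rw [hac']
      _ = (b * b) * c * a * d := by simp only [mul_assoc]
      _ = c * (a * d) := by rw [hb, one_mul, mul_assoc]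
  have huc : w * c = b * c * w := by
    rw [hw]
    calc a * d * c = a * (d * c) := mul_assoc _ _ _
      _ = a * (c * d) := by rw [hcd]
      _ = (a * c) * d := (mul_assoc _ _ _).symm
      _ = (b * c * a) * d := by rw [hac']
      _ = b * c * (a * d) := mul_assoc _ _ _
  have hubc : w * (b * c) = b * w := by
    calc w * (b * c) = (w * b) * c := (mul_assoc _ _ _).symm
      _ = c * w * c := by rw [hub]
      _ = c * (w * c) := mul_assoc _ _ _
      _ = c * (b * c * w) := by rw [huc]
      _ = (c * (b * c)) * w := (mul_assoc _ _ _).symm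
      _ = b * w := by rw [h2']
  have huC : w ∉ C := by
    intro h
    obtain ⟨h1, -⟩ := (hCmem w).1 h
    rw [hub] at h1
    exact hbc' (mul_right_cancel h1)
  -- cardinalities
  have hNset : (N : Set P) = {1, b, c, b * c} := by
    ext n
    simp only [SetLike.mem_coe, Set.mem_insert_iff, Set.mem_singleton_iff]
    constructor
    · exact hNmem n
    · rintro (h | h | h | h)
      · rw [h]; exact N.one_mem
      · rw [h]; exact hbN
      · rw [h]; exact hcN
      · rw [h]; exact N.mul_mem hbN hcN
  have hN4 : Nat.card N = 4 := by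
    have h1 : Nat.card N = (N : Set P).ncard := Nat.card_coe_set_eq (N : Set P)
    rw [h1, hNset]
    have n1 : (1 : P) ∉ ({b, c, b * c} : Set P) := by
      simp only [Set.mem_insert_iff, Set.mem_singleton_iff, not_or]
      refine ⟨fun h => hb1 h.symm, fun h => hc1 h.symm, fun h => ?_⟩
      exact hbc' ((eq_inv_of_mul_eq_one_left h.symm).trans hci)
    have n2 : b ∉ ({c, b * c} : Set P) := by
      simp only [Set.mem_insert_iff, Set.mem_singleton_iff, not_or]
      refine ⟨hbc', fun h => hc1 ?_⟩
      exact mul_left_cancel (((mul_one b).trans h).symm)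
    have n3 : c ≠ b * c := fun h => hb1 (mul_right_cancel (((one_mul c).trans h).symm))
    rw [Set.ncard_insert_of_notMem n1, Set.ncard_insert_of_notMem n2, Set.ncard_pair n3]
  have hNidx : N.index = 6 := by
    have h := N.card_mul_index
    rw [hN4, hP] at h
    omega
  have hCdvd : C.index ∣ 6 := hNidx ▸ Subgroup.index_dvd_of_le hNC
  have hCidx : C.index = 6 := by
    have h1 : C.index ≠ 1 := by
      intro h
      rw [Subgroup.index_eq_one] at h
      exact haC (h ▸ Subgroup.mem_top a)
    have h2 : C.index ≠ 2 := by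
      intro h
      apply huC
      rw [hw]
      exact (Subgroup.mul_mem_iff_of_index_two h).2
        ⟨fun h' => absurd h' haC, fun h' => absurd h' hdC⟩
    have h3 : C.index ≠ 3 := by
      intro h
      haveI := hCnormal
      have h' := C.pow_index_mem a
      rw [h] at h'
      have e : a ^ 3 = a := by rw [pow_succ, pow_two, ha, one_mul]
      rw [e] at h'
      exact haC h'
    have hmem : C.index ∈ Nat.divisors 6 := Nat.mem_divisors.2 ⟨hCdvd, by norm_num⟩
    have hdiv : Nat.divisors 6 = {1, 2, 3, 6} := by decide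
    rw [hdiv] at hmem
    simp only [Finset.mem_insert, Finset.mem_singleton] at hmem
    rcases hmem with h | h | h | h
    · exact absurd h h1
    · exact absurd h h2
    · exact absurd h h3
    · exact h
  have hC4 : Nat.card C = 4 := by
    have h := C.card_mul_index
    rw [hCidx, hP] at h
    omega
  have hCeqN : N = C := Subgroup.eq_of_le_of_card_ge hNC (by rw [hC4, hN4])
  have e1 : w * w * w * b = b * (w * w * w) := by
    calc w * w * w * b = w * w * (w * b) := by simp only [mul_assoc]
      _ = w * w * (c * w) := by rw [hub]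
      _ = w * (w * c) * w := by simp only [mul_assoc]
      _ = w * (b * c * w) * w := by rw [huc]
      _ = (w * (b * c)) * w * w := by simp only [mul_assoc]
      _ = b * w * w * w := by rw [hubc]
      _ = b * (w * w * w) := by simp only [mul_assoc]
  have e2 : w * w * w * c = c * (w * w * w) := by
    calc w * w * w * c = w * w * (w * c) := by simp only [mul_assoc]
      _ = w * w * (b * c * w) := by rw [huc]
      _ = w * (w * (b * c)) * w := by simp only [mul_assoc]
      _ = w * (b * w) * w := by rw [hubc]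
      _ = w * b * w * w := by simp only [mul_assoc]
      _ = c * w * w * w := by rw [hub]
      _ = c * (w * w * w) := by simp only [mul_assoc]
  have hw3N : w * w * w ∈ N := by
    rw [hCeqN]; exact (hCmem _).2 ⟨e1.symm, e2.symm⟩
  have hw3 : w * w * w = 1 := by
    rcases hNmem _ hw3N with h | h | h | h
    · exact h
    · exfalso
      have e : w * b = b * w := by rw [← h]; simp only [mul_assoc]
      rw [hub] at e
      exact hbc' (mul_right_cancel e).symm
    · exfalso
      have e : w * c = c * w := by rw [← h]; simp only [mul_assoc]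
      rw [huc] at e
      have e' := mul_right_cancel e
      exact hb1 (mul_right_cancel (e'.trans (one_mul c).symm))
    · exfalso
      have e : w * (b * c) = b * c * w := by rw [← h]; simp only [mul_assoc]
      rw [hubc] at e
      have e' := mul_right_cancel e
      exact hc1 (mul_left_cancel (e'.symm.trans (mul_one b).symm))
  have h' : (a * d * a) * (d * a * d) = 1 := by
    rw [← hw3, hw]; simp only [mul_assoc]
  have e := eq_inv_of_mul_eq_one_right h'
  rw [e, mul_inv_rev, mul_inv_rev, hai, hdi, mul_assoc]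

end Core

/-- TT-K3: the relations for `k = 3`. -/
theorem k3 (hcard : CardStmt.{u}) (hc1 : C1Stmt.{u}) (hsplit : SplitStmt.{u})
    (hcomm : CommStmt.{u}) (hc2 : C2Stmt.{u}) (hc3 : C3Stmt.{u}) (hc4 : C4Stmt.{u}) :
    K3Stmt.{u} := by
  intro G _ _ x g hT h24
  have hinv : ∀ i, (x i)⁻¹ = x i := fun i => inv_eq_of_mul_eq_one_right (hT.inv i)
  have hadj : ∀ i : ℤ, x i * x (i + 1) = x (i + 1) * x i := by
    intro i
    have h := hc1 x g 3 hT i (i + 1) (by omega) (by norm_num)
    rw [X_empty x (a := i + 1) (b := i + 1 - 1) (by omega), Subgroup.mem_bot] at h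
    exact mul_inv_eq_iff_eq_mul.1 (mul_inv_eq_one.1 h)
  have hab : x 0 * x 1 = x 1 * x 0 := by simpa using hadj 0
  have hbc : x 1 * x 2 = x 2 * x 1 := by simpa using hadj 1
  have hcd : x 2 * x 3 = x 3 * x 2 := by simpa using hadj 2
  obtain ⟨l, hl3, hlam⟩ := hc2 x g 3 hT (by norm_num)
  have hl2 : 2 * l ≤ 3 + 2 := hc3 x g 3 l hT hlam hl3
  have hl1 : 1 ≤ l := hlam.1
  have hl : l = 2 := by
    rcases Nat.lt_or_ge l 2 with h | h
    · exfalso
      have h1 : l = 1 := by omega
      subst h1
      apply hlam.2.2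
      simpa using hab
    · omega
  subst hl
  have hnc : x 0 * x 2 ≠ x 2 * x 0 := by
    have h := hlam.2.2
    simpa using h
  have h02 : x 0 * x 2 * x 0 * x 2 = x 1 := by
    have h := hc1 x g 3 hT 0 2 (by norm_num) (by norm_num)
    rw [hinv, hinv] at h
    have hX : X x (0 + 1) (2 - 1) = Subgroup.zpowers (x 1) := by
      unfold X
      rw [show ((0 : ℤ) + 1) = 1 by norm_num, show ((2 : ℤ) - 1) = 1 by norm_num, Set.Icc_self,
        Set.image_singleton, Subgroup.zpowers_eq_closure]
    rw [hX, Subgroup.mem_zpowers_iff] at h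
    obtain ⟨n, hn⟩ := h
    rcases Int.even_or_odd n with ⟨m, rfl⟩ | ⟨m, rfl⟩
    · exfalso
      have e : x 1 ^ (m + m) = 1 := by
        rw [← two_mul, zpow_mul, zpow_two, hT.inv 1, one_zpow]
      rw [e] at hn
      apply hnc
      have h' : x 0 * x 2 * (x 0 * x 2) = 1 := by rw [← mul_assoc]; exact hn.symm
      have e' := eq_inv_of_mul_eq_one_left h'
      rw [e', mul_inv_rev, hinv, hinv]
    · have e : x 1 ^ (2 * m + 1) = x 1 := by
        rw [zpow_add, zpow_mul, zpow_two, hT.inv 1, one_zpow, one_mul, zpow_one]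
      rw [e] at hn
      exact hn.symm
  have hs : ∀ i : ℤ, x (i + 1) = g * x i * g⁻¹ := fun i => (hT.shift i).symm
  have h1 : x 1 = g * x 0 * g⁻¹ := by simpa using hs 0
  have h2 : x 2 = g * x 1 * g⁻¹ := by simpa using hs 1
  have h3 : x 3 = g * x 2 * g⁻¹ := by simpa using hs 2
  have h13 : x 1 * x 3 * x 1 * x 3 = x 2 := by
    calc x 1 * x 3 * x 1 * x 3 = g * (x 0 * x 2 * x 0 * x 2) * g⁻¹ := by
          rw [h3, h1]; group
      _ = g * x 1 * g⁻¹ := by rw [h02]
      _ = x 2 := h2.symm
  have hx1 : x 1 ≠ 1 := by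
    intro h
    apply hnc
    have h' : x 0 * x 2 * (x 0 * x 2) = 1 := by rw [← mul_assoc, h02, h]
    have e' := eq_inv_of_mul_eq_one_left h'
    rw [e', mul_inv_rev, hinv, hinv]
  have hx2 : x 2 ≠ 1 := by
    intro h; apply hnc; rw [h, mul_one, one_mul]
  have hx12 : x 1 ≠ x 2 := by
    intro h; apply hnc; rw [← h]; exact hab
  have hac : x 0 * x 2 * x 0 = x 1 * x 2 := by
    have e := eq_mul_inv_of_mul_eq h02
    rwa [hinv] at e
  have hdb : x 3 * x 1 * x 3 = x 1 * x 2 := by
    have h13' : x 1 * (x 3 * x 1 * x 3) = x 2 := by rw [← h13]; simp only [mul_assoc]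
    have e := eq_inv_mul_of_mul_eq h13'
    rwa [hinv] at e
  have m0 : x 0 ∈ X x 0 3 := mem_X x (by norm_num) (by norm_num)
  have m1 : x 1 ∈ X x 0 3 := mem_X x (by norm_num) (by norm_num)
  have m2 : x 2 ∈ X x 0 3 := mem_X x (by norm_num) (by norm_num)
  have m3 : x 3 ∈ X x 0 3 := mem_X x (by norm_num) (by norm_num)
  have hgen : Subgroup.closure
      ({⟨x 0, m0⟩, ⟨x 1, m1⟩, ⟨x 2, m2⟩, ⟨x 3, m3⟩} : Set (X x 0 3)) = ⊤ := by
    rw [eq_top_iff]
    have h' : Subgroup.closure ((Subtype.val : X x 0 3 → G) ⁻¹' (x '' Set.Icc (0 : ℤ) 3)) = ⊤ :=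
      Subgroup.closure_closure_coe_preimage (k := x '' Set.Icc (0 : ℤ) 3)
    rw [← h']
    apply Subgroup.closure_mono
    rintro ⟨p, hp⟩ ⟨i, ⟨hi0, hi3⟩, hi⟩
    simp only [Set.mem_insert_iff, Set.mem_singleton_iff, Subtype.mk.injEq]
    have hi' : i = 0 ∨ i = 1 ∨ i = 2 ∨ i = 3 := by omega
    rcases hi' with rfl | rfl | rfl | rfl
    · left; exact hi.symm
    · right; left; exact hi.symm
    · right; right; left; exact hi.symm
    · right; right; right; exact hi.symm
  have hcore := k3_core (P := X x 0 3) h24 ⟨x 0, m0⟩ ⟨x 1, m1⟩ ⟨x 2, m2⟩ ⟨x 3, m3⟩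
    (Subtype.ext (hT.inv 0)) (Subtype.ext (hT.inv 1)) (Subtype.ext (hT.inv 2))
    (Subtype.ext (hT.inv 3))
    (Subtype.ext hab) (Subtype.ext hbc) (Subtype.ext hcd) (Subtype.ext hac) (Subtype.ext hdb) hgen
    (fun h => hx1 (congrArg Subtype.val h)) (fun h => hx2 (congrArg Subtype.val h))
    (fun h => hx12 (congrArg Subtype.val h))
  exact ⟨hab, h02, congrArg Subtype.val hcore⟩

example (hcard : CardStmt.{u}) (hc1 : C1Stmt.{u}) (hsplit : SplitStmt.{u})
    (hcomm : CommStmt.{u}) (hc2 : C2Stmt.{u}) (hc3 : C3Stmt.{u}) (hc4 : C4Stmt.{u}) :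
    ∀ {G : Type u} [Group G] [Finite G] (x : ℤ → G) (g : G), TData x g 3 →
    Nat.card (X x 0 3) = 24 →
    x 0 * x 1 = x 1 * x 0 ∧ x 0 * x 2 * x 0 * x 2 = x 1 ∧ x 3 * x 0 * x 3 = x 0 * x 3 * x 0 :=
  k3 hcard hc1 hsplit hcomm hc2 hc3 hc4

end Cfsg.Agent.H44.Tt
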