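import Mathlib
import Cfsg.Agent.H9.XPDefs

/-!
# XP-CENT (S5746, helper9's project XP): a matrix commuting with the 315 matrices `mu k` and
preserving the form is the identity.

Certificate route: 36 words in the `mu k` (the empty word, 14 single `mu k`, 20 products of two and
one product of three) span all `6 × 6` matrices over `K4`; every matrix unit is an explicit linear
combination of them (checked by `decide +kernel`), so `M` commutes with all matrix units and is
scalar; the form gives `l * l = 1`.  Data generated offline (Python, Gaussian elimination over `𝔽₄`).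
-/

set_option autoImplicit false

namespace Cfsg.Agent.H44.XP

open Cfsg.Agent.H9.PG Cfsg.Agent.H9.XP
open Cfsg.Agent.H94.HS (F4)
open scoped Matrix

/-- the product of the matrices `mu k`, `k` running through the word -/
def wm (w : List ℕ) : Matrix (Fin 6) (Fin 6) K4 := (w.map mu).prod

/-- 36 words whose products span all matrices -/
def wL : List (List ℕ) :=
  [[], [0], [1], [2], [3], [4], [5], [6], [7], [8], [10], [11], [13], [17], [21], [0, 1], [0, 2], [0, 4], [0, 6], [0, 8], [0, 11], [0, 13], [0, 17], [1, 2], [1, 4], [1, 7], [1, 8], [1, 10], [1, 13], [1, 21], [2, 4], [2, 5], [2, 6], [2, 13], [2, 17], [0, 1, 2]]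

/-- the coefficients of the 36 matrix units in the 36 words, two bits per word -/
def cT : List ℕ :=
  [0x52e5b96cc135473f06,
   0x332fb672bd702797fb,
   0x111144500115,
   0x217a56838ae842407b,
   0xb5128eb785a,
   0x32472b7fd68c771a23,
   0x20aec8088cb5,
   0x5255a0ffd34ec3b440,
   0x101004004005,
   0xb5102c44045,
   0x8a800808a0,
   0xa0880360e4d9d6b18,
   0xf8cea811c48eb478b,
   0x2513e7fc6213aee319,
   0x5255a0f2115c8490eb,
   0x32472b7fd69b98a8c6,
   0xa0880360e588c447d,
   0x1945f5d1891d72caec,
   0xffccdd247ae81b007,
   0x12e943684ce1d4b309,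
   0x3fbfb0feec0f,
   0x52e5b96cc10a53b4f7,
   0x20aec80899af,
   0xf8cea811c6aec70be,
   0x12e943684cc4317959,
   0x2179386147bacfdcd3,
   0x31ff504fbdcc329c0a,
   0x332fb672bd616da7cf,
   0x5255a0ffd360dc1b9e,
   0x2513e7fc6210e0c935,
   0x3fbf8fc8ccef,
   0x31ff504fbdc0c2600f,
   0x3303ccc000f0,
   0x111144404055,
   0x101004004000,
   0x5255a0f2114d8fb4c5]

/-- the coefficient list of a row code -/
def coefL (r : ℕ) : List K4 := (List.range 36).map fun t => kd (r >>> (2 * t))

/-- a linear combination of word products -/
def comb (cs : List K4) (ws : List (List ℕ)) : Matrix (Fin 6) (Fin 6) K4 :=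
  (List.zipWith (fun c w => c • wm w) cs ws).sum

theorem wL_lt : ∀ w ∈ wL, ∀ k ∈ w, k < 315 := by decide

set_option maxRecDepth 100000 in
/-- the certificate: every matrix unit is a combination of the 36 word products -/
theorem cert : ∀ i j : Fin 6,
    comb (coefL (cT.getD (6 * i.val + j.val) 0)) wL = Matrix.single i j (1 : K4) := by
  decide +kernel

theorem comm_wm (M : Matrix (Fin 6) (Fin 6) K4) (h : ∀ k : ℕ, k < 315 → M * mu k = mu k * M) :
    ∀ w : List ℕ, (∀ k ∈ w, k < 315) → M * wm w = wm w * M := by
  intro w
  induction w with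
  | nil =>
    intro _
    show M * 1 = 1 * M
    rw [mul_one, one_mul]
  | cons k w ih =>
    intro hw
    have e : wm (k :: w) = mu k * wm w := by
      unfold wm
      rw [List.map_cons, List.prod_cons]
    rw [e, ← mul_assoc, h k (hw k List.mem_cons_self), mul_assoc,
      ih (fun k hk => hw k (List.mem_cons_of_mem _ hk)), mul_assoc]

theorem comm_comb (M : Matrix (Fin 6) (Fin 6) K4) :
    ∀ (ws : List (List ℕ)) (cs : List K4), (∀ w ∈ ws, M * wm w = wm w * M) →
      M * comb cs ws = comb cs ws * M := by
  intro ws
  induction ws with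
  | nil =>
    intro cs _
    have e : comb cs [] = 0 := by
      unfold comb
      rw [List.zipWith_nil_right, List.sum_nil]
    rw [e, mul_zero, zero_mul]
  | cons w ws ih =>
    intro cs hw
    cases cs with
    | nil =>
      have e : comb [] (w :: ws) = 0 := by
        unfold comb
        rw [List.zipWith_nil_left, List.sum_nil]
      rw [e, mul_zero, zero_mul]
    | cons c cs =>
      have e : comb (c :: cs) (w :: ws) = c • wm w + comb cs ws := by
        unfold comb
        rw [List.zipWith_cons_cons, List.sum_cons]
      rw [e, mul_add, add_mul, Matrix.mul_smul, Matrix.smul_mul, hw w List.mem_cons_self,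
        ih cs (fun w' hw' => hw w' (List.mem_cons_of_mem _ hw'))]

/-- XP-CENT -/
theorem centJ : StCentJ := by
  intro M h hJ
  have hc : ∀ i j : Fin 6, Commute (Matrix.single i j (1 : K4)) M := by
    intro i j
    rw [← cert i j]
    exact (comm_comb M wL _ (fun w hw => comm_wm M h w (wL_lt w hw))).symm
  obtain ⟨l, hl⟩ := Matrix.mem_range_scalar_of_commute_single (fun i j _ => hc i j)
  have hM : M = l • (1 : Matrix (Fin 6) (Fin 6) K4) := by
    rw [← hl]
    ext i j
    rw [Matrix.scalar_apply, Matrix.diagonal_apply, Matrix.smul_apply, Matrix.one_apply, smul_eq_mul,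
      mul_ite, mul_one, mul_zero]
  subst hM
  have h1 : l * l = 1 := by
    have e := congrFun (congrFun hJ 0) 3
    rw [Matrix.transpose_smul, Matrix.transpose_one, Matrix.smul_mul, Matrix.one_mul,
      Matrix.mul_smul, Matrix.mul_one, smul_smul, Matrix.smul_apply, smul_eq_mul] at e
    have e3 : Jm 0 3 = 1 := rfl
    rw [e3, mul_one] at e
    exact e
  rw [F4.sq_eq_one l h1, one_smul]

example : Cfsg.Agent.H9.XP.StCentJ := centJ

end Cfsg.Agent.H44.XP
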